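import Cfsg.Agent.LocalEven.Goldschmidt.Setup
import Cfsg.Agent.Coprime.SolvableBasics

/-! Pairs of index three with a common Sylow two-subgroup: basic facts on the coset graph,
without any assumption on the characteristic. -/

set_option autoImplicit false
set_option linter.style.haveILetI false
set_option linter.unusedSectionVars false

open scoped commutatorElement

namespace Cfsg.Lib.GoldBound

open Cfsg MulAction Cfsg.Lib.Amalgam
open Cfsg.Lib.Goldschmidt (G S Q Z cs mem_cs conj_mem_cs omegaZ mem_omegaZ omegaZ_cs G_smul S_smul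
  Q_smul Z_smul conj_mem_G conj_mem_Q conj_mem_S conj_mem_Z S_comm Z_comm)

variable {X : Type*} [Group X]

/-- The local hypotheses on one side. -/
structure EdgeP (T M : Subgroup X) : Prop where
  le : T ≤ M
  fin : Finite M
  pgroup : IsPGroup 2 T
  idx : T.relIndex M = 3
  core_le : pCoreOf 2 M ≤ T
  two : (pCoreOf 2 M).relIndex T = 2

theorem EdgeP.map {T M : Subgroup X} (h : EdgeP T M) (g : X) : EdgeP (cs g T) (cs g M) where
  le := Subgroup.map_mono h.le
  fin := by
    haveI := h.fin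
    exact Finite.of_equiv _ (M.equivMapOfInjective _ (MulAut.conj g).injective).toEquiv
  pgroup := h.pgroup.map _
  idx := by
    rw [Subgroup.relIndex_map_map_of_injective T M (MulAut.conj g).injective]; exact h.idx
  core_le := by rw [pCoreOf_map_conj]; exact Subgroup.map_mono h.core_le
  two := by
    rw [pCoreOf_map_conj, Subgroup.relIndex_map_map_of_injective _ _ (MulAut.conj g).injective]
    exact h.two

theorem EdgeP.not_normal {T M : Subgroup X} (h : EdgeP T M) :
    ¬ M ≤ Subgroup.normalizer (T : Set X) := by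
  intro hn
  haveI := h.fin
  haveI : (T.subgroupOf M).Normal := Subgroup.normal_subgroupOf_of_le_normalizer hn
  have h1 : T.subgroupOf M ≤ pCore 2 M :=
    le_sSup ⟨inferInstance, h.pgroup.of_equiv (Subgroup.subgroupOfEquivOfLe h.le).symm⟩
  have h2 : T ≤ pCoreOf 2 M := fun x hx => ⟨⟨x, h.le hx⟩, h1 hx, rfl⟩
  have := h.two
  rw [Subgroup.relIndex_eq_one.mpr h2] at this
  omega

/-- The hypotheses on a pair, with the ambient group generated by it. -/
structure Pair (M₁ M₂ : Subgroup X) : Prop where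
  gen : M₁ ⊔ M₂ = ⊤
  side₁ : EdgeP (M₁ ⊓ M₂) M₁
  side₂ : EdgeP (M₁ ⊓ M₂) M₂
  core : ∀ N : Subgroup X, N ≤ M₁ ⊓ M₂ → N.Normal → N = ⊥

variable {M₁ M₂ : Subgroup X}

theorem Pair.symm (h : Pair M₁ M₂) : Pair M₂ M₁ where
  gen := by rw [sup_comm]; exact h.gen
  side₁ := by rw [inf_comm]; exact h.side₂
  side₂ := by rw [inf_comm]; exact h.side₁
  core N hN := h.core N (by rwa [inf_comm])

theorem le_normalizer_of_conj {H N : Subgroup X} (hc : ∀ a ∈ H, ∀ y ∈ N, a * y * a⁻¹ ∈ N) :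
    H ≤ Subgroup.normalizer (N : Set X) := fun a ha => Subgroup.mem_normalizer_iff.mpr fun y =>
  ⟨hc a ha y, fun hy => by simpa [mul_assoc] using hc a⁻¹ (inv_mem ha) _ hy⟩

theorem cs_eq_of_normalizer {H : Subgroup X} {g : X}
    (hg : g ∈ Subgroup.normalizer (H : Set X)) : cs g H = H := by
  ext x
  rw [mem_cs]
  exact (Subgroup.mem_normalizer_iff''.mp hg x).symm

theorem mem_centralizer_of {H : Subgroup X} {g : X} (hc : ∀ x ∈ H, Commute g x) :
    g ∈ Subgroup.centralizer (H : Set X) :=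
  Subgroup.mem_centralizer_iff.mpr fun x hx => (hc x hx).symm.eq

theorem commute_of_centralizer {H : Subgroup X} {g : X}
    (hg : g ∈ Subgroup.centralizer (H : Set X)) {x : X} (hx : x ∈ H) : Commute g x :=
  (Subgroup.mem_centralizer_iff.mp hg x hx).symm

local notation "Γ" => cosetGraph M₁ M₂
local notation "Vx" => CosetVertex M₁ M₂

theorem type_adj {u v : Vx} (huv : (Γ).Adj u v) : v.isLeft = !u.isLeft := by
  obtain ⟨x, ⟨rfl, rfl⟩ | ⟨rfl, rfl⟩⟩ := adj_cases huv <;> rfl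

theorem type_smul (g : X) (u : Vx) : (g • u).isLeft = u.isLeft := by
  cases u <;> rfl

theorem ne_of_adj {u v : Vx} (huv : (Γ).Adj u v) : u ≠ v := fun e => by
  have := type_adj huv
  rw [e] at this
  cases h : v.isLeft <;> simp_all

namespace Pair

variable (h : Pair M₁ M₂)
include h

theorem amalgam : IsAmalgamPair M₁ M₂ := by
  refine ⟨h.gen, fun e => ?_, fun e => ?_, fun N hN hn => h.core N hN hn⟩
  · have := h.side₂.idx
    rw [e, top_inf_eq, Subgroup.relIndex_self] at this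
    omega
  · have := h.side₁.idx
    rw [e, inf_top_eq, Subgroup.relIndex_self] at this
    omega

theorem edge {u v : Vx} (huv : (Γ).Adj u v) : EdgeP (S u v) (G u) := by
  obtain ⟨x, ⟨rfl, rfl⟩ | ⟨rfl, rfl⟩⟩ := adj_cases huv
  · have := h.side₁.map x
    rwa [cs, cs, ← stab_inl_mk (M₁ := M₁) (M₂ := M₂) x, ← edge_mk (M₁ := M₁) (M₂ := M₂) x] at this
  · have := h.side₂.map x
    rw [cs, cs, ← stab_inr_mk (M₁ := M₁) (M₂ := M₂) x, ← edge_mk (M₁ := M₁) (M₂ := M₂) x] at this
    rw [S_comm]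
    exact this

theorem exists_adj (u : Vx) : ∃ v, (Γ).Adj u v := by
  rcases u with a | a
  · induction a using QuotientGroup.induction_on with
    | H x => exact ⟨_, adj_inl_inr x⟩
  · induction a using QuotientGroup.induction_on with
    | H x => exact ⟨_, (adj_inl_inr x).symm⟩

theorem finite_G (u : Vx) : Finite (G u) := by
  obtain ⟨v, hv⟩ := h.exists_adj u
  exact (h.edge hv).fin

theorem finite_S (u v : Vx) : Finite (S u v) := by
  haveI := h.finite_G u
  exact Finite.of_injective (Subgroup.inclusion (inf_le_left : S u v ≤ G u))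
    (Subgroup.inclusion_injective _)

theorem Q_le_G (u : Vx) : Q u ≤ G u := Subgroup.map_subtype_le _

theorem Q_le_S {u v : Vx} (huv : (Γ).Adj u v) : Q u ≤ S u v := (h.edge huv).core_le

theorem fix_adj {u v : Vx} (huv : (Γ).Adj u v) {g : X} (hg : g ∈ Q u) : g • v = v :=
  mem_stabilizer_iff.mp (h.Q_le_S huv hg).2

theorem smul_adj {u v : Vx} (huv : (Γ).Adj u v) {g : X} (hg : g ∈ G u) : (Γ).Adj u (g • v) := by
  have := adj_smul g huv
  rwa [mem_stabilizer_iff.mp hg] at this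

theorem Q_normal (u : Vx) {g q : X} (hg : g ∈ G u) (hq : q ∈ Q u) : g * q * g⁻¹ ∈ Q u := by
  have := conj_mem_Q (g := g) hq
  rwa [mem_stabilizer_iff.mp hg] at this

theorem mul_mem_Q_of_not {u v : Vx} (huv : (Γ).Adj u v) {a b : X} (ha : a ∈ S u v) (hb : b ∈ S u v)
    (ha' : a ∉ Q u) (hb' : b ∉ Q u) : a * b ∈ Q u := by
  have h2 : ((Q u).subgroupOf (S u v)).index = 2 := (h.edge huv).two
  exact (Subgroup.mul_mem_iff_of_index_two h2 (a := ⟨a, ha⟩) (b := ⟨b, hb⟩)).mpr
    ⟨fun h' => absurd h' ha', fun h' => absurd h' hb'⟩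

theorem sq_mem_Q {u v : Vx} (huv : (Γ).Adj u v) {a : X} (ha : a ∈ S u v) : a * a ∈ Q u := by
  by_cases h' : a ∈ Q u
  · exact mul_mem h' h'
  · exact h.mul_mem_Q_of_not huv ha ha h' h'

theorem exists_not_mem_Q {u v : Vx} (huv : (Γ).Adj u v) : ∃ a ∈ S u v, a ∉ Q u := by
  by_contra! hne
  have := (h.edge huv).two
  rw [Subgroup.relIndex_eq_one.mpr (show S u v ≤ Q u from hne)] at this
  omega

theorem card_S {u v : Vx} (huv : (Γ).Adj u v) : Nat.card (S u v) = 2 * Nat.card (Q u) := by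
  have := Subgroup.card_mul_index ((Q u).subgroupOf (S u v))
  rw [Nat.card_congr (Subgroup.subgroupOfEquivOfLe (h.Q_le_S huv)).toEquiv] at this
  rw [← this, show ((Q u).subgroupOf (S u v)).index = 2 from (h.edge huv).two, mul_comm]

theorem eq_of_le_G {u v : Vx} (huv : (Γ).Adj u v) {H : Subgroup X} (h1 : S u v ≤ H)
    (h2 : H ≤ G u) : H = S u v ∨ H = G u := by
  have hp : ((S u v).relIndex (G u)).Prime := by rw [(h.edge huv).idx]; exact Nat.prime_three
  rw [← Subgroup.relIndex_mul_relIndex _ _ _ h1 h2, Nat.prime_mul_iff] at hp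
  rcases hp with ⟨-, h'⟩ | ⟨-, h'⟩
  · exact Or.inr (le_antisymm h2 (Subgroup.relIndex_eq_one.mp h'))
  · exact Or.inl (le_antisymm (Subgroup.relIndex_eq_one.mp h') h1)

theorem S_inj {u v w : Vx} (huv : (Γ).Adj u v) (huw : (Γ).Adj u w) (e : S u v = S u w) : v = w := by
  obtain ⟨g, hg, rfl⟩ := transitive huv huw
  set N : Subgroup X := Subgroup.normalizer (S u v : Set X) ⊓ G u with hN
  rcases h.eq_of_le_G huv (H := N) (le_inf Subgroup.le_normalizer inf_le_left) inf_le_right with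
    hN' | hN'
  · have hgN : g ∈ N := by
      refine ⟨Subgroup.mem_normalizer_iff.mpr fun x => ?_, hg⟩
      have e' : cs g (S u v) = S u v := by
        rw [← S_smul, mem_stabilizer_iff.mp hg]; exact e.symm
      constructor
      · intro hx; rw [← e']; exact conj_mem_cs hx
      · intro hx
        rw [← e'] at hx
        simpa [mem_cs, mul_assoc] using hx
    rw [hN'] at hgN
    exact (mem_stabilizer_iff.mp hgN.2).symm
  · refine absurd ?_ (h.edge huv).not_normal
    exact hN'.symm.le.trans inf_le_left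

theorem sup_S {u v w : Vx} (huv : (Γ).Adj u v) (huw : (Γ).Adj u w) (hne : v ≠ w) :
    S u v ⊔ S u w = G u := by
  rcases h.eq_of_le_G huv (H := S u v ⊔ S u w) le_sup_left (sup_le inf_le_left inf_le_left) with
    e | e
  · exfalso
    rcases h.eq_of_le_G huw (H := S u v) (le_of_le_of_eq le_sup_right e) inf_le_left with e' | e'
    · exact hne (h.S_inj huv huw e')
    · exact (h.edge huv).not_normal (e'.symm.le.trans Subgroup.le_normalizer)
  · exact e

theorem inf_S {u v w : Vx} (huv : (Γ).Adj u v) (huw : (Γ).Adj u w) (hne : v ≠ w) {g : X}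
    (hgv : g ∈ S u v) (hgw : g ∈ S u w) : g ∈ Q u := by
  by_contra hg
  refine hne (h.S_inj huv huw ?_)
  have key : ∀ {x y : Vx}, (Γ).Adj u x → (Γ).Adj u y → g ∈ S u x → g ∈ S u y →
      S u x ≤ S u y := by
    intro x y hx hy hgx hgy a ha
    by_cases ha' : a ∈ Q u
    · exact h.Q_le_S hy ha'
    · have hq := h.Q_le_S hy (h.mul_mem_Q_of_not hx ha hgx ha' hg)
      exact (Subgroup.mul_mem_cancel_right _ hgy).mp hq
  exact le_antisymm (key huv huw hgv hgw) (key huw huv hgw hgv)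

theorem mem_Q_of_fix {u v w : Vx} (huv : (Γ).Adj u v) (huw : (Γ).Adj u w) (hne : v ≠ w) {g : X}
    (hgu : g • u = u) (hgv : g • v = v) (hgw : g • w = w) : g ∈ Q u :=
  h.inf_S huv huw hne ⟨hgu, hgv⟩ ⟨hgu, hgw⟩

theorem smul_ne {u v w : Vx} (huv : (Γ).Adj u v) (huw : (Γ).Adj u w) (hne : w ≠ v) {g : X}
    (hg : g ∈ S u v) (hgQ : g ∉ Q u) : g • w ≠ w := fun e =>
  hgQ (h.inf_S huv huw hne.symm hg ⟨hg.1, e⟩)

theorem exists_rot {u v : Vx} (huv : (Γ).Adj u v) :
    ∃ x ∈ G u, x * x * x = 1 ∧ x • v ≠ v ∧ (x * x) • v ≠ v ∧ x • v ≠ (x * x) • v ∧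
      ∀ n, (Γ).Adj u n → n = v ∨ n = x • v ∨ n = (x * x) • v := by
  haveI := h.finite_G u
  haveI : Fact (Nat.Prime 3) := ⟨Nat.prime_three⟩
  set K := (S u v).subgroupOf (G u) with hKdef
  have hK : K.index = 3 := (h.edge huv).idx
  have hdvd : 3 ∣ Nat.card (G u) := hK ▸ K.index_dvd_card
  obtain ⟨x, hx⟩ := exists_prime_orderOf_dvd_card' 3 hdvd
  have hx3 : (x : X) * x * x = 1 := by
    have h1 := pow_orderOf_eq_one x
    rw [hx] at h1
    have h2 := congrArg Subtype.val h1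
    simpa [pow_succ] using h2
  have hx1 : (x : X) • v ≠ v := by
    intro e
    have hxS : (x : X) ∈ S u v := ⟨x.2, e⟩
    obtain ⟨k, hk⟩ := (h.edge huv).pgroup ⟨x, hxS⟩
    have hdvd2 : orderOf (x : X) ∣ 2 ^ k := orderOf_dvd_of_pow_eq_one (congrArg Subtype.val hk)
    rw [Subgroup.orderOf_coe, hx] at hdvd2
    have := Nat.prime_three.dvd_of_dvd_pow hdvd2
    omega
  have hx2 : ((x : X) * x) • v ≠ v := by
    intro e
    apply hx1
    calc (x : X) • v = (x : X) • (((x : X) * x) • v) := by rw [e]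
      _ = v := by rw [← mul_smul, ← mul_assoc, hx3, one_smul]
  have hx12 : (x : X) • v ≠ ((x : X) * x) • v := by
    intro e
    rw [mul_smul] at e
    exact hx1 (smul_left_cancel _ e).symm
  refine ⟨x, x.2, hx3, hx1, hx2, hx12, fun n hn => ?_⟩
  obtain ⟨g, hg, rfl⟩ := transitive huv hn
  let φ : Fin 3 → ↥(G u) ⧸ K :=
    ![((1 : ↥(G u)) : ↥(G u) ⧸ K), (x : ↥(G u) ⧸ K), ((x * x : ↥(G u)) : ↥(G u) ⧸ K)]
  have hsm : ∀ a c : ↥(G u), (a : ↥(G u) ⧸ K) = c → (a : X) • v = (c : X) • v := by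
    intro a c e
    rw [QuotientGroup.eq] at e
    have := mem_stabilizer_iff.mp (Subgroup.mem_subgroupOf.mp e).2
    rw [Subgroup.coe_mul, Subgroup.coe_inv, mul_smul, inv_smul_eq_iff] at this
    exact this.symm
  have hinj : Function.Injective φ := by
    intro i j e
    fin_cases i <;> fin_cases j <;> simp [φ] at e ⊢ <;> have e' := hsm _ _ e <;> simp at e' <;>
      first
        | exact hx1 e' | exact hx1 e'.symm | exact hx2 e' | exact hx2 e'.symm
        | exact hx12 e' | exact hx12 e'.symm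
  have hbij := hinj.bijective_of_nat_card_le (le_of_eq (by
    rw [Nat.card_fin]; exact hK))
  obtain ⟨i, hi⟩ := hbij.2 ((⟨g, hg⟩ : ↥(G u)) : ↥(G u) ⧸ K)
  fin_cases i <;> simp [φ] at hi <;> have e' := hsm _ _ hi <;> simp at e'
  · exact Or.inl e'.symm
  · exact Or.inr (Or.inl e'.symm)
  · exact Or.inr (Or.inr e'.symm)

/-- A vertex has exactly three neighbours. -/
theorem three {u a b c n : Vx} (ha : (Γ).Adj u a) (hb : (Γ).Adj u b) (hc : (Γ).Adj u c)
    (hn : (Γ).Adj u n) (hab : a ≠ b) (hac : a ≠ c) (hbc : b ≠ c) : n = a ∨ n = b ∨ n = c := by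
  obtain ⟨x, -, -, -, -, -, hall⟩ := h.exists_rot ha
  rcases hall b hb with e1 | e1 | e1 <;> rcases hall c hc with e2 | e2 | e2 <;>
    rcases hall n hn with e3 | e3 | e3 <;> subst e1 <;> subst e2 <;> subst e3 <;>
    first
      | exact absurd rfl hab | exact absurd rfl hac | exact absurd rfl hbc
      | exact Or.inl rfl | exact Or.inr (Or.inl rfl) | exact Or.inr (Or.inr rfl)

theorem others {u v : Vx} (huv : (Γ).Adj u v) :
    ∃ a b, (Γ).Adj u a ∧ (Γ).Adj u b ∧ a ≠ v ∧ b ≠ v ∧ a ≠ b := by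
  obtain ⟨x, hx, -, h1, h2, h3, -⟩ := h.exists_rot huv
  exact ⟨_, _, h.smul_adj huv hx, h.smul_adj huv (mul_mem hx hx), h1, h2, h3⟩

theorem exists_ne_adj {u v : Vx} (huv : (Γ).Adj u v) : ∃ w, (Γ).Adj u w ∧ w ≠ v :=
  let ⟨a, _, ha, _, hne, _, _⟩ := h.others huv
  ⟨a, ha, hne⟩

theorem exists_third {u v w : Vx} (huv : (Γ).Adj u v) (huw : (Γ).Adj u w) :
    ∃ n, (Γ).Adj u n ∧ n ≠ v ∧ n ≠ w := by
  obtain ⟨a, b, ha, hb, hav, hbv, hab⟩ := h.others huv
  by_cases e : a = w
  · exact ⟨b, hb, hbv, fun e' => hab (e.trans e'.symm)⟩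
  · exact ⟨a, ha, hav, e⟩

/-- Of three neighbours different from a given one two coincide. -/
theorem two_others {u v a b c : Vx} (huv : (Γ).Adj u v) (ha : (Γ).Adj u a) (hb : (Γ).Adj u b)
    (hc : (Γ).Adj u c) (hav : a ≠ v) (hbv : b ≠ v) (hcv : c ≠ v) (hab : a ≠ b) :
    c = a ∨ c = b :=
  (h.three huv ha hb hc hav.symm hbv.symm hab).resolve_left hcv

/-- The stabiliser of an edge is transitive on the other neighbours. -/
theorem exists_map {u v a b : Vx} (huv : (Γ).Adj u v) (ha : (Γ).Adj u a) (hb : (Γ).Adj u b)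
    (hav : a ≠ v) (hbv : b ≠ v) : ∃ g ∈ S u v, g • a = b := by
  by_cases hab : a = b
  · exact ⟨1, one_mem _, by rw [one_smul, hab]⟩
  obtain ⟨g, hg, hgQ⟩ := h.exists_not_mem_Q huv
  refine ⟨g, hg, ?_⟩
  rcases h.two_others huv ha hb (h.smul_adj ha hg.1) hav hbv
    (fun e => hav (smul_left_cancel g (e.trans (mem_stabilizer_iff.mp hg.2).symm))) hab with e | e
  · exact absurd e (h.smul_ne huv ha hav hg hgQ)
  · exact e

theorem G_sup {u v : Vx} (huv : (Γ).Adj u v) : G u ⊔ G v = ⊤ := by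
  obtain ⟨x, ⟨rfl, rfl⟩ | ⟨rfl, rfl⟩⟩ := adj_cases huv
  · rw [G, G, stab_inl_mk, stab_inr_mk, ← Subgroup.map_sup, h.gen,
      Subgroup.map_top_of_surjective _ (MulAut.conj x).surjective]
  · rw [sup_comm, G, G, stab_inl_mk, stab_inr_mk, ← Subgroup.map_sup, h.gen,
      Subgroup.map_top_of_surjective _ (MulAut.conj x).surjective]

/-- Nothing nontrivial in an edge stabiliser is normalised at both ends. -/
theorem eq_bot_of_edge {u v : Vx} (huv : (Γ).Adj u v) {N : Subgroup X} (hN : N ≤ S u v)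
    (hu : G u ≤ Subgroup.normalizer (N : Set X)) (hv : G v ≤ Subgroup.normalizer (N : Set X)) :
    N = ⊥ := by
  refine eq_bot_of_transitive h.amalgam huv hN (fun a b ha hb => ?_) (fun a b ha hb => ?_)
  · obtain ⟨g, hg, e⟩ := transitive ha hb
    exact ⟨g, ⟨hu hg, hg⟩, e⟩
  · obtain ⟨g, hg, e⟩ := transitive ha hb
    exact ⟨g, ⟨hv hg, hg⟩, e⟩

theorem Q_ne {u v : Vx} (huv : (Γ).Adj u v) (hne : Q u ≠ ⊥) : ¬ Q u ≤ Q v := by
  intro hle
  have hcard : Nat.card (Q u) = Nat.card (Q v) := by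
    have h1 := h.card_S huv
    have h2 := h.card_S huv.symm
    rw [S_comm] at h2
    omega
  haveI := h.finite_S u v
  haveI : Finite (Q v) := Finite.of_injective
    (Subgroup.inclusion (show Q v ≤ S u v from by rw [S_comm]; exact h.Q_le_S huv.symm))
    (Subgroup.inclusion_injective _)
  have e : Q u = Q v := Subgroup.eq_of_le_of_card_ge hle hcard.ge
  refine hne (h.eq_bot_of_edge huv (h.Q_le_S huv) ?_ ?_)
  · exact le_normalizer_of_conj fun a ha y hy => h.Q_normal u ha hy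
  · rw [e]
    exact le_normalizer_of_conj fun a ha y hy => h.Q_normal v ha hy

/-- All edge stabilisers have the same order. -/
theorem card_S_eq {u v u' v' : Vx} (huv : (Γ).Adj u v) (huv' : (Γ).Adj u' v') :
    Nat.card (S u v) = Nat.card (S u' v') := by
  have key : ∀ {u v : Vx}, (Γ).Adj u v → Nat.card (S u v) = Nat.card ↥(M₁ ⊓ M₂) := by
    intro u v huv
    obtain ⟨x, ⟨rfl, rfl⟩ | ⟨rfl, rfl⟩⟩ := adj_cases huv
    · rw [S, edge_mk]
      exact (Nat.card_congr ((M₁ ⊓ M₂).equivMapOfInjective _ (MulAut.conj x).injective).toEquiv).symm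
    · rw [S_comm, S, edge_mk]
      exact (Nat.card_congr ((M₁ ⊓ M₂).equivMapOfInjective _ (MulAut.conj x).injective).toEquiv).symm
  rw [key huv, key huv']

/-- A nontrivial normal subgroup of an edge stabiliser meets the edge centre. -/
theorem exists_mem_Z {u v : Vx} (huv : (Γ).Adj u v) {N : Subgroup X} (hN : N ≤ S u v)
    (hne : N ≠ ⊥) (hnorm : S u v ≤ Subgroup.normalizer (N : Set X)) :
    ∃ z ∈ N, z ∈ Z u v ∧ z ≠ 1 := by
  haveI := h.finite_S u v
  haveI : Fact (Nat.Prime 2) := ⟨Nat.prime_two⟩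
  haveI : Group.IsNilpotent ↥(S u v) := (h.edge huv).pgroup.isNilpotent
  haveI : (N.subgroupOf (S u v)).Normal := Subgroup.normal_subgroupOf_of_le_normalizer hnorm
  have hne' : N.subgroupOf (S u v) ≠ ⊥ := fun e => hne (by
    rw [eq_bot_iff]
    intro x hx
    have : (⟨x, hN hx⟩ : S u v) ∈ N.subgroupOf (S u v) := hx
    rw [e, Subgroup.mem_bot] at this
    exact congrArg Subtype.val this)
  have h1 := Cfsg.Lib.Coprime.inf_center_ne_bot (N.subgroupOf (S u v)) hne'
  obtain ⟨⟨z, hz⟩, hz1⟩ := (Subgroup.ne_bot_iff_exists_ne_one.mp h1)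
  obtain ⟨w, hw, hw2, hw1⟩ : ∃ w ∈ N.subgroupOf (S u v) ⊓ Subgroup.center ↥(S u v),
      w ^ 2 = 1 ∧ w ≠ 1 := by
    obtain ⟨k, hk⟩ := (h.edge huv).pgroup z
    induction k generalizing z with
    | zero => exact absurd (Subtype.ext (by simpa using hk)) hz1
    | succ k ih =>
      by_cases e : z ^ 2 = 1
      · exact ⟨z, hz, e, fun e' => hz1 (Subtype.ext e')⟩
      · exact ih (z ^ 2) (pow_mem hz 2) (fun e' => e (congrArg Subtype.val e'))
          (by rw [← pow_mul, ← pow_succ']; exact hk)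
  refine ⟨w, hw.1, mem_omegaZ.mpr ⟨w.2, congrArg Subtype.val hw2, fun s hs => ?_⟩, fun e => hw1 (Subtype.ext e)⟩
  exact (congrArg Subtype.val (Subgroup.mem_center_iff.mp hw.2 ⟨s, hs⟩)).symm

end Pair

end Cfsg.Lib.GoldBound
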