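import Cfsg.Agent.LocalEven.GoldBound.Basic

/-! The reduction to characteristic two with one central side, and the centres of the vertices. -/

set_option autoImplicit false
set_option linter.style.haveILetI false
set_option linter.unusedSectionVars false

open scoped commutatorElement

namespace Cfsg.Lib.GoldBound

open Cfsg MulAction Cfsg.Lib.Amalgam
open Cfsg.Lib.Goldschmidt (G S Q Z cs mem_cs conj_mem_cs omegaZ mem_omegaZ omegaZ_cs G_smul S_smul
  Q_smul Z_smul conj_mem_G conj_mem_Q conj_mem_S conj_mem_Z S_comm Z_comm)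

variable {X : Type*} [Group X] {M₁ M₂ : Subgroup X}

local notation "Γ" => cosetGraph M₁ M₂
local notation "Vx" => CosetVertex M₁ M₂

/-- The module of a vertex: the product of the centres of the edges at it. -/
abbrev Zv (u : CosetVertex M₁ M₂) : Subgroup X := Goldschmidt.V u

/-- The elements lying in `O₂` of all vertices that a walk of at most `n` steps reaches. -/
def ker : ℕ → CosetVertex M₁ M₂ → Subgroup X
  | 0, u => Q u
  | n + 1, u => Q u ⊓ ⨅ (w : CosetVertex M₁ M₂) (_ : (cosetGraph M₁ M₂).Adj u w), ker n w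

theorem mem_ker_succ {n : ℕ} {u : Vx} {x : X} :
    x ∈ ker (n + 1) u ↔ x ∈ Q u ∧ ∀ w, (Γ).Adj u w → x ∈ ker n w := by
  simp only [ker, Subgroup.mem_inf, Subgroup.mem_iInf]

theorem ker_le (n : ℕ) (u : Vx) : ker n u ≤ Q u := by
  cases n with
  | zero => exact le_rfl
  | succ n => exact inf_le_left

theorem conj_mem_ker {g x : X} {n : ℕ} {u : Vx} (hx : x ∈ ker n u) :
    g * x * g⁻¹ ∈ ker n (g • u) := by
  induction n generalizing u with
  | zero => exact conj_mem_Q hx
  | succ n ih =>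
    rw [mem_ker_succ] at hx ⊢
    refine ⟨conj_mem_Q hx.1, fun w hw => ?_⟩
    have h1 := adj_smul g⁻¹ hw
    rw [inv_smul_smul] at h1
    simpa using ih (hx.2 _ h1)

theorem ker_normal {n : ℕ} {u : Vx} : G u ≤ Subgroup.normalizer (ker n u : Set X) :=
  le_normalizer_of_conj fun g hg x hx => by
    have := conj_mem_ker (g := g) hx
    rwa [mem_stabilizer_iff.mp hg] at this

theorem conj_mem_Zv {g x : X} {u : Vx} (hx : x ∈ Zv u) : g * x * g⁻¹ ∈ Zv (g • u) :=
  Goldschmidt.conj_mem_V hx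

theorem Z_le_Zv {u v : Vx} (huv : (Γ).Adj u v) : Z u v ≤ Zv u := le_iSup₂_of_le v huv le_rfl

/-- Cardinals: intersecting with `O₂` costs at most a factor two. -/
theorem Pair.card_le_inf (h : Pair M₁ M₂) {u v : Vx} (huv : (Γ).Adj u v) {K : Subgroup X}
    (hK : K ≤ S u v) : Nat.card K ≤ 2 * Nat.card ↥(K ⊓ Q u) := by
  have h1 := Subgroup.card_mul_index ((K ⊓ Q u).subgroupOf K)
  rw [Nat.card_congr (Subgroup.subgroupOfEquivOfLe (inf_le_left : K ⊓ Q u ≤ K)).toEquiv] at h1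
  have h2 : ((K ⊓ Q u).subgroupOf K).index ≤ 2 := by
    show (K ⊓ Q u).relIndex K ≤ 2
    rw [inf_comm, Subgroup.inf_relIndex_right, ← (h.edge huv).two]
    exact Subgroup.relIndex_le_of_le_right hK (by rw [(h.edge huv).two]; omega)
  rw [← h1, mul_comm 2]
  exact Nat.mul_le_mul_left _ h2

/-- A vertex group not of characteristic two forces a small pair. -/
theorem Pair.degenerate (h : Pair M₁ M₂) {u v : Vx} (huv : (Γ).Adj u v)
    (hd : ¬ G u ⊓ Subgroup.centralizer (Q u : Set X) ≤ Q u) : Nat.card (S u v) ≤ 16 := by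
  set K : Subgroup X := G u ⊓ Subgroup.centralizer (Q u : Set X) with hKdef
  have hKn : ∀ g ∈ G u, ∀ k ∈ K, g * k * g⁻¹ ∈ K := by
    intro g hg k hk
    refine ⟨(G u).mul_mem ((G u).mul_mem hg hk.1) ((G u).inv_mem hg),
      mem_centralizer_of fun q hq => ?_⟩
    have h1 : Commute k (g⁻¹ * q * g) :=
      commute_of_centralizer hk.2 (by
        have := h.Q_normal u (inv_mem hg) hq
        rwa [inv_inv] at this)
    have h2 := h1.map (MulAut.conj g).toMonoidHom
    simpa [mul_assoc] using h2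
  have hGu : G u ≤ K ⊔ S u v := by
    rcases h.eq_of_le_G huv (H := K ⊔ S u v) le_sup_right (sup_le inf_le_left inf_le_left) with
      e | e
    · refine absurd (fun k hk => ?_) hd
      have hall : ∀ w, (Γ).Adj u w → k ∈ S u w := by
        intro w hw
        obtain ⟨g, hg, rfl⟩ := transitive huv hw
        have h1 := (le_sup_left : K ≤ K ⊔ S u v) (hKn g⁻¹ (inv_mem hg) k hk)
        rw [e, inv_inv] at h1
        have h2 := conj_mem_S (g := g) h1
        rw [mem_stabilizer_iff.mp hg] at h2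
        simpa [mul_assoc] using h2
      obtain ⟨w, hw, hne⟩ := h.exists_ne_adj huv
      exact h.inf_S hw huv hne (hall w hw) (hall v huv)
    · exact e.ge
  have hN : ker 1 v = ⊥ := by
    refine h.eq_bot_of_edge huv ((ker_le 1 v).trans ?_) ?_ ker_normal
    · rw [S_comm]; exact h.Q_le_S huv.symm
    · refine hGu.trans (sup_le (le_normalizer_of_conj fun k hk y hy => ?_) ?_)
      · have hy' : y ∈ Q u := (mem_ker_succ.mp hy).2 u huv.symm
        rwa [(commute_of_centralizer hk.2 hy').eq, mul_inv_cancel_right]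
      · exact inf_le_right.trans ker_normal
  obtain ⟨a, b, ha, hb, hau, hbu, hab⟩ := h.others huv.symm
  have s1 := h.card_le_inf (u := u) (v := v) huv (K := Q v) (by rw [S_comm]; exact h.Q_le_S huv.symm)
  have s2 := h.card_le_inf (u := a) (v := v) ha.symm (K := Q v ⊓ Q u)
    (inf_le_left.trans (by rw [S_comm]; exact h.Q_le_S ha))
  have s3 := h.card_le_inf (u := b) (v := v) hb.symm (K := Q v ⊓ Q u ⊓ Q a)
    ((inf_le_left.trans inf_le_left).trans (by rw [S_comm]; exact h.Q_le_S hb))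
  have e : Q v ⊓ Q u ⊓ Q a ⊓ Q b = ⊥ := by
    rw [eq_bot_iff, ← hN]
    intro y hy
    refine mem_ker_succ.mpr ⟨hy.1.1.1, fun w hw => ?_⟩
    rcases h.three huv.symm ha hb hw hau.symm hbu.symm hab with rfl | rfl | rfl
    · exact hy.1.1.2
    · exact hy.1.2
    · exact hy.2
  rw [e, Subgroup.card_bot] at s3
  have := h.card_S huv.symm
  rw [S_comm] at this
  omega

/-- Characteristic two, one side centralising the edge centre and the other not. -/
structure Setting (M₁ M₂ : Subgroup X) : Prop extends Pair M₁ M₂ where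
  char₁ : M₁ ⊓ Subgroup.centralizer (pCoreOf 2 M₁ : Set X) ≤ pCoreOf 2 M₁
  char₂ : M₂ ⊓ Subgroup.centralizer (pCoreOf 2 M₂ : Set X) ≤ pCoreOf 2 M₂
  act : ¬ M₁ ≤ Subgroup.centralizer (omegaZ (M₁ ⊓ M₂) : Set X)
  cent : M₂ ≤ Subgroup.centralizer (omegaZ (M₁ ⊓ M₂) : Set X)

theorem cs_centralizer_le {H K : Subgroup X} (g : X)
    (hle : H ≤ Subgroup.centralizer (K : Set X)) :
    cs g H ≤ Subgroup.centralizer (cs g K : Set X) := by
  rintro _ ⟨x, hx, rfl⟩
  refine mem_centralizer_of fun y hy => ?_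
  obtain ⟨z, hz, rfl⟩ := hy
  exact (commute_of_centralizer (hle hx) hz).map _

theorem cs_inv_cs (g : X) (H : Subgroup X) : cs g⁻¹ (cs g H) = H := by
  ext x
  simp [mem_cs, mul_assoc]

namespace Setting

variable (h : Setting M₁ M₂)
include h

theorem char (u : Vx) : G u ⊓ Subgroup.centralizer (Q u : Set X) ≤ Q u := by
  have key : ∀ (M : Subgroup X), M ⊓ Subgroup.centralizer (pCoreOf 2 M : Set X) ≤ pCoreOf 2 M →
      ∀ g : X, cs g M ⊓ Subgroup.centralizer (pCoreOf 2 (cs g M) : Set X) ≤ pCoreOf 2 (cs g M) := by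
    intro M hM g x hx
    rw [pCoreOf_map_conj] at hx ⊢
    rw [mem_cs]
    refine hM ⟨mem_cs.mp hx.1, mem_centralizer_of fun q hq => ?_⟩
    have h1 := (commute_of_centralizer hx.2 (conj_mem_cs (g := g) hq)).map
      (MulAut.conj g⁻¹).toMonoidHom
    simpa [mul_assoc] using h1
  rcases u with a | a
  · induction a using QuotientGroup.induction_on with
    | H x =>
      have e : G (Sum.inl (x : X ⧸ M₁) : Vx) = cs x M₁ := stab_inl_mk x
      show G _ ⊓ Subgroup.centralizer (pCoreOf 2 (G (Sum.inl (x : X ⧸ M₁) : Vx)) : Set X) ≤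
        pCoreOf 2 (G (Sum.inl (x : X ⧸ M₁) : Vx))
      rw [e]; exact key _ h.char₁ x
  · induction a using QuotientGroup.induction_on with
    | H x =>
      have e : G (Sum.inr (x : X ⧸ M₂) : Vx) = cs x M₂ := stab_inr_mk x
      show G _ ⊓ Subgroup.centralizer (pCoreOf 2 (G (Sum.inr (x : X ⧸ M₂) : Vx)) : Set X) ≤
        pCoreOf 2 (G (Sum.inr (x : X ⧸ M₂) : Vx))
      rw [e]; exact key _ h.char₂ x

theorem Q_ne_bot (u : Vx) : Q u ≠ ⊥ := by
  intro e
  obtain ⟨v, hv⟩ := h.exists_adj u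
  obtain ⟨g, hg, hgQ⟩ := h.exists_not_mem_Q hv
  exact hgQ (h.char u ⟨hg.1, mem_centralizer_of fun x hx => by
    rw [e, Subgroup.mem_bot] at hx
    rw [hx]; exact Commute.one_right g⟩)

theorem exists_Q_not {u v : Vx} (huv : (Γ).Adj u v) : ∃ q ∈ Q u, q ∉ Q v :=
  SetLike.not_le_iff_exists.mp (h.Q_ne huv (h.Q_ne_bot u))

theorem Z_ne_bot {u v : Vx} (huv : (Γ).Adj u v) : ∃ z ∈ Z u v, z ≠ 1 := by
  obtain ⟨z, -, hz, hz1⟩ := h.exists_mem_Z huv le_rfl (fun e => by
    obtain ⟨g, hg, hgQ⟩ := h.exists_not_mem_Q huv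
    rw [e, Subgroup.mem_bot] at hg
    exact hgQ (hg ▸ one_mem _)) Subgroup.le_normalizer
  exact ⟨z, hz, hz1⟩

theorem Z_le_Q {u v : Vx} (huv : (Γ).Adj u v) : Z u v ≤ Q u := fun z hz =>
  h.char u ⟨(mem_omegaZ.mp hz).1.1, mem_centralizer_of fun q hq =>
    (mem_omegaZ.mp hz).2.2 q (h.Q_le_S huv hq)⟩

theorem Zv_le_omega (u : Vx) : Zv u ≤ omegaZ (Q u) :=
  iSup₂_le fun _ hv z hz => mem_omegaZ.mpr ⟨h.Z_le_Q hv hz, (mem_omegaZ.mp hz).2.1,
    fun q hq => (mem_omegaZ.mp hz).2.2 q (h.Q_le_S hv hq)⟩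

theorem Zv_le_Q (u : Vx) : Zv u ≤ Q u := fun _ hx => (mem_omegaZ.mp (h.Zv_le_omega u hx)).1

theorem Zv_sq {u : Vx} {x : X} (hx : x ∈ Zv u) : x * x = 1 := by
  rw [← sq]; exact (mem_omegaZ.mp (h.Zv_le_omega u hx)).2.1

theorem Zv_inv {u : Vx} {x : X} (hx : x ∈ Zv u) : x⁻¹ = x :=
  inv_eq_of_mul_eq_one_right (h.Zv_sq hx)

theorem Zv_comm_Q {u : Vx} {x q : X} (hx : x ∈ Zv u) (hq : q ∈ Q u) : Commute x q :=
  (mem_omegaZ.mp (h.Zv_le_omega u hx)).2.2 q hq

theorem Zv_comm {u : Vx} {x y : X} (hx : x ∈ Zv u) (hy : y ∈ Zv u) : Commute x y :=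
  h.Zv_comm_Q hx (h.Zv_le_Q u hy)

theorem Zv_conj {u : Vx} {g x : X} (hg : g ∈ G u) (hx : x ∈ Zv u) : g * x * g⁻¹ ∈ Zv u := by
  have := conj_mem_Zv (g := g) hx
  rwa [mem_stabilizer_iff.mp hg] at this

/-- The right hand vertices centralise their edge centres. -/
theorem cent_edge {v u : Vx} (hv : v.isLeft = false) (hvu : (Γ).Adj v u) :
    G v ≤ Subgroup.centralizer (Z v u : Set X) := by
  obtain ⟨x, ⟨rfl, rfl⟩ | ⟨rfl, rfl⟩⟩ := adj_cases hvu
  · simp at hv
  · rw [G, stab_inr_mk, Z_comm, Z, S, edge_mk]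
    show cs x M₂ ≤ Subgroup.centralizer (omegaZ (cs x (M₁ ⊓ M₂)) : Set X)
    rw [omegaZ_cs]
    exact cs_centralizer_le x h.cent

theorem act_edge {u v : Vx} (hu : u.isLeft = true) (huv : (Γ).Adj u v) :
    ¬ G u ≤ Subgroup.centralizer (Z u v : Set X) := by
  obtain ⟨x, ⟨rfl, rfl⟩ | ⟨rfl, rfl⟩⟩ := adj_cases huv
  · rw [G, stab_inl_mk, Z, S, edge_mk]
    show ¬ cs x M₁ ≤ Subgroup.centralizer (omegaZ (cs x (M₁ ⊓ M₂)) : Set X)
    rw [omegaZ_cs]
    intro hle
    refine h.act ?_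
    have := cs_centralizer_le x⁻¹ hle
    rwa [cs_inv_cs, cs_inv_cs] at this
  · simp at hu

theorem cent_comm {v u : Vx} (hv : v.isLeft = false) (hvu : (Γ).Adj v u) {g z : X}
    (hg : g ∈ G v) (hz : z ∈ Z v u) : Commute g z :=
  commute_of_centralizer (h.cent_edge hv hvu hg) hz

/-- The edge centres at a right hand vertex agree. -/
theorem Z_eq {v u u' : Vx} (hv : v.isLeft = false) (hu : (Γ).Adj v u) (hu' : (Γ).Adj v u') :
    Z v u' = Z v u := by
  obtain ⟨g, hg, rfl⟩ := transitive hu hu'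
  conv_lhs => rw [← mem_stabilizer_iff.mp hg]
  rw [Z_smul]
  refine cs_eq_of_normalizer (Subgroup.mem_normalizer_iff.mpr fun z => ?_)
  constructor
  · intro hz
    rwa [(h.cent_comm hv hu hg hz).eq, mul_inv_cancel_right]
  · intro hz
    have := (h.cent_comm hv hu (inv_mem hg) hz).eq
    have e : g⁻¹ * (g * z * g⁻¹) * g⁻¹⁻¹ = g * z * g⁻¹ := by rw [this, mul_inv_cancel_right]
    rw [inv_inv, ← mul_assoc, ← mul_assoc, inv_mul_cancel, one_mul, inv_mul_cancel_right] at e
    rwa [e]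

theorem Zv_right {v u : Vx} (hv : v.isLeft = false) (hu : (Γ).Adj v u) : Zv v = Z v u :=
  le_antisymm (iSup₂_le fun _ hw => (h.Z_eq hv hu hw).le) (Z_le_Zv hu)

theorem right_of_left {u v : Vx} (hu : u.isLeft = true) (huv : (Γ).Adj u v) : v.isLeft = false := by
  rw [type_adj huv, hu]; rfl

theorem left_of_right {u v : Vx} (hu : u.isLeft = false) (huv : (Γ).Adj u v) : v.isLeft = true := by
  rw [type_adj huv, hu]; rfl

/-- At a left hand vertex `u`, the edge centre is the module of the neighbour. -/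
theorem Z_eq_Zv {u v : Vx} (hu : u.isLeft = true) (huv : (Γ).Adj u v) : Z u v = Zv v := by
  rw [Z_comm, h.Zv_right (h.right_of_left hu huv) huv.symm]

theorem Zv_le_adj {u v : Vx} (hu : u.isLeft = true) (huv : (Γ).Adj u v) : Zv v ≤ Zv u :=
  (h.Z_eq_Zv hu huv).ge.trans (Z_le_Zv huv)

theorem cent_Zv {v : Vx} (hv : v.isLeft = false) {g z : X} (hg : g ∈ G v) (hz : z ∈ Zv v) :
    Commute g z := by
  obtain ⟨u, hu⟩ := h.exists_adj v
  rw [h.Zv_right hv hu] at hz
  exact h.cent_comm hv hu hg hz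

/-- An element centralising the module of a left hand vertex it fixes lies in `O₂`. -/
theorem mem_Q_of_commute {u : Vx} (hul : u.isLeft = true) {g : X} (hg : g ∈ G u)
    (hc : ∀ x ∈ Zv u, Commute g x) : g ∈ Q u := by
  by_contra hgQ
  obtain ⟨v, hv⟩ := h.exists_adj u
  set K : Subgroup X := G u ⊓ Subgroup.centralizer (Zv u : Set X) with hK
  have hgK : g ∈ K := ⟨hg, mem_centralizer_of hc⟩
  have hKnorm : ∀ k ∈ G u, ∀ x ∈ K, k * x * k⁻¹ ∈ K := by
    intro k hk x hx
    refine ⟨(G u).mul_mem ((G u).mul_mem hk hx.1) ((G u).inv_mem hk),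
      mem_centralizer_of fun y hy => ?_⟩
    have h1 := (commute_of_centralizer hx.2 (h.Zv_conj (inv_mem hk) hy)).map
      (MulAut.conj k).toMonoidHom
    simpa [mul_assoc] using h1
  rcases h.eq_of_le_G hv (H := K ⊔ S u v) le_sup_right (sup_le inf_le_left inf_le_left) with e | e
  · have hKS : ∀ w, (Γ).Adj u w → g ∈ S u w := by
      intro w hw
      obtain ⟨k, hk, rfl⟩ := transitive hv hw
      have h1 := (le_sup_left : K ≤ K ⊔ S u v) (hKnorm k⁻¹ (inv_mem hk) g hgK)
      rw [e, inv_inv] at h1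
      have h2 := conj_mem_S (g := k) h1
      rw [mem_stabilizer_iff.mp hk] at h2
      simpa [mul_assoc] using h2
    obtain ⟨w, hw, hne⟩ := h.exists_ne_adj hv
    exact hgQ (h.inf_S hw hv hne (hKS w hw) (hKS v hv))
  · refine h.act_edge hul hv (e.symm.le.trans (sup_le ?_ ?_))
    · exact fun x hx => mem_centralizer_of fun z hz =>
        commute_of_centralizer hx.2 (Z_le_Zv hv hz)
    · exact fun x hx => mem_centralizer_of fun z hz => ((mem_omegaZ.mp hz).2.2 x hx).symm

/-- The modules of two neighbours of a left hand vertex meet trivially. -/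
theorem disjoint {u v w : Vx} (hu : u.isLeft = true) (huv : (Γ).Adj u v) (huw : (Γ).Adj u w)
    (hne : v ≠ w) {x : X} (hxv : x ∈ Zv v) (hxw : x ∈ Zv w) : x = 1 := by
  have hbot : Zv v ⊓ Zv w = ⊥ := by
    have hv' : (Zv v ⊓ Zv w : Subgroup X) ≤ S u v := inf_le_left.trans fun y hy => by
      rw [← h.Z_eq_Zv hu huv] at hy; exact (mem_omegaZ.mp hy).1
    refine h.eq_bot_of_edge huv hv' ?_ (le_normalizer_of_conj fun a ha y hy => ?_)
    · rw [← h.sup_S huv huw hne]
      refine sup_le (le_normalizer_of_conj fun a ha y hy => ?_)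
        (le_normalizer_of_conj fun a ha y hy => ?_)
      · rwa [(h.cent_Zv (h.right_of_left hu huv) ha.2 hy.1).eq, mul_inv_cancel_right]
      · rwa [(h.cent_Zv (h.right_of_left hu huw) ha.2 hy.2).eq, mul_inv_cancel_right]
    · rwa [(h.cent_Zv (h.right_of_left hu huv) ha hy.1).eq, mul_inv_cancel_right]
  have : x ∈ Zv v ⊓ Zv w := ⟨hxv, hxw⟩
  rwa [hbot, Subgroup.mem_bot] at this

theorem omega_conj {u : Vx} {g x : X} (hg : g ∈ G u) (hx : x ∈ omegaZ (Q u)) :
    g * x * g⁻¹ ∈ omegaZ (Q u) := by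
  have := conj_mem_cs (g := g) hx
  rwa [← omegaZ_cs, ← Q_smul, mem_stabilizer_iff.mp hg] at this

theorem omega_comm {u : Vx} {x y : X} (hx : x ∈ omegaZ (Q u)) (hy : y ∈ omegaZ (Q u)) :
    Commute x y :=
  (mem_omegaZ.mp hx).2.2 y (mem_omegaZ.mp hy).1

theorem omega_sq {u : Vx} {x : X} (hx : x ∈ omegaZ (Q u)) : x * x = 1 := by
  rw [← sq]; exact (mem_omegaZ.mp hx).2.1

/-- An element of `Ω₁Z(Q u)` fixed by an element outside `Q u` of an edge stabiliser. -/
theorem omega_mem_Z {u v : Vx} (huv : (Γ).Adj u v) {g x : X} (hg : g ∈ S u v) (hgQ : g ∉ Q u)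
    (hx : x ∈ omegaZ (Q u)) (hgx : Commute g x) : x ∈ Z u v := by
  refine mem_omegaZ.mpr ⟨h.Q_le_S huv (mem_omegaZ.mp hx).1, (mem_omegaZ.mp hx).2.1, fun s hs => ?_⟩
  by_cases hs' : s ∈ Q u
  · exact (mem_omegaZ.mp hx).2.2 s hs'
  · have h1 : Commute x (s * g) := (mem_omegaZ.mp hx).2.2 _ (h.mul_mem_Q_of_not huv hs hg hs' hgQ)
    have h2 := h1.mul_right hgx.symm.inv_right
    rwa [mul_inv_cancel_right] at h2

theorem omega_mul_conj {u v : Vx} (huv : (Γ).Adj u v) {g x : X} (hg : g ∈ S u v) (hgQ : g ∉ Q u)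
    (hx : x ∈ omegaZ (Q u)) : x * (g * x * g⁻¹) ∈ Z u v := by
  have hy := h.omega_conj hg.1 hx
  refine h.omega_mem_Z huv hg hgQ (mul_mem hx hy) ?_
  have e1 : g * (g * x * g⁻¹) * g⁻¹ = x := by
    have : Commute x (g * g) := (mem_omegaZ.mp hx).2.2 _ (h.sq_mem_Q huv hg)
    calc g * (g * x * g⁻¹) * g⁻¹ = g * g * x * (g * g)⁻¹ := by simp [mul_assoc]
      _ = x := by rw [← this.eq, mul_inv_cancel_right]
  have e2 : g * (x * (g * x * g⁻¹)) * g⁻¹ = x * (g * x * g⁻¹) := by
    calc g * (x * (g * x * g⁻¹)) * g⁻¹ = g * x * g⁻¹ * (g * (g * x * g⁻¹) * g⁻¹) := by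
          simp [mul_assoc]
      _ = g * x * g⁻¹ * x := by rw [e1]
      _ = x * (g * x * g⁻¹) := (h.omega_comm hy hx).eq
  exact mul_inv_eq_iff_eq_mul.mp e2

/-- Commutators of an edge stabiliser with the module of an end lie in the edge centre. -/
theorem comm_mem_Z {u v : Vx} (huv : (Γ).Adj u v) {g x : X} (hg : g ∈ S u v) (hx : x ∈ Zv u) :
    ⁅g, x⁆ ∈ Z u v := by
  by_cases hgQ : g ∈ Q u
  · rw [commutatorElement_eq_one_iff_commute.mpr (h.Zv_comm_Q hx hgQ).symm]
    exact one_mem _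
  have h1 := h.omega_mul_conj huv hg hgQ (h.Zv_le_omega u hx)
  have e : ⁅g, x⁆ = x * (g * x * g⁻¹) := by
    rw [commutatorElement_def, h.Zv_inv hx]
    exact h.Zv_comm (h.Zv_conj hg.1 hx) hx
  rwa [e]

/-- `Ω₁Z(Q u)` at a left hand vertex is the product of any two of the edge centres. -/
theorem omega_le_sup {u v w : Vx} (hu : u.isLeft = true) (huv : (Γ).Adj u v) (huw : (Γ).Adj u w)
    (hne : v ≠ w) : omegaZ (Q u) ≤ Z u v ⊔ Z u w := by
  obtain ⟨n, hn, hnv, hnw⟩ := h.exists_third huv huw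
  obtain ⟨s, hs, hsQ⟩ := h.exists_not_mem_Q huv
  obtain ⟨t, ht, htQ⟩ := h.exists_not_mem_Q hn
  have hsn : s • n = w := by
    rcases h.two_others huv huw hn (h.smul_adj hn hs.1) hne.symm hnv
      (fun e => hnv (smul_left_cancel s (e.trans (mem_stabilizer_iff.mp hs.2).symm))) hnw.symm
      with e | e
    · exact e
    · exact absurd e (h.smul_ne huv hn hnv hs hsQ)
  have htv : t • v = w := by
    rcases h.two_others hn huw huv (h.smul_adj huv ht.1) hnw.symm hnv.symm
      (fun e => hnv (smul_left_cancel t (e.trans (mem_stabilizer_iff.mp ht.2).symm)).symm) hne.symm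
      with e | e
    · exact e
    · exact absurd e (h.smul_ne hn huv hnv.symm ht htQ)
  intro x₀ hx₀
  set d := s * t with hd
  have hdG : d ∈ G u := mul_mem hs.1 ht.1
  have hsw : s • w = n := by
    rcases h.two_others huv huw hn (h.smul_adj huw hs.1) hne.symm hnv
      (fun e => hne.symm (smul_left_cancel s (e.trans (mem_stabilizer_iff.mp hs.2).symm))) hnw.symm
      with e | e
    · exact absurd e (h.smul_ne huv huw hne.symm hs hsQ)
    · exact e
  have hdv : d • v = n := by rw [hd, mul_smul, htv, hsw]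
  -- the two involutions on the module
  have key : ∀ y ∈ omegaZ (Q u), y * (d * y * d⁻¹) ∈ Z u v ⊔ Z u w ∧
      y * (d * y * d⁻¹) * (d * (d * y * d⁻¹) * d⁻¹) = 1 := by
    intro y hy
    have hmem : y * (d * y * d⁻¹) ∈ Z u v ⊔ Z u w := by
      have h1 := h.omega_mul_conj huv hs hsQ hy
      have h2 := conj_mem_Z (g := s) (h.omega_mul_conj hn ht htQ hy)
      rw [mem_stabilizer_iff.mp hs.1, hsn] at h2
      have e : y * (d * y * d⁻¹) = y * (s * y * s⁻¹) * (s * (y * (t * y * t⁻¹)) * s⁻¹) := by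
        have hy2 : s * y * s⁻¹ * (s * y * s⁻¹) = 1 := h.omega_sq (h.omega_conj hs.1 hy)
        calc y * (d * y * d⁻¹) = y * (s * (t * y * t⁻¹) * s⁻¹) := by simp [hd, mul_assoc]
          _ = y * (s * y * s⁻¹ * (s * y * s⁻¹)) * (s * (t * y * t⁻¹) * s⁻¹) := by
            rw [hy2, mul_one]
          _ = _ := by simp [mul_assoc]
      rw [e]
      exact mul_mem (Subgroup.mem_sup_left h1) (Subgroup.mem_sup_right h2)
    refine ⟨hmem, ?_⟩
    set y1 := d * y * d⁻¹ with hy1def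
    set y2 := d * y1 * d⁻¹ with hy2def
    have hy1 : y1 ∈ omegaZ (Q u) := h.omega_conj hdG hy
    have hy2 : y2 ∈ omegaZ (Q u) := h.omega_conj hdG hy1
    set T := y * y1 * y2 with hT
    have hTU : T ∈ omegaZ (Q u) := mul_mem (mul_mem hy hy1) hy2
    have hd3 : d * d * d ∈ Q u := by
      have hdn : d • n = w := by rw [hd, mul_smul, mem_stabilizer_iff.mp ht.2, hsn]
      have hdw : d • w = v := by
        rcases h.three huv huw hn (h.smul_adj huw hdG) hne hnv.symm hnw.symm with e | e | e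
        · exact e
        · exact absurd (smul_left_cancel d (e.trans hdn.symm)) hnw.symm
        · exact absurd (smul_left_cancel d (e.trans hdv.symm)) hne.symm
      exact h.mem_Q_of_fix huv huw hne
        (mem_stabilizer_iff.mp (mul_mem (mul_mem hdG hdG) hdG))
        (by rw [mul_smul, mul_smul, hdv, hdn, hdw]) (by rw [mul_smul, mul_smul, hdw, hdv, hdn])
    have hdT : Commute d T := by
      have e3 : d * y2 * d⁻¹ = y := by
        have hc : Commute y (d * d * d) := (mem_omegaZ.mp hy).2.2 _ hd3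
        calc d * y2 * d⁻¹ = d * d * d * y * (d * d * d)⁻¹ := by
              simp [hy2def, hy1def, mul_assoc]
          _ = y := by rw [← hc.eq, mul_inv_cancel_right]
      have : d * T * d⁻¹ = T := by
        calc d * T * d⁻¹ = y1 * y2 * (d * y2 * d⁻¹) := by simp [hT, hy1def, hy2def, mul_assoc]
          _ = y * y1 * y2 := by
            rw [e3, ((h.omega_comm hy hy1).mul_right (h.omega_comm hy hy2)).symm.eq, ← mul_assoc y]
      exact mul_inv_eq_iff_eq_mul.mp this
    have fix_one : ∀ z ∈ Z u v, Commute d z → z = 1 := by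
      intro z hz hc
      have h1 := conj_mem_Z (g := d) hz
      rw [hc.eq, mul_inv_cancel_right, mem_stabilizer_iff.mp hdG, hdv, h.Z_eq_Zv hu hn] at h1
      rw [h.Z_eq_Zv hu huv] at hz
      exact h.disjoint hu huv hn hnv.symm hz h1
    set T' := s * T * s⁻¹ with hT'
    have hdT' : Commute d T' := by
      have e1 : t * T * t⁻¹ = T' := by
        have hc : Commute T (s * s) := (mem_omegaZ.mp hTU).2.2 _ (h.sq_mem_Q huv hs)
        have hcT : d * T * d⁻¹ = T := by rw [hdT.eq, mul_inv_cancel_right]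
        calc t * T * t⁻¹ = s⁻¹ * (d * T * d⁻¹) * s := by simp [hd, mul_assoc]
          _ = s⁻¹ * T * s := by rw [hcT]
          _ = s⁻¹ * (T * (s * s)) * s⁻¹ := by simp [mul_assoc]
          _ = T' := by rw [hc.eq]; simp [hT', mul_assoc]
      have e2 : t * T' * t⁻¹ = T := by
        have hc : Commute T (t * t) := (mem_omegaZ.mp hTU).2.2 _ (h.sq_mem_Q hn ht)
        calc t * T' * t⁻¹ = t * t * T * (t * t)⁻¹ := by rw [← e1]; simp [mul_assoc]
          _ = T := by rw [← hc.eq, mul_inv_cancel_right]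
      have : d * T' * d⁻¹ = T' := by
        calc d * T' * d⁻¹ = s * (t * T' * t⁻¹) * s⁻¹ := by simp [hd, mul_assoc]
          _ = T' := by rw [e2]
      exact mul_inv_eq_iff_eq_mul.mp this
    have h1 := fix_one _ (h.omega_mul_conj huv hs hsQ hTU) (hdT.mul_right hdT')
    have hsT : T' = T := by
      rw [eq_comm, ← mul_left_inj T']
      exact h1.trans (h.omega_sq (h.omega_conj hs.1 hTU)).symm
    exact fix_one T (h.omega_mem_Z huv hs hsQ hTU (mul_inv_eq_iff_eq_mul.mp hsT)) hdT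
  obtain ⟨h1, h2⟩ := key ((d * d)⁻¹ * x₀ * (d * d)⁻¹⁻¹) (h.omega_conj (inv_mem (mul_mem hdG hdG)) hx₀)
  have e := eq_inv_of_mul_eq_one_right h2
  have : x₀ = ((d * d)⁻¹ * x₀ * (d * d)⁻¹⁻¹ * (d * ((d * d)⁻¹ * x₀ * (d * d)⁻¹⁻¹) * d⁻¹))⁻¹ := by
    rw [← e]
    simp [mul_assoc]
  rw [this]
  exact inv_mem h1

theorem omega_eq_Zv {u : Vx} (hu : u.isLeft = true) : omegaZ (Q u) = Zv u := by
  obtain ⟨v, hv⟩ := h.exists_adj u
  obtain ⟨w, hw, hne⟩ := h.exists_ne_adj hv
  exact le_antisymm ((h.omega_le_sup hu hv hw hne.symm).trans (sup_le (Z_le_Zv hv) (Z_le_Zv hw)))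
    (h.Zv_le_omega u)

theorem Zv_le_sup {u v w : Vx} (hu : u.isLeft = true) (huv : (Γ).Adj u v) (huw : (Γ).Adj u w)
    (hne : v ≠ w) : Zv u ≤ Zv v ⊔ Zv w := by
  rw [← h.Z_eq_Zv hu huv, ← h.Z_eq_Zv hu huw]
  exact (h.Zv_le_omega u).trans (h.omega_le_sup hu huv huw hne)

/-- A normal subgroup of a vertex group outside `O₂` has an element of order three. -/
theorem exists_three {v w : Vx} (hvw : (Γ).Adj v w) {N : Subgroup X} (hN : N ≤ G v)
    (hn : G v ≤ Subgroup.normalizer (N : Set X)) (hQ : ¬ N ≤ Q v) :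
    ∃ x ∈ N, x * x * x = 1 ∧ x • w ≠ w := by
  obtain ⟨n, hnN, hnQ⟩ := SetLike.not_le_iff_exists.mp hQ
  obtain ⟨m, hmN, hm⟩ : ∃ m ∈ N, ∀ p, (Γ).Adj v p → m • p ≠ p := by
    by_cases hall : ∀ p, (Γ).Adj v p → n • p ≠ p
    · exact ⟨n, hnN, hall⟩
    push Not at hall
    obtain ⟨p, hp, hfix⟩ := hall
    have hnS : n ∈ S v p := ⟨hN hnN, hfix⟩
    obtain ⟨x, hx, -, hx1, hx2, hx12, hall⟩ := h.exists_rot hp
    refine ⟨x * n * x⁻¹ * n⁻¹, mul_mem
      ((Subgroup.mem_normalizer_iff.mp (hn hx) n).mp hnN) (inv_mem hnN), ?_⟩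
    have hcS : x * n * x⁻¹ ∈ S v (x • p) := by
      have := conj_mem_S (g := x) hnS
      rwa [mem_stabilizer_iff.mp hx] at this
    have hcQ : x * n * x⁻¹ ∉ Q v := fun hc => hnQ (by simpa [mul_assoc] using h.Q_normal v (inv_mem hx) hc)
    have hxp := h.smul_adj hp hx
    have hxxp := h.smul_adj hp (mul_mem hx hx)
    have hn' : n⁻¹ ∈ S v p := inv_mem hnS
    have hnQ' : n⁻¹ ∉ Q v := fun hc => hnQ (inv_mem_iff.mp hc)
    have flip : ∀ {a b : Vx} {g : X}, (Γ).Adj v a → (Γ).Adj v b → a ≠ b →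
        ∀ c, (Γ).Adj v c → c ≠ a → c ≠ b → g ∈ S v c → g ∉ Q v → g • a = b := by
      intro a b g ha hb hab c hc hca hcb hg hgQ
      rcases h.two_others hc ha hb (h.smul_adj ha hg.1) hca.symm hcb.symm
        (fun e => hca (smul_left_cancel g (e.trans (mem_stabilizer_iff.mp hg.2).symm)).symm) hab
        with e | e
      · exact absurd e (h.smul_ne hc ha hca.symm hg hgQ)
      · exact e
    intro q hq
    rw [mul_smul]
    rcases hall q hq with rfl | rfl | rfl
    · rw [mem_stabilizer_iff.mp hn'.2]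
      exact h.smul_ne hxp hp hx1.symm hcS hcQ
    · rw [flip hxp hxxp hx12 p hp hx1.symm hx2.symm hn' hnQ',
        flip hxxp hp hx2 _ hxp hx12 hx1 hcS hcQ]
      exact hx1.symm
    · rw [flip hxxp hxp hx12.symm p hp hx2.symm hx1.symm hn' hnQ', mem_stabilizer_iff.mp hcS.2]
      exact hx12
  haveI := h.finite_G v
  obtain ⟨k, hk⟩ : ∃ k, Nat.card (G v) = 3 * 2 ^ k := by
    haveI : Fact (Nat.Prime 2) := ⟨Nat.prime_two⟩
    haveI := h.finite_S v w
    obtain ⟨k, hk⟩ := IsPGroup.iff_card.mp (h.edge hvw).pgroup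
    refine ⟨k, ?_⟩
    have h1 := Subgroup.card_mul_index ((S v w).subgroupOf (G v))
    rw [Nat.card_congr (Subgroup.subgroupOfEquivOfLe (inf_le_left : S v w ≤ G v)).toEquiv, hk,
      show ((S v w).subgroupOf (G v)).index = 3 from (h.edge hvw).idx] at h1
    rw [← h1, mul_comm]
  refine ⟨m ^ (2 ^ k), pow_mem hmN _, ?_, ?_⟩
  · have h1 : (⟨m, hN hmN⟩ : G v) ^ Nat.card (G v) = 1 := pow_card_eq_one'
    rw [hk] at h1
    have h2 : m ^ (3 * 2 ^ k) = 1 := congrArg Subtype.val h1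
    rw [mul_comm, pow_mul] at h2
    rwa [pow_succ, pow_succ, pow_one] at h2
  · have hmG := hN hmN
    have hmw := h.smul_adj hvw hmG
    have hmmw := h.smul_adj hmw hmG
    have h3 : m • (m • w) ≠ w := by
      intro e
      obtain ⟨p, hp, hpw, hpm⟩ := h.exists_third hvw hmw
      rcases h.three hvw hmw hp (h.smul_adj hp hmG) (hm w hvw).symm hpw.symm hpm.symm with e' | e' | e'
      · exact hpm (smul_left_cancel m (e'.trans e.symm))
      · exact hpw (smul_left_cancel m e')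
      · exact hm p hp e'
    have h33 : m • (m • (m • w)) = w := by
      have d2 : m • (m • w) ≠ m • w := hm _ hmw
      rcases h.three hvw hmw hmmw (h.smul_adj hmmw hmG) (hm w hvw).symm h3.symm d2.symm with e | e | e
      · exact e
      · exact absurd (smul_left_cancel m e) h3
      · exact absurd e (hm _ hmmw)
    have hper : ∀ j, m ^ (3 * j) • w = w := by
      intro j
      induction j with
      | zero => simp
      | succ j ih =>
        rw [show 3 * (j + 1) = 3 * j + 3 by ring, pow_add, mul_smul,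
          show m ^ 3 • w = m • (m • (m • w)) by simp [pow_succ, mul_smul], h33, ih]
    have hr : 2 ^ k % 3 ≠ 0 := fun e => by
      have := Nat.prime_three.dvd_of_dvd_pow (Nat.dvd_of_mod_eq_zero e)
      omega
    intro e
    rw [← Nat.mod_add_div (2 ^ k) 3, pow_add, mul_smul, hper] at e
    rcases (show 2 ^ k % 3 = 1 ∨ 2 ^ k % 3 = 2 by omega) with e' | e' <;> rw [e'] at e
    · exact hm w hvw (by simpa using e)
    · exact h3 (by simpa [pow_succ, mul_smul] using e)

/-- The module of a left hand vertex lies in `O₂` of its neighbours. -/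
theorem Zv_le_Q_adj {u v : Vx} (hu : u.isLeft = true) (huv : (Γ).Adj u v) : Zv u ≤ Q v := by
  intro a ha
  by_contra haQ
  have hv := h.right_of_left hu huv
  have haS : a ∈ S u v := h.Q_le_S huv (h.Zv_le_Q u ha)
  let P : Subgroup X :=
    { carrier := {g | g ∈ G v ∧ ∀ q ∈ Q v, ⁅g, q⁆ ∈ Z v u}
      one_mem' := ⟨one_mem _, fun q _ => by simp⟩
      mul_mem' := by
        rintro g g' ⟨hg, hg'⟩ ⟨hk, hk'⟩
        refine ⟨mul_mem hg hk, fun q hq => ?_⟩
        rw [show ⁅g * g', q⁆ = g * ⁅g', q⁆ * g⁻¹ * ⁅g, q⁆ by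
          simp [commutatorElement_def, mul_assoc], (h.cent_comm hv huv.symm hg (hk' q hq)).eq,
          mul_inv_cancel_right]
        exact mul_mem (hk' q hq) (hg' q hq)
      inv_mem' := by
        rintro g ⟨hg, hg'⟩
        refine ⟨inv_mem hg, fun q hq => ?_⟩
        have h1 := inv_mem (hg' q hq)
        rw [show ⁅g⁻¹, q⁆ = g⁻¹ * ⁅g, q⁆⁻¹ * g by simp [commutatorElement_def, mul_assoc],
          (h.cent_comm hv huv.symm (inv_mem hg) h1).eq, inv_mul_cancel_right]
        exact h1 }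
  have hP : G v ≤ Subgroup.normalizer (P : Set X) := le_normalizer_of_conj fun k hk g hg => by
    refine ⟨mul_mem (mul_mem hk hg.1) (inv_mem hk), fun q hq => ?_⟩
    have h1 := hg.2 _ (h.Q_normal v (inv_mem hk) hq)
    rw [inv_inv] at h1
    rw [show ⁅k * g * k⁻¹, q⁆ = k * ⁅g, k⁻¹ * q * k⁆ * k⁻¹ by
      simp [commutatorElement_def, mul_assoc], (h.cent_comm hv huv.symm hk h1).eq,
      mul_inv_cancel_right]
    exact h1
  have haP : a ∈ P := ⟨haS.2, fun q hq => by
    have := inv_mem (h.comm_mem_Z huv (h.Q_le_S huv.symm hq |> fun e => by rwa [S_comm] at e) ha)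
    rwa [commutatorElement_inv, Z_comm] at this⟩
  obtain ⟨x, ⟨hxG, hxc⟩, hx3, hxu⟩ := h.exists_three huv.symm (N := P) (fun g hg => hg.1) hP
    (fun hle => haQ (hle haP))
  refine hxu (h.fix_adj huv.symm (h.char v ⟨hxG, mem_centralizer_of fun q hq => ?_⟩))
  have hz := hxc q hq
  set z := ⁅x, q⁆ with hzdef
  have hc : Commute x z := h.cent_comm hv huv.symm hxG hz
  have hz2 : z * z = 1 := by rw [← sq]; exact (mem_omegaZ.mp hz).2.1
  have e1 : x * q * x⁻¹ = z * q := by simp [hzdef, commutatorElement_def, mul_assoc]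
  have e2 : x * (x * q * x⁻¹) * x⁻¹ = z * z * q := by
    rw [e1, show x * (z * q) * x⁻¹ = x * z * x⁻¹ * (x * q * x⁻¹) by simp [mul_assoc], e1, hc.eq,
      mul_inv_cancel_right, mul_assoc]
  rw [hz2, one_mul] at e2
  have e3 : x * q * x⁻¹ = q := by
    calc x * q * x⁻¹ = x * (x * (x * q * x⁻¹) * x⁻¹) * x⁻¹ := by rw [e2]
      _ = x * x * x * q * (x * x * x)⁻¹ := by simp [mul_assoc]
      _ = q := by rw [hx3]; simp
  exact mul_inv_eq_iff_eq_mul.mp e3

/-- `O₂(G u) ∩ O₂(G v)` is not normal at the right hand end. -/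
theorem not_normal {u v : Vx} (hu : u.isLeft = true) (huv : (Γ).Adj u v) :
    ¬ G v ≤ Subgroup.normalizer ((Q u ⊓ Q v : Subgroup X) : Set X) := by
  intro hn
  set D : Subgroup X := Q u ⊓ Q v with hD
  have hv := h.right_of_left hu huv
  have conjD : ∀ g ∈ G v, ∀ d ∈ D, g * d * g⁻¹ ∈ D := fun g hg d hd =>
    (Subgroup.mem_normalizer_iff.mp (hn hg) d).mp hd
  obtain ⟨w, hwv, hwu⟩ := h.exists_Q_not huv.symm
  have hwS : w ∈ S u v := by rw [S_comm]; exact h.Q_le_S huv.symm hwv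
  have mulD : ∀ p ∈ Q v, p ∉ D → ∀ q ∈ Q v, q ∉ D → p * q ∈ D := fun p hp hp' q hq hq' =>
    ⟨h.mul_mem_Q_of_not huv (by rw [S_comm]; exact h.Q_le_S huv.symm hp)
      (by rw [S_comm]; exact h.Q_le_S huv.symm hq) (fun e => hp' ⟨e, hp⟩) (fun e => hq' ⟨e, hq⟩),
      mul_mem hp hq⟩
  obtain ⟨x, hx, hx3, hx1, hx2, hx12, hall⟩ := h.exists_rot huv.symm
  have hZD : Zv u ≤ D := le_inf (h.Zv_le_Q u) (h.Zv_le_Q_adj hu huv)
  -- conjugates of the module centralise `D`
  have hcD : ∀ g ∈ G v, ∀ a ∈ Zv u, ∀ d ∈ D, Commute (g * a * g⁻¹) d := by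
    intro g hg a ha d hd
    have h1 := conjD g⁻¹ (inv_mem hg) d hd
    rw [inv_inv] at h1
    have h2 := (h.Zv_comm_Q ha h1.1).map (MulAut.conj g).toMonoidHom
    simpa [mul_assoc] using h2
  -- the common commutator
  have hpsi : ∀ g ∈ G v, ∀ a ∈ Zv u, w * (g * a * g⁻¹) * w⁻¹ = ⁅w, a⁆ * (g * a * g⁻¹) := by
    intro g hg a ha
    have hw' : g⁻¹ * w * g ∈ Q v := by simpa using h.Q_normal v (inv_mem hg) hwv
    have hd : w⁻¹ * (g⁻¹ * w * g) ∈ D := mulD _ (inv_mem hwv) (fun e => hwu (inv_mem_iff.mp e.1))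
      _ hw' (fun e => hwu (by simpa [mul_assoc] using (conjD g hg _ e).1))
    have hz : ⁅w, a⁆ ∈ Z v u := by rw [Z_comm]; exact h.comm_mem_Z huv hwS ha
    set d := w⁻¹ * (g⁻¹ * w * g) with hddef
    have hda : d * a * d⁻¹ = a := by
      rw [(h.Zv_comm_Q ha hd.1).symm.eq, mul_inv_cancel_right]
    calc w * (g * a * g⁻¹) * w⁻¹ = g * (w * (d * a * d⁻¹) * w⁻¹) * g⁻¹ := by
          simp [hddef, mul_assoc]
      _ = g * ⁅w, a⁆ * g⁻¹ * (g * a * g⁻¹) := by
          rw [hda]; simp [commutatorElement_def, mul_assoc]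
      _ = _ := by rw [(h.cent_comm hv huv.symm hg hz).eq, mul_inv_cancel_right]
  -- the other cube roots
  have hcube : ∀ q ∈ Q u, q ∉ D → ∃ d ∈ D, q * x * q⁻¹ = x * x * d := by
    intro q hq hqD
    have hqS : q ∈ S v u := by rw [S_comm]; exact h.Q_le_S huv hq
    have hqQ : q ∉ Q v := fun e => hqD ⟨hq, e⟩
    have hxu := h.smul_adj huv.symm hx
    have hxxu := h.smul_adj huv.symm (mul_mem hx hx)
    set t := q * x * q⁻¹ with ht
    have htG : t ∈ G v := mul_mem (mul_mem hqS.1 hx) (inv_mem hqS.1)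
    have htu : t • u = (x * x) • u := by
      rw [ht, mul_smul, mul_smul, inv_smul_eq_iff.mpr (mem_stabilizer_iff.mp hqS.2).symm]
      rcases h.two_others huv.symm hxu hxxu (h.smul_adj hxu hqS.1) hx1 hx2
        (fun e => hx1 (smul_left_cancel q (e.trans (mem_stabilizer_iff.mp hqS.2).symm))) hx12 with e | e
      · exact absurd e (h.smul_ne huv.symm hxu hx1 hqS hqQ)
      · exact e
    set d := (x * x)⁻¹ * t with hddef
    have hdG : d ∈ G v := mul_mem (inv_mem (mul_mem hx hx)) htG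
    have hdu : d • u = u := by rw [hddef, mul_smul, htu, inv_smul_smul]
    have ht3 : t * t * t = 1 := by
      rw [ht, show q * x * q⁻¹ * (q * x * q⁻¹) * (q * x * q⁻¹) = q * (x * x * x) * q⁻¹ by
        simp [mul_assoc], hx3]
      simp
    refine ⟨d, ?_, by rw [hddef, mul_inv_cancel_left]⟩
    have hdQ : d ∈ Q v := by
      refine h.mem_Q_of_fix huv.symm hxu hx1.symm (mem_stabilizer_iff.mp hdG) hdu ?_
      -- both cubes act alike
      have hqxx : q • ((x * x) • u) = x • u := by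
        rcases h.two_others huv.symm hxu hxxu (h.smul_adj hxxu hqS.1) hx1 hx2
          (fun e => hx2 (smul_left_cancel q (e.trans (mem_stabilizer_iff.mp hqS.2).symm))) hx12 with e | e
        · exact e
        · exact absurd e (h.smul_ne huv.symm hxxu hx2 hqS hqQ)
      have e2 : t • (x • u) = u := by
        rw [ht, mul_smul, mul_smul, inv_smul_eq_iff.mpr hqxx.symm, ← mul_smul x, ← mul_assoc, hx3,
          one_smul, mem_stabilizer_iff.mp hqS.2]
      rw [hddef, mul_smul, e2, inv_smul_eq_iff, ← mul_smul, hx3, one_smul]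
    by_contra hdD
    have hdD' : d ∉ D := hdD
    set xx := x * x with hxx
    have hxxG : xx ∈ G v := mul_mem hx hx
    have hc : ∀ g ∈ G v, g * d * g⁻¹ ∈ Q v ∧ g * d * g⁻¹ ∉ D := fun g hg =>
      ⟨h.Q_normal v hg hdQ, fun e => hdD' (by simpa [mul_assoc] using conjD g⁻¹ (inv_mem hg) _ e)⟩
    obtain ⟨p1, p1'⟩ := hc xx hxxG
    obtain ⟨p2, p2'⟩ := hc (xx * xx) (mul_mem hxxG hxxG)
    have h12 : xx * d * xx⁻¹ * (xx * xx * d * (xx * xx)⁻¹) ∈ D := mulD _ p1 p1' _ p2 p2'
    have hx6 : xx * xx * xx = 1 := by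
      rw [hxx, show x * x * (x * x) * (x * x) = x * x * x * (x * x * x) by simp [mul_assoc], hx3,
        one_mul]
    have e : xx * d * xx⁻¹ * (xx * xx * d * (xx * xx)⁻¹) * d = 1 := by
      calc _ = xx * d * xx⁻¹ * (xx * xx * d * (xx * xx)⁻¹) * (xx * xx * xx * d) := by
            rw [hx6, one_mul]
        _ = t * t * t := by
            have : t = xx * d := by simp [hddef]
            rw [this]; simp [mul_assoc]
        _ = 1 := ht3
    refine hdD' ?_
    rw [eq_inv_of_mul_eq_one_left e] at h12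
    exact inv_mem_iff.mp h12
  -- the fixed point of the cube root
  obtain ⟨v', hv', hv'ne⟩ := h.exists_ne_adj huv
  have key : ∀ a ∈ Zv u, Commute x a := by
    intro a ha
    set a1 := x * a * x⁻¹ with ha1
    set a2 := x * x * a * (x * x)⁻¹ with ha2
    have haD := hZD ha
    have h1D : a1 ∈ D := conjD x hx a haD
    have h2D : a2 ∈ D := conjD _ (mul_mem hx hx) a haD
    set f := a * a1 * a2 with hf
    have hfD : f ∈ D := mul_mem (mul_mem haD h1D) h2D
    have c01 : Commute a a1 := h.Zv_comm_Q ha h1D.1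
    have c02 : Commute a a2 := h.Zv_comm_Q ha h2D.1
    have c12 : Commute a1 a2 := hcD x hx a ha a2 h2D
    have hxf : Commute x f := by
      refine mul_inv_eq_iff_eq_mul.mp ?_
      calc x * f * x⁻¹ = a1 * a2 * (x * x * x * a * (x * x * x)⁻¹) := by
            simp [hf, ha1, ha2, mul_assoc]
        _ = a * a1 * a2 := by
            rw [hx3]; simp only [one_mul, inv_one, mul_one]
            rw [(c01.mul_right c02).symm.eq, ← mul_assoc a]
    have hfd : ∀ d ∈ D, Commute f d := fun d hd =>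
      ((h.Zv_comm_Q ha hd.1).mul_left (hcD x hx a ha d hd)).mul_left
        (hcD _ (mul_mem hx hx) a ha d hd)
    have hfq : ∀ q ∈ Q u, Commute f q := by
      intro q hq
      by_cases hqD : q ∈ D
      · exact hfd q hqD
      obtain ⟨d, hd, hqx⟩ := hcube q hq hqD
      have hqa : q * a * q⁻¹ = a := by rw [(h.Zv_comm_Q ha hq).symm.eq, mul_inv_cancel_right]
      have hda : d * a * d⁻¹ = a := by rw [(h.Zv_comm_Q ha hd.1).symm.eq, mul_inv_cancel_right]
      have e1 : q * a1 * q⁻¹ = a2 := by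
        calc q * a1 * q⁻¹ = q * x * q⁻¹ * (q * a * q⁻¹) * (q * x * q⁻¹)⁻¹ := by
              simp [ha1, mul_assoc]
          _ = x * x * (d * a * d⁻¹) * (x * x)⁻¹ := by rw [hqx, hqa]; simp [mul_assoc]
          _ = a2 := by rw [hda]
      have e2 : q * a2 * q⁻¹ = a1 := by
        have hqq : Commute a1 (q * q) :=
          hcD x hx a ha _ ⟨mul_mem hq hq, h.sq_mem_Q huv.symm (by rw [S_comm]; exact h.Q_le_S huv hq)⟩
        calc q * a2 * q⁻¹ = q * q * a1 * (q * q)⁻¹ := by rw [← e1]; simp [mul_assoc]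
          _ = a1 := by rw [← hqq.eq, mul_inv_cancel_right]
      refine Commute.symm (mul_inv_eq_iff_eq_mul.mp ?_)
      calc q * f * q⁻¹ = q * a * q⁻¹ * (q * a1 * q⁻¹) * (q * a2 * q⁻¹) := by
            simp [hf, mul_assoc]
        _ = a * a1 * a2 := by rw [hqa, e1, e2, mul_assoc, c12.symm.eq, ← mul_assoc]
    have hsq : ∀ g : X, g * a * g⁻¹ * (g * a * g⁻¹) = 1 := fun g => by
      rw [show g * a * g⁻¹ * (g * a * g⁻¹) = g * (a * a) * g⁻¹ by simp [mul_assoc], h.Zv_sq ha]
      simp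
    have hff : f * f = 1 := by
      calc f * f = a * a * (a1 * a1) * (a2 * a2) := by
            rw [hf, ((c02.mul_left c12).symm).mul_mul_mul_comm, c01.symm.mul_mul_mul_comm]
        _ = 1 := by rw [h.Zv_sq ha, ha1, ha2, hsq, hsq, one_mul, one_mul]
    have hfU : f ∈ Zv u := by
      rw [← h.omega_eq_Zv hu]
      exact mem_omegaZ.mpr ⟨hfD.1, by rw [sq, hff], fun q hq => (hfq q hq).eq⟩
    set c := ⁅w, a⁆ with hcdef
    have hcx : ∀ g ∈ G v, w * (g * a * g⁻¹) * w⁻¹ = c * (g * a * g⁻¹) := fun g hg => hpsi g hg a ha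
    have hca : ∀ g ∈ G v, Commute c (g * a * g⁻¹) := fun g hg =>
      (hcD g hg a ha c ⟨h.Z_le_Q huv (h.comm_mem_Z huv hwS ha),
        h.Zv_le_Q_adj hu huv (Z_le_Zv huv (h.comm_mem_Z huv hwS ha))⟩).symm
    have hc2 : c * c = 1 := by rw [← sq]; exact (mem_omegaZ.mp (h.comm_mem_Z huv hwS ha)).2.1
    have hwa : w * a * w⁻¹ = c * a := by simpa using hcx 1 (one_mem _)
    have hwf : w * f * w⁻¹ = c * f := by
      calc w * f * w⁻¹ = w * a * w⁻¹ * (w * a1 * w⁻¹) * (w * a2 * w⁻¹) := by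
            simp [hf, mul_assoc]
        _ = c * a * (c * a1) * (c * a2) := by rw [hwa, hcx x hx, hcx _ (mul_mem hx hx)]
        _ = c * c * (a * a1) * (c * a2) := by
            rw [(show Commute a c by simpa using (hca 1 (one_mem _)).symm).mul_mul_mul_comm]
        _ = a * a1 * c * a2 := by rw [hc2, one_mul]; simp only [mul_assoc]
        _ = c * f := by
            rw [(((show Commute c a by simpa using hca 1 (one_mem _)).mul_right
              (hca x hx)).symm).eq]
            exact mul_assoc c (a * a1) a2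
    have hafZ : a * f ∈ Z u v := by
      refine h.omega_mem_Z huv hwS hwu (h.Zv_le_omega u (mul_mem ha hfU))
        (mul_inv_eq_iff_eq_mul.mp ?_)
      calc w * (a * f) * w⁻¹ = w * a * w⁻¹ * (w * f * w⁻¹) := by simp [mul_assoc]
        _ = c * c * (a * f) := by
            rw [hwa, hwf, (show Commute a c by simpa using (hca 1 (one_mem _)).symm).mul_mul_mul_comm]
        _ = a * f := by rw [hc2, one_mul]
    have := (h.cent_comm hv huv.symm hx (by rw [Z_comm]; exact hafZ)).mul_right hxf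
    rwa [mul_assoc, hff, mul_one] at this
  -- so the module is normal at both ends
  have hbot : Zv u = ⊥ := by
    refine h.eq_bot_of_edge huv ((h.Zv_le_Q u).trans (h.Q_le_S huv)) ?_ ?_
    · exact le_normalizer_of_conj fun g hg y hy => h.Zv_conj hg hy
    · have hle : S v u ≤ G v ⊓ Subgroup.normalizer (Zv u : Set X) :=
        le_inf inf_le_left (le_normalizer_of_conj fun g hg y hy => h.Zv_conj hg.2 hy)
      rcases h.eq_of_le_G huv.symm hle inf_le_left with e | e
      · exfalso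
        have : x ∈ G v ⊓ Subgroup.normalizer (Zv u : Set X) :=
          ⟨hx, Subgroup.centralizer_le_normalizer _ (mem_centralizer_of key)⟩
        rw [e] at this
        exact hx1 (mem_stabilizer_iff.mp this.2)
      · exact e.ge.trans inf_le_right
  obtain ⟨z, hz, hz1⟩ := h.Z_ne_bot huv
  have := Z_le_Zv huv hz
  rw [hbot, Subgroup.mem_bot] at this
  exact hz1 this

end Setting

/-- A pair is small, or one side is central in characteristic two. -/
theorem Pair.reduce (h : Pair M₁ M₂) :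
    Nat.card ↥(M₁ ⊓ M₂) ≤ 16 ∨ Setting M₁ M₂ ∨ Setting M₂ M₁ := by
  classical
  set u₀ : Vx := Sum.inl ((1 : X) : X ⧸ M₁)
  set v₀ : Vx := Sum.inr ((1 : X) : X ⧸ M₂)
  have e1 : G u₀ = M₁ := by
    show stabilizer X u₀ = M₁
    rw [stab_inl_mk]; ext y; simp
  have e2 : G v₀ = M₂ := by
    show stabilizer X v₀ = M₂
    rw [stab_inr_mk]; ext y; simp
  have eS : S u₀ v₀ = M₁ ⊓ M₂ := by show G u₀ ⊓ G v₀ = _; rw [e1, e2]
  have hadj : (Γ).Adj u₀ v₀ := adj_inl_inr 1
  by_cases c1 : M₁ ⊓ Subgroup.centralizer (pCoreOf 2 M₁ : Set X) ≤ pCoreOf 2 M₁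
  swap
  · refine Or.inl (eS ▸ h.degenerate hadj ?_)
    show ¬ G u₀ ⊓ Subgroup.centralizer (pCoreOf 2 (G u₀) : Set X) ≤ pCoreOf 2 (G u₀)
    rw [e1]; exact c1
  by_cases c2 : M₂ ⊓ Subgroup.centralizer (pCoreOf 2 M₂ : Set X) ≤ pCoreOf 2 M₂
  swap
  · refine Or.inl (eS ▸ ?_)
    rw [S_comm]
    refine h.degenerate hadj.symm ?_
    show ¬ G v₀ ⊓ Subgroup.centralizer (pCoreOf 2 (G v₀) : Set X) ≤ pCoreOf 2 (G v₀)
    rw [e2]; exact c2
  by_cases a1 : M₁ ≤ Subgroup.centralizer (omegaZ (M₁ ⊓ M₂) : Set X)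
  · by_cases a2 : M₂ ≤ Subgroup.centralizer (omegaZ (M₁ ⊓ M₂) : Set X)
    · exfalso
      have hbot : omegaZ (M₁ ⊓ M₂) = ⊥ := by
        rw [← eS]
        refine h.eq_bot_of_edge hadj (fun z hz => (mem_omegaZ.mp hz).1) ?_ ?_
        · rw [e1, eS]; exact a1.trans (Subgroup.centralizer_le_normalizer _)
        · rw [e2, eS]; exact a2.trans (Subgroup.centralizer_le_normalizer _)
      obtain ⟨z, -, hz, hz1⟩ := h.exists_mem_Z hadj le_rfl (fun e => by
        obtain ⟨g, hg, hgQ⟩ := h.exists_not_mem_Q hadj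
        rw [e, Subgroup.mem_bot] at hg
        exact hgQ (hg ▸ one_mem _)) Subgroup.le_normalizer
      rw [Z, eS, hbot, Subgroup.mem_bot] at hz
      exact hz1 hz
    · refine Or.inr (Or.inr ⟨h.symm, c2, c1, ?_, ?_⟩)
      · rwa [inf_comm]
      · rwa [inf_comm]
  · by_cases a2 : M₂ ≤ Subgroup.centralizer (omegaZ (M₁ ⊓ M₂) : Set X)
    · exact Or.inr (Or.inl ⟨h, c1, c2, a1, a2⟩)
    · left
      have hh : Goldschmidt.Hyp M₁ M₂ := ⟨h.gen,
        ⟨h.side₁.le, h.side₁.fin, h.side₁.pgroup, h.side₁.idx ▸ Nat.prime_three, h.side₁.core_le,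
          h.side₁.two, h.side₁.not_normal, c1, a1⟩,
        ⟨h.side₂.le, h.side₂.fin, h.side₂.pgroup, h.side₂.idx ▸ Nat.prime_three, h.side₂.core_le,
          h.side₂.two, h.side₂.not_normal, c2, a2⟩, fun N hn hle => h.core N hle hn⟩
      have hcard : Nat.card M₁ ≤ 48 := by
        rcases Goldschmidt.Hyp.classify hh (Goldschmidt.cubic_of_three h.side₁.idx h.side₂.idx)
          with ⟨⟨e⟩, -⟩ | ⟨⟨e⟩, -⟩
        · rw [Nat.card_congr e.toEquiv, Nat.card_perm, Nat.card_fin]; decide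
        · rw [Nat.card_congr e.toEquiv, Nat.card_prod, Nat.card_perm, Nat.card_fin,
            Nat.card_congr Multiplicative.toAdd, Nat.card_zmod]; decide
      have h1 := Subgroup.card_mul_index ((M₁ ⊓ M₂).subgroupOf M₁)
      rw [Nat.card_congr (Subgroup.subgroupOfEquivOfLe h.side₁.le).toEquiv,
        show ((M₁ ⊓ M₂).subgroupOf M₁).index = 3 from h.side₁.idx] at h1
      omega

end Cfsg.Lib.GoldBound
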