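import Cfsg.Agent.LocalEven.GoldBound.One

/-! An even critical length is two, and then the edge stabiliser has order at most `2^7`. -/

set_option autoImplicit false
set_option linter.style.haveILetI false
set_option linter.unusedSectionVars false

open scoped commutatorElement

namespace Cfsg.Lib.GoldBound

open Cfsg MulAction Cfsg.Lib.Amalgam
open Cfsg.Lib.Goldschmidt (G S Q Z cs mem_cs conj_mem_cs omegaZ mem_omegaZ omegaZ_cs G_smul S_smul
  Q_smul Z_smul conj_mem_G conj_mem_Q conj_mem_S conj_mem_Z S_comm Z_comm)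

variable {X : Type*} [Group X] {M₁ M₂ : Subgroup X}

local notation "Γ" => cosetGraph M₁ M₂
local notation "Vx" => CosetVertex M₁ M₂

namespace Setting

variable (h : Setting M₁ M₂)
include h

theorem partner {u : Vx} (hu : u.isLeft = true) {a : X} (ha : a ∈ G u) (haQ : a ∉ Q u) :
    ∃ e ∈ Zv u, ¬ Commute a e := by
  by_contra! hall
  exact haQ (h.mem_Q_of_commute hu ha hall)

variable {b : ℕ} (hb : Crit M₁ M₂ b)
include hb

/-- Elements of the first module fix the whole escaping walk and one more step on each side. -/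
theorem fix_walk {f : ℕ → Vx} (pf : Path b f) (h0 : (f 0).isLeft = true) {a : X}
    (ha : a ∈ Zv (f 0)) : ∀ i, i ≤ b → a • f i = f i := fun _ hi =>
  h.fix_end hb hi (pf.take hi) h0 ha

theorem end_mem_S {f : ℕ → Vx} (pf : Path b f) (h0 : (f 0).isLeft = true) {a : X}
    (ha : a ∈ Zv (f 0)) : a ∈ S (f b) (f (b - 1)) :=
  ⟨h.fix_walk hb pf h0 ha b le_rfl, h.fix_walk hb pf h0 ha (b - 1) (by omega)⟩

theorem mem_Q_inner {f : ℕ → Vx} (pf : Path b f) (h0 : (f 0).isLeft = true) {i : ℕ} (hi : i < b)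
    {a : X} (ha : a ∈ Zv (f 0)) : a ∈ Q (f i) :=
  h.Zv_le_end hb hi (pf.take hi.le) h0 ha

/-- Along an even escaping walk: the swap at the start, and the data it gives. -/
theorem even_swap (he2 : b % 2 = 0) {f : ℕ → Vx} (pf : Path b f) (h0 : (f 0).isLeft = true)
    {a : X} (ha : a ∈ Zv (f 0)) (haQ : a ∉ Q (f b)) :
    ∃ e ∈ Zv (f b), ¬ Commute a e ∧ e ∉ Q (f 0) ∧ e ∈ S (f 0) (f 1) := by
  have hb2 := hb.1
  obtain ⟨e, he, hae⟩ := h.partner (pf.left h0 le_rfl he2)
    (h.fix_walk hb pf h0 ha b le_rfl) haQ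
  have hr0 : (flip b f 0).isLeft = true := by
    show (f (b - 0)).isLeft = true
    rw [Nat.sub_zero]; exact pf.left h0 le_rfl he2
  have he' : e ∈ Zv (flip b f 0) := by
    show e ∈ Zv (f (b - 0))
    rwa [Nat.sub_zero]
  have h1 := h.fix_walk hb pf.rev hr0 he' b le_rfl
  have h2 := h.fix_walk hb pf.rev hr0 he' (b - 1) (by omega)
  simp only [flip, Nat.sub_self] at h1
  simp only [flip, show b - (b - 1) = 1 by omega] at h2
  exact ⟨e, he, hae, fun hQ => hae (h.Zv_comm_Q ha hQ), h1, h2⟩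

theorem even_inner (he2 : b % 2 = 0) {f : ℕ → Vx} (pf : Path b f) (h0 : (f 0).isLeft = true)
    (hesc : ¬ Zv (f 0) ≤ Q (f b)) {c : X} (hc : c ∈ Zv (f 0)) (hcQ : c ∈ Q (f b)) :
    c ∈ Zv (f 1) := by
  have hb2 := hb.1
  obtain ⟨a, ha, haQ⟩ := SetLike.not_le_iff_exists.mp hesc
  obtain ⟨e, he, -, heQ, heS⟩ := h.even_swap hb he2 pf h0 ha haQ
  rw [← h.Z_eq_Zv h0 (pf 0 (by omega))]
  exact h.omega_mem_Z (pf 0 (by omega)) heS heQ (h.Zv_le_omega _ hc) (h.Zv_comm_Q he hcQ)

theorem even_oneZ (he2 : b % 2 = 0) {f : ℕ → Vx} (pf : Path b f) (h0 : (f 0).isLeft = true)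
    (hesc : ¬ Zv (f 0) ≤ Q (f b)) : OneZ M₁ M₂ := by
  have hb2 := hb.1
  have hadj : (Γ).Adj (f b) (f (b - 1)) := by
    have := (pf (b - 1) (by omega)).symm
    rwa [show b - 1 + 1 = b by omega] at this
  have hZQ : Zv (f 1) ≤ Zv (f 0) := h.Zv_le_adj h0 (pf 0 (by omega))
  refine h.oneZ_of h0 (pf 0 (by omega)) fun a ha ha1 a' ha' ha1' => ?_
  have out : ∀ {c : X}, c ∈ Zv (f 0) → c ∉ Zv (f 1) → c ∉ Q (f b) := fun hc hc1 hcQ =>
    hc1 (h.even_inner hb he2 pf h0 hesc hc hcQ)
  exact h.even_inner hb he2 pf h0 hesc (mul_mem ha ha')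
    (h.mul_mem_Q_of_not hadj (h.end_mem_S hb pf h0 ha) (h.end_mem_S hb pf h0 ha') (out ha ha1)
      (out ha' ha1'))

theorem even_eq (he2 : b % 2 = 0) {f : ℕ → Vx} (pf : Path b f) (h0 : (f 0).isLeft = true)
    (hesc : ¬ Zv (f 0) ≤ Q (f b)) : zz (f 1) = zz (f (b - 1)) := by
  have hb2 := hb.1
  have hz := h.even_oneZ hb he2 pf h0 hesc
  obtain ⟨a, ha, haQ⟩ := SetLike.not_le_iff_exists.mp hesc
  obtain ⟨e, he, hae, heQ, heS⟩ := h.even_swap hb he2 pf h0 ha haQ
  have hadj : (Γ).Adj (f b) (f (b - 1)) := by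
    have := (pf (b - 1) (by omega)).symm
    rwa [show b - 1 + 1 = b by omega] at this
  have e1 : ⁅e, a⁆ ∈ Zv (f 1) := h.Z_eq_Zv h0 (pf 0 (by omega)) ▸
    h.comm_mem_Z (pf 0 (by omega)) heS ha
  have e2 : ⁅a, e⁆ ∈ Zv (f (b - 1)) := h.Z_eq_Zv (pf.left h0 le_rfl he2) hadj ▸
    h.comm_mem_Z hadj (h.end_mem_S hb pf h0 ha) he
  have hne : ⁅a, e⁆ ≠ 1 := fun e => hae (commutatorElement_eq_one_iff_commute.mp e)
  rw [← h.eq_zz hz (pf.right h0 (by omega) (by omega)) e2 hne, ← commutatorElement_inv a e] at *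
  exact (h.eq_zz hz (pf.right h0 (i := 1) (by omega) rfl) (inv_mem_iff.mp e1) hne).symm

omit hb

/-- An even critical length is two. -/
theorem even_eq_two (hb : Crit M₁ M₂ b) (he : Escape M₁ M₂ b) (he2 : b % 2 = 0) : b = 2 := by
  by_contra hne
  have hb2 := hb.1
  obtain ⟨f, pf, h0, hesc⟩ := he
  have hz := h.even_oneZ hb he2 pf h0 hesc
  have nf := h.escape_nb hb pf h0 hesc
  have key := h.even_eq hb he2 pf h0 hesc
  have hl : ∀ {i}, i ≤ b → i % 2 = 0 → (f i).isLeft = true := fun hi hp => pf.left h0 hi hp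
  have h1r : (f 1).isLeft = false := pf.right h0 (by omega) rfl
  by_cases hb4 : b = 4
  · subst hb4
    have h3 : zz (f 1) ∈ Zv (f 3) := key ▸ (h.zz_spec _).1
    exact (h.zz_spec (f 1)).2 (h.disjoint (hl (i := 2) (by omega) rfl) (pf 1 (by omega)).symm
      (pf 2 (by omega)) (nf.2 1 (by omega)) (h.zz_spec _).1 h3)
  have hb6 : 6 ≤ b := by omega
  obtain ⟨a, ha, haQ⟩ := SetLike.not_le_iff_exists.mp hesc
  obtain ⟨e, heb, -, heQ, heS⟩ := h.even_swap hb he2 pf h0 ha haQ
  obtain ⟨p, hp, hp1⟩ := h.exists_ne_adj (pf 0 (by omega))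
  have hpr : p.isLeft = false := h.right_of_left h0 hp
  have hep : e • p ≠ p := h.smul_ne (pf 0 (by omega)) hp hp1 heS heQ
  have hep' : (Γ).Adj (f 0) (e • p) := h.smul_adj hp heS.1
  -- no module at distance two escapes two steps before the end
  have in2 : ∀ d, (Γ).Adj p d → Zv d ≤ Q (f (b - 2)) := by
    intro d hd
    by_contra hc
    set g := pre d (pre p f) with hg
    have pg : Path b g := (((pf.take (show b - 2 ≤ b by omega)).pre hp.symm).pre hd.symm).take (by omega)
    have hgb : g b = f (b - 2) := by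
      rw [hg, show b = b - 2 + 1 + 1 by omega, pre_succ, pre_succ, show b - 2 + 1 + 1 - 2 = b - 2 by omega]
    have hgb' : g (b - 1) = f (b - 3) := by
      rw [hg, show b - 1 = b - 3 + 1 + 1 by omega, pre_succ, pre_succ]
    have hd0 : (g 0).isLeft = true := h.left_of_right hpr hd
    have e1 := h.even_eq hb he2 pg hd0 (by rw [hgb]; exact hc)
    rw [hgb', show g 1 = p from rfl] at e1
    -- the centre of `p` commutes with the swap
    have hc' : Commute e (zz p) := by
      rw [e1]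
      refine h.comm_right hb (n := 3) (f := fun j => f (b - j)) (by omega)
        (fun j hj => ?_) (hl (Nat.sub_le _ _) (by simpa using he2)) (pf.right h0 (by omega) (by omega))
        (by simpa using heb) (h.zz_spec _).1
      have := (pf (b - (j + 1)) (by omega)).symm
      rwa [show b - (j + 1) + 1 = b - j by omega] at this
    refine (h.zz_spec p).2 (h.disjoint h0 hp hep' hep.symm (h.zz_spec p).1 ?_)
    have := conj_mem_Zv (g := e) (h.zz_spec p).1
    rwa [hc'.eq, mul_inv_cancel_right] at this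
  have pfb : (Γ).Adj (f (b - 2)) (f (b - 1)) := by
    have := pf (b - 2) (by omega)
    rwa [show b - 2 + 1 = b - 1 by omega] at this
  -- some module at distance two moves the end
  obtain ⟨d, hd, w, hw, hwQ⟩ : ∃ d, (Γ).Adj p d ∧ ∃ w ∈ Zv d, w ∉ Q (f (b - 1)) := by
    by_contra! hall
    have hbl : (f b).isLeft = true := hl le_rfl he2
    have hadjb : (Γ).Adj (f (b - 1)) (f b) := by
      have := pf (b - 1) (by omega)
      rwa [show b - 1 + 1 = b by omega] at this
    have hconj : ∀ x ∈ Vm p, e * x * e⁻¹ ∈ Vm p := by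
      have hle : Vm p ≤ (Vm p).comap (MulAut.conj e).toMonoidHom := Vm_le fun d hd x hx => by
        have hxS : x ∈ S (f b) (f (b - 1)) := by
          rw [S_comm]; exact h.Q_le_S hadjb (hall d hd x hx)
        have hc1 : ⁅x, e⁆ ∈ Zv (f (b - 1)) :=
          h.Z_eq_Zv hbl hadjb.symm ▸ h.comm_mem_Z hadjb.symm hxS heb
        have hc2 : ⁅x, e⁆ ∈ Vm p := by
          rcases h.mem_right hz (pf.right h0 (by omega) (by omega)) hc1 with e1 | e1
          · rw [e1]; exact one_mem _
          · rw [e1, ← key]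
            exact Zv_le_Vm hp.symm (h.Zv_le_adj h0 (pf 0 (by omega)) (h.zz_spec _).1)
        simp only [Subgroup.mem_comap, MulEquiv.toMonoidHom_eq_coe, MonoidHom.coe_coe,
          MulAut.conj_apply]
        rw [show e * x * e⁻¹ = ⁅x, e⁆⁻¹ * x by simp [commutatorElement_def, mul_assoc]]
        exact mul_mem (inv_mem hc2) (Zv_le_Vm hd hx)
      intro x hx
      simpa using hle hx
    have hep2 : Vm p ≤ S p (f 0) := Vm_le fun d hd => (h.Zv_le_Q_adj (h.left_of_right hpr hd) hd.symm).trans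
      (h.Q_le_S hp.symm)
    have hbot : Vm p = ⊥ := by
      refine h.eq_bot_of_edge hp.symm hep2 (Vm_normal p) ?_
      have hle : S (f 0) p ≤ G (f 0) ⊓ Subgroup.normalizer (Vm p : Set X) :=
        le_inf inf_le_left (inf_le_right.trans (Vm_normal p))
      rcases h.eq_of_le_G hp hle inf_le_left with e1 | e1
      · exfalso
        have : e ∈ G (f 0) ⊓ Subgroup.normalizer (Vm p : Set X) := ⟨heS.1, by
          refine Subgroup.mem_normalizer_iff.mpr fun x => ⟨hconj x, fun hx => ?_⟩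
          have := hconj _ hx
          have hee : e * e = 1 := h.Zv_sq heb
          have e2 : e * (e * x * e⁻¹) * e⁻¹ = x := by
            calc e * (e * x * e⁻¹) * e⁻¹ = e * e * x * (e * e)⁻¹ := by simp [mul_assoc]
              _ = x := by rw [hee]; simp
          rwa [e2] at this⟩
        rw [e1] at this
        exact hep (mem_stabilizer_iff.mp this.2)
      · exact e1.ge.trans inf_le_right
    have := Zv_le_Vm hp.symm ((h.Zv_le_adj h0 (pf 0 (by omega))) (h.zz_spec (f 1)).1)
    rw [hbot, Subgroup.mem_bot] at this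
    exact (h.zz_spec (f 1)).2 this
  have hdl : d.isLeft = true := h.left_of_right hpr hd
  -- sources at both kinds of ends
  set g := pre p f with hg
  have ng : NB b g := ((nf.take (show b - 1 ≤ b by omega)).pre hp.symm (fun _ => hp1)).take (by omega)
  have hgb : g b = f (b - 1) := by rw [hg, show b = b - 1 + 1 by omega, pre_succ, show b - 1 + 1 - 1 = b - 1 by omega]
  have wfix : ∀ i, i ≤ b → w • g i = g i := by
    intro i hi
    by_cases hib : i = b
    · subst hib
      rw [hgb]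
      exact h.fix_adj pfb (in2 d hd hw)
    · have p' : Path (i + 1) (pre d g) :=
        ((pf.take (show b - 1 ≤ b by omega)).pre hp.symm).take (by omega) |>.pre hd.symm
      exact h.fix_end hb (by omega) p' hdl hw
  have srcF : ∀ k, k ≤ b → Src M₁ M₂ false k := by
    intro k hk
    obtain ⟨x, hx, hwx⟩ := h.exists_moved (u := f (b - 1)) (hgb ▸ wfix b le_rfl) hwQ
    have := h.src_of ng wfix (hgb ▸ hx) hwx hk
    rwa [hgb, pf.right h0 (by omega) (by omega)] at this
  have srcT : ∀ k, k ≤ b → Src M₁ M₂ true k := by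
    intro k hk
    obtain ⟨x, hx, hax⟩ := h.exists_moved (u := f b) (h.fix_walk hb pf h0 ha b le_rfl) haQ
    have := h.src_of nf (h.fix_walk hb pf h0 ha) hx hax hk
    rwa [hl le_rfl he2] at this
  have T := h.trans_upto (K := b) (fun k _ hk τ => by cases τ; exacts [srcF k hk, srcT k hk])
  -- move the first centre, fixing the last
  obtain ⟨n, hn, hn1, hn3⟩ := h.exists_third (pf 1 (by omega)).symm (pf 2 (by omega))
  set F : ℕ → Vx := flip (b - 2) (fun j => f (1 + j)) with hF
  have nF : NB (b - 2) F := (nf.sub (i := 1) (k := b - 2) (by omega)).rev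
  have Fat : ∀ j, j ≤ b - 2 → F j = f (b - 1 - j) := fun j hj => by
    show f (1 + (b - 2 - j)) = f (b - 1 - j)
    rw [show 1 + (b - 2 - j) = b - 1 - j by omega]
  have nF' : NB (b - 3 + 1) (app (b - 3) F n) := (nF.take (by omega)).app
    (by rw [Fat _ (by omega), show b - 1 - (b - 3) = 2 by omega]; exact hn)
    (fun _ => by rw [Fat _ (by omega), show b - 1 - (b - 3 - 1) = 3 by omega]; exact hn3)
  rw [show b - 3 + 1 = b - 2 by omega] at nF'
  have hF0 : (F 0).isLeft = false := by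
    rw [Fat 0 (by omega), Nat.sub_zero]; exact pf.right h0 (by omega) (by omega)
  obtain ⟨q, hq⟩ := T (b - 2) (by omega) false F _ nF nF' hF0 (by rw [app_le (Nat.zero_le _)]; exact hF0)
  have q0 : q • f (b - 1) = f (b - 1) := by
    have := hq 0 (by omega)
    rwa [app_le (Nat.zero_le _), Fat 0 (by omega), Nat.sub_zero] at this
  have q1 : q • f 1 = n := by
    have e1 := hq (b - 2) le_rfl
    rw [Fat _ le_rfl, show b - 1 - (b - 2) = 1 by omega, show b - 2 = b - 3 + 1 by omega,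
      app_last] at e1
    exact e1
  have hc : Commute q (zz (f (b - 1))) :=
    h.cent_Zv (pf.right h0 (by omega) (by omega)) (show q ∈ G (f (b - 1)) from q0) (h.zz_spec _).1
  have h1 := h.zz_smul hz h1r q
  rw [q1, key, hc.eq, mul_inv_cancel_right, ← key] at h1
  exact (h.zz_spec (f 1)).2 (h.disjoint (hl (i := 2) (by omega) rfl) (pf 1 (by omega)).symm hn
    hn1.symm (h.zz_spec _).1 (by rw [h1]; exact (h.zz_spec n).1))

/-- With critical length two the edge stabiliser has order at most `2^7`. -/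
theorem bound_two (hb : Crit M₁ M₂ 2) (he : Escape M₁ M₂ 2) :
    ∀ u v : Vx, (Γ).Adj u v → Nat.card (S u v) ≤ 2 ^ 7 := by
  obtain ⟨f, pf, h0, hesc⟩ := he
  have nf := h.escape_nb hb pf h0 hesc
  obtain ⟨a, ha, haQ⟩ := SetLike.not_le_iff_exists.mp hesc
  have h1r : (f 1).isLeft = false := pf.right h0 (by omega) rfl
  have h2l : (f 2).isLeft = true := pf.left h0 (by omega) rfl
  have a01 : (Γ).Adj (f 0) (f 1) := pf 0 (by omega)
  have a12 : (Γ).Adj (f 1) (f 2) := pf 1 (by omega)
  obtain ⟨y, hy, hy0, hy2⟩ := h.exists_third a01.symm a12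
  obtain ⟨v3, h23, h31⟩ := h.exists_ne_adj a12.symm
  obtain ⟨v4, v4', h34, h34', h42, h42', h44⟩ := h.others h23.symm
  have v3r : v3.isLeft = false := h.right_of_left h2l h23
  have haS : a ∈ S (f 2) (f 1) := h.end_mem_S hb pf h0 ha
  -- the chain of intersections
  have hSQ : ∀ {u v : Vx}, (Γ).Adj u v → Q v ≤ S u v := fun huv => by
    rw [S_comm]; exact h.Q_le_S huv.symm
  have s1 := h.card_le_inf (u := f 0) a01 (K := Q (f 1)) (hSQ a01)
  have s2 := h.card_le_inf (u := y) hy.symm (K := Q (f 1) ⊓ Q (f 0)) (inf_le_left.trans (hSQ hy.symm))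
  have s3 := h.card_le_inf (u := f 2) a12.symm (K := Q (f 1) ⊓ Q (f 0) ⊓ Q y)
    ((inf_le_left.trans inf_le_left).trans (hSQ a12.symm))
  set K := Q (f 1) ⊓ Q (f 0) ⊓ Q y ⊓ Q (f 2) with hK
  have s4 := h.card_le_inf (u := v3) h23.symm (K := K)
    (inf_le_right.trans (hSQ h23.symm))
  have hK3 : K ⊓ Q v3 ≤ S v4 v3 := inf_le_right.trans (hSQ h34.symm)
  have hK3' : K ⊓ Q v3 ⊓ Q v4 ≤ S v4' v3 := (inf_le_left.trans inf_le_right).trans (hSQ h34'.symm)
  have s5 := h.card_le_inf (u := v4) h34.symm (K := K ⊓ Q v3) hK3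
  have s6 := h.card_le_inf (u := v4') h34'.symm (K := K ⊓ Q v3 ⊓ Q v4) hK3'
  set R := K ⊓ Q v3 ⊓ Q v4 ⊓ Q v4' with hR
  have hRk : R ≤ ker 2 (f 2) := by
    intro r hr
    obtain ⟨⟨⟨⟨⟨⟨r1, r0⟩, ry⟩, r2⟩, r3⟩, r4⟩, r4'⟩ := hr
    have k1 : r ∈ ker 1 (f 1) := mem_ker_succ.mpr ⟨r1, fun w hw => by
      rcases h.three a01.symm hy a12 hw hy0.symm (nf.2 0 le_rfl) hy2 with rfl | rfl | rfl
      exacts [r0, ry, r2]⟩
    have k3 : r ∈ ker 1 v3 := mem_ker_succ.mpr ⟨r3, fun w hw => by
      rcases h.three h23.symm h34 h34' hw h42.symm h42'.symm h44 with rfl | rfl | rfl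
      exacts [r2, r4, r4']⟩
    refine mem_ker_succ.mpr ⟨r2, fun w hw => ?_⟩
    rcases h.three a12.symm h23 (h.smul_adj h23 haS.1) hw h31.symm
      (fun e => h31 (smul_left_cancel a (e.symm.trans (mem_stabilizer_iff.mp haS.2).symm)))
      (h.smul_ne a12.symm h23 h31 haS haQ).symm with rfl | rfl | rfl
    · exact k1
    · exact k3
    · have := conj_mem_ker (g := a) k3
      rwa [(h.Zv_comm_Q ha r0).eq, mul_inv_cancel_right] at this
  have hker : ker 2 (f 2) = ⊥ := by
    by_contra hne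
    obtain ⟨z, hzk, hzZ, hz1⟩ := h.exists_mem_Z a12.symm
      ((ker_le 2 _).trans (h.Q_le_S a12.symm)) hne
      (inf_le_left.trans ker_normal)
    rw [h.Z_eq_Zv h2l a12.symm] at hzZ
    have h4l : v4.isLeft = true := h.left_of_right v3r h34
    set g : ℕ → Vx := fun i => if i = 0 then v4 else if i = 1 then v3 else f 2 with hg
    have ng : NB 2 g := by
      refine ⟨fun i hi => ?_, fun i hi => ?_⟩
      · rcases (show i = 0 ∨ i = 1 by omega) with rfl | rfl
        · simpa [hg] using h34.symm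
        · simpa [hg] using h23.symm
      · obtain rfl : i = 0 := by omega
        simpa [hg] using h42
    have hesc4 := h.escape_of_trans hb ⟨f, pf, h0, hesc⟩ (h.trans_three 2 (by omega) true) ng
      (by simpa [hg] using h4l)
    obtain ⟨a4, ha4, ha4Q⟩ := SetLike.not_le_iff_exists.mp hesc4
    have hfix := h.fix_walk hb ng.1 (by simpa [hg] using h4l) ha4
    have ha4S : a4 ∈ S (f 2) v3 := ⟨by simpa [hg] using hfix 2 le_rfl, by simpa [hg] using hfix 1 (by omega)⟩
    have hc : Commute a4 z := h.Zv_comm_Q (by simpa [hg] using ha4)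
      ((mem_ker_succ.mp ((mem_ker_succ.mp hzk).2 v3 h23)).2 v4 h34)
    refine hz1 (h.disjoint h2l a12.symm (h.smul_adj a12.symm ha4S.1)
      (h.smul_ne h23 a12.symm (h31.symm) ha4S (by simpa [hg] using ha4Q)).symm hzZ ?_)
    have := conj_mem_Zv (g := a4) hzZ
    rwa [hc.eq, mul_inv_cancel_right] at this
  have hR1 : Nat.card R = 1 := by
    rw [Subgroup.card_eq_one, eq_bot_iff, ← hker]; exact hRk
  intro u v huv
  have hcard := h.card_S a01.symm
  rw [S_comm] at hcard
  have := h.card_S_eq huv a01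
  omega

end Setting

end Cfsg.Lib.GoldBound
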