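import Cfsg.Agent.LocalEven.GoldBound.Odd

/-! The element of a module product fixed by the rotations, and the commutator of a symmetric walk. -/

set_option autoImplicit false
set_option linter.style.haveILetI false
set_option linter.unusedSectionVars false

open scoped commutatorElement

namespace Cfsg.Lib.GoldBound

open Cfsg MulAction Cfsg.Lib.Amalgam
open Cfsg.Lib.Goldschmidt (G S Q Z cs mem_cs conj_mem_cs omegaZ mem_omegaZ omegaZ_cs G_smul S_smul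
  Q_smul Z_smul conj_mem_G conj_mem_Q conj_mem_S conj_mem_Z S_comm Z_comm)

variable {X : Type*} [Group X] {M₁ M₂ : Subgroup X}

local notation "Γ" => cosetGraph M₁ M₂
local notation "Vx" => CosetVertex M₁ M₂

theorem Fc.smul {v : Vx} {y : X} (hy : Fc v y) (g : X) : Fc (g • v) (g * y * g⁻¹) := by
  intro d₁ d₂ d₃ h₁ h₂ h₃ h₁₂ h₁₃ h₂₃
  have mv : ∀ {d : Vx}, (Γ).Adj (g • v) d → (Γ).Adj v (g⁻¹ • d) := fun hd => by
    have := adj_smul g⁻¹ hd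
    rwa [inv_smul_smul] at this
  have ne : ∀ {d d' : Vx}, d ≠ d' → g⁻¹ • d ≠ g⁻¹ • d' := fun hne e => hne (smul_left_cancel _ e)
  obtain ⟨x₁, x₂, x₃, rfl, a₁, a₂, a₃⟩ := hy _ _ _ (mv h₁) (mv h₂) (mv h₃) (ne h₁₂) (ne h₁₃) (ne h₂₃)
  have tr : ∀ {d : Vx} {x : X}, x ∈ Zv (g⁻¹ • d) ∧ x ∉ Zv v →
      g * x * g⁻¹ ∈ Zv d ∧ g * x * g⁻¹ ∉ Zv (g • v) := fun hx => by
    refine ⟨by simpa using conj_mem_Zv (g := g) hx.1, fun hc => hx.2 ?_⟩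
    simpa [mul_assoc] using conj_mem_Zv (g := g⁻¹) hc
  exact ⟨_, _, _, by simp [mul_assoc], tr a₁, tr a₂, tr a₃⟩

namespace Setting

variable (h : Setting M₁ M₂)
include h

variable {b : ℕ} (hb : Crit M₁ M₂ b) (hb3 : 3 ≤ b)
include hb hb3

theorem fc_of {v e₁ e₂ e₃ : Vx} (hv : v.isLeft = false) (h₁ : (Γ).Adj v e₁) (h₂ : (Γ).Adj v e₂)
    (h₃ : (Γ).Adj v e₃) (n₁₂ : e₁ ≠ e₂) (n₁₃ : e₁ ≠ e₃) (n₂₃ : e₂ ≠ e₃) {x₁ x₂ x₃ : X}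
    (a₁ : x₁ ∈ Zv e₁ ∧ x₁ ∉ Zv v) (a₂ : x₂ ∈ Zv e₂ ∧ x₂ ∉ Zv v) (a₃ : x₃ ∈ Zv e₃ ∧ x₃ ∉ Zv v) :
    Fc v (x₁ * x₂ * x₃) := by
  intro d₁ d₂ d₃ g₁ g₂ g₃ m₁₂ m₁₃ m₂₃
  have c₁₂ : Commute x₁ x₂ := h.Vm_comm hb hb3 hv (Zv_le_Vm h₁ a₁.1) (Zv_le_Vm h₂ a₂.1)
  have c₁₃ : Commute x₁ x₃ := h.Vm_comm hb hb3 hv (Zv_le_Vm h₁ a₁.1) (Zv_le_Vm h₃ a₃.1)
  have c₂₃ : Commute x₂ x₃ := h.Vm_comm hb hb3 hv (Zv_le_Vm h₂ a₂.1) (Zv_le_Vm h₃ a₃.1)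
  rcases h.three h₁ h₂ h₃ g₁ n₁₂ n₁₃ n₂₃ with rfl | rfl | rfl <;>
    rcases h.three h₁ h₂ h₃ g₂ n₁₂ n₁₃ n₂₃ with rfl | rfl | rfl <;>
    rcases h.three h₁ h₂ h₃ g₃ n₁₂ n₁₃ n₂₃ with rfl | rfl | rfl
  all_goals first
    | exact absurd rfl m₁₂ | exact absurd rfl m₁₃ | exact absurd rfl m₂₃
    | exact ⟨x₁, x₂, x₃, rfl, a₁, a₂, a₃⟩
    | exact ⟨x₁, x₃, x₂, by rw [mul_assoc, c₂₃.eq, ← mul_assoc], a₁, a₃, a₂⟩
    | exact ⟨x₂, x₁, x₃, by rw [c₁₂.eq], a₂, a₁, a₃⟩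
    | exact ⟨x₂, x₃, x₁, by rw [mul_assoc, (c₁₂.mul_right c₁₃).eq], a₂, a₃, a₁⟩
    | exact ⟨x₃, x₁, x₂, by rw [(c₁₃.mul_left c₂₃).eq, ← mul_assoc], a₃, a₁, a₂⟩
    | exact ⟨x₃, x₂, x₁, by rw [(c₁₃.mul_left c₂₃).eq, mul_assoc, c₁₂.eq], a₃, a₂, a₁⟩

theorem fc_mem {v : Vx} (hv : v.isLeft = false) {y : X} (hy : Fc v y) : y ∈ Vm v := by
  obtain ⟨u, hu⟩ := h.exists_adj v
  obtain ⟨a, c, ha, hc, hau, hcu, hac⟩ := h.others hu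
  obtain ⟨x₁, x₂, x₃, rfl, a₁, a₂, a₃⟩ := hy u a c hu ha hc hau.symm hcu.symm hac
  exact mul_mem (mul_mem (Zv_le_Vm hu a₁.1) (Zv_le_Vm ha a₂.1)) (Zv_le_Vm hc a₃.1)

variable (hz : OneZ M₁ M₂)
include hz

theorem fc_unique {v : Vx} (hv : v.isLeft = false) {y y' : X} (hy : Fc v y) (hy' : Fc v y') :
    y * y' ∈ Zv v := by
  obtain ⟨u, hu⟩ := h.exists_adj v
  obtain ⟨a, c, ha, hc, hau, hcu, hac⟩ := h.others hu
  obtain ⟨x₁, x₂, x₃, rfl, a₁, a₂, a₃⟩ := hy u a c hu ha hc hau.symm hcu.symm hac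
  obtain ⟨z₁, z₂, z₃, rfl, b₁, b₂, b₃⟩ := hy' u a c hu ha hc hau.symm hcu.symm hac
  have k1 : Commute x₃ (z₁ * z₂) :=
    h.Vm_comm hb hb3 hv (Zv_le_Vm hc a₃.1) (mul_mem (Zv_le_Vm hu b₁.1) (Zv_le_Vm ha b₂.1))
  have k2 : Commute x₂ z₁ := h.Vm_comm hb hb3 hv (Zv_le_Vm ha a₂.1) (Zv_le_Vm hu b₁.1)
  rw [k1.mul_mul_mul_comm, k2.mul_mul_mul_comm]
  exact mul_mem (mul_mem (h.mul_mem_centre hz (h.left_of_right hv hu) hu.symm a₁.1 a₁.2 b₁.1 b₁.2)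
    (h.mul_mem_centre hz (h.left_of_right hv ha) ha.symm a₂.1 a₂.2 b₂.1 b₂.2))
    (h.mul_mem_centre hz (h.left_of_right hv hc) hc.symm a₃.1 a₃.2 b₃.1 b₃.2)

theorem fc_root {v : Vx} (hv : v.isLeft = false) {y : X} (hy : Fc v y) {x : X} (hx : x ∈ G v)
    (hx3 : x * x * x = 1) : Commute y x := by
  set m := y * (x * y * x⁻¹) with hm
  have hyV := h.fc_mem hb hb3 hv hy
  have hmZ : m ∈ Zv v := by
    have := hy.smul x
    rw [mem_stabilizer_iff.mp hx] at this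
    exact h.fc_unique hb hb3 hz hv hy this
  have hcm : Commute x m := h.cent_Zv hv hx hmZ
  have hyy : y * y = 1 := h.Vm_sq hb hb3 hv hyV
  have e1 : x * y * x⁻¹ = y * m := by rw [hm, ← mul_assoc, hyy, one_mul]
  have e2 : x * (x * y * x⁻¹) * x⁻¹ = y * m * m := by
    rw [e1, show x * (y * m) * x⁻¹ = x * y * x⁻¹ * (x * m * x⁻¹) by simp [mul_assoc], e1, hcm.eq,
      mul_inv_cancel_right]
  have e3 : x * y * x⁻¹ = y := by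
    rw [mul_assoc y m m, h.Zv_sq hmZ, mul_one] at e2
    calc x * y * x⁻¹ = x * (x * (x * y * x⁻¹) * x⁻¹) * x⁻¹ := by rw [e2]
      _ = x * x * x * y * (x * x * x)⁻¹ := by simp [mul_assoc]
      _ = y := by rw [hx3]; simp
  exact (mul_inv_eq_iff_eq_mul.mp e3).symm

/-- Outside the centre means outside `O₂` of the far end of a critical walk. -/
theorem not_Q_of {f : ℕ → Vx} (pf : Path b f) (h0 : (f 0).isLeft = true)
    (hesc : ¬ Zv (f 0) ≤ Q (f b)) {c : X} (hc : c ∈ Zv (f 0)) (hc1 : c ∉ Zv (f 1)) :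
    c ∉ Q (f b) := by
  intro hcQ
  obtain ⟨a, ha, haQ⟩ := SetLike.not_le_iff_exists.mp hesc
  have := h.centre_le_end hb pf h0
    (h.mul_mem_centre hz h0 (pf 0 (by omega)) ha (fun e => haQ (h.centre_le_end hb pf h0 e)) hc hc1)
  exact haQ ((Subgroup.mul_mem_cancel_right _ hcQ).mp this)

/-- The commutator along a symmetric walk, times the third centre, is fixed by the rotations. -/
theorem key (ho : b % 2 = 1) {f : ℕ → Vx} (sf : Sym b f) {a e : X} (ha : a ∈ Zv (f 0))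
    (haQ : a ∉ Q (f b)) (he : e ∈ Zv (f (b + 1))) (heQ : e ∉ Q (f 1)) :
    Fc (f 1) (⁅a, e⁆ * zz (f 3)) ∧ ⁅a, e⁆ ∈ Vm (f 1) ∧ ⁅a, e⁆ ∈ Vm (f b) ∧ ⁅e, a⁆ = ⁅a, e⁆ ∧
      e ∈ S (f 1) (f 2) ∧ e • f 0 ≠ f 0 := by
  obtain ⟨nf, h0, hesc, -⟩ := sf
  have pf := nf.1.take (Nat.le_succ b)
  have h1r : (f 1).isLeft = false := pf.right h0 (by omega) rfl
  have h2l : (f 2).isLeft = true := pf.left h0 (by omega) rfl
  have a01 : (Γ).Adj (f 0) (f 1) := pf 0 (by omega)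
  have a12 : (Γ).Adj (f 1) (f 2) := pf 1 (by omega)
  have a23 : (Γ).Adj (f 2) (f 3) := pf 2 (by omega)
  have hr0 : (flip (b + 1) f 0).isLeft = true := by
    show (f (b + 1 - 0)).isLeft = true
    rw [Nat.sub_zero]; exact nf.1.left h0 le_rfl (by omega)
  have heS : e ∈ S (f 1) (f 2) := by
    have := h.end_mem_S hb (nf.rev.1.take (Nat.le_succ b)) hr0 (a := e) (by simpa [flip] using he)
    simpa [flip, show b + 1 - b = 1 by omega, show b + 1 - (b - 1) = 2 by omega] using this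
  have he0 : e • f 0 ≠ f 0 := h.smul_ne a12 a01.symm (nf.2 0 (by omega)) heS heQ
  have he2 : e • f 2 = f 2 := heS.2
  have aV : a ∈ Vm (f 1) := Zv_le_Vm a01.symm ha
  have a'V : e * a * e⁻¹ ∈ Vm (f 1) := Vm_conj heS.1 aV
  have hainv : a⁻¹ = a := h.Zv_inv ha
  have et : ⁅a, e⁆ = a * (e * a * e⁻¹) := by
    rw [commutatorElement_def, hainv]; simp [mul_assoc]
  have ha1 : a ∉ Zv (f 1) := fun hc => haQ (h.centre_le_end hb pf h0 hc)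
  have ha'1 : e * a * e⁻¹ ∉ Zv (f 1) := fun hc => ha1 (by
    simpa [mul_assoc] using h.Zv_conj (inv_mem heS.1) hc)
  have hz3 : zz (f 3) ∈ Zv (f 2) ∧ zz (f 3) ∉ Zv (f 1) :=
    ⟨h.Zv_le_adj h2l a23 (h.zz_spec _).1, fun hc => (h.zz_spec (f 3)).2
      (h.disjoint h2l a12.symm a23 (nf.2 1 (by omega)) hc (h.zz_spec _).1)⟩
  refine ⟨?_, ?_, ?_, ?_, heS, he0⟩
  · rw [et]
    exact h.fc_of hb hb3 h1r a01.symm (h.smul_adj a01.symm heS.1) a12 he0.symm (nf.2 0 (by omega))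
      (fun e' => nf.2 0 (by omega) (smul_left_cancel e (e'.trans he2.symm)))
      ⟨ha, ha1⟩ ⟨conj_mem_Zv ha, ha'1⟩ hz3
  · rw [et]; exact mul_mem aV a'V
  · rw [commutatorElement_def]
    have heV : e ∈ Vm (f b) := Zv_le_Vm (nf.1 b (by omega)) he
    exact mul_mem (Vm_conj (h.end_mem_S hb pf h0 ha).1 heV) (inv_mem heV)
  · rw [← commutatorElement_inv a e, et, mul_inv_rev]
    rw [inv_eq_of_mul_eq_one_right (h.Vm_sq hb hb3 h1r a'V), hainv]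
    exact (h.Vm_comm hb hb3 h1r a'V aV).eq

end Setting

end Cfsg.Lib.GoldBound
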