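import Cfsg.Agent.LocalEven.GoldBound.Shift

/-! An odd critical length is at most three. -/

set_option autoImplicit false
set_option linter.style.haveILetI false
set_option linter.unusedSectionVars false

open scoped commutatorElement

namespace Cfsg.Lib.GoldBound

open Cfsg MulAction Cfsg.Lib.Amalgam
open Cfsg.Lib.Goldschmidt (G S Q Z cs mem_cs conj_mem_cs omegaZ mem_omegaZ omegaZ_cs G_smul S_smul
  Q_smul Z_smul conj_mem_G conj_mem_Q conj_mem_S conj_mem_Z S_comm Z_comm)

variable {X : Type*} [Group X] {M₁ M₂ : Subgroup X}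

local notation "Γ" => cosetGraph M₁ M₂
local notation "Vx" => CosetVertex M₁ M₂

namespace Pair

variable (h : Pair M₁ M₂)
include h

theorem exists_walk (τ : Bool) : ∀ n : ℕ, ∃ f : ℕ → Vx, NB n f ∧ (f 0).isLeft = τ := by
  intro n
  induction n with
  | zero =>
    obtain ⟨u, hu⟩ := h.exists_of_type τ
    exact ⟨fun _ => u, ⟨fun i hi => absurd hi (by omega), fun i hi => absurd hi (by omega)⟩, hu⟩
  | succ n ih =>
    obtain ⟨f, nf, f0⟩ := ih
    obtain ⟨v, hv⟩ := h.exists_adj (f n)
    obtain ⟨w, hw, hne⟩ : ∃ w, (Γ).Adj (f n) w ∧ (1 ≤ n → w ≠ f (n - 1)) := by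
      by_cases hn : 1 ≤ n
      · have := (nf.1 (n - 1) (by omega)).symm
        rw [show n - 1 + 1 = n by omega] at this
        obtain ⟨w, hw, hne⟩ := h.exists_ne_adj this
        exact ⟨w, hw, fun _ => hne⟩
      · exact ⟨v, hv, fun e => absurd e hn⟩
    exact ⟨_, nf.app hw hne, by rwa [app_le (Nat.zero_le _)]⟩

end Pair

namespace Setting

variable (h : Setting M₁ M₂)
include h

/-- No odd critical length of seven or more. -/
theorem no_seven {b : ℕ} (hb : Crit M₁ M₂ b) (ho : b % 2 = 1) (he : Escape M₁ M₂ b)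
    (hb7 : 7 ≤ b) : False := by
  have hz := h.odd_oneZ hb ho he
  obtain ⟨f', pf', h0', hesc'⟩ := he
  obtain ⟨d, sf⟩ := h.exists_sym hb ho pf' h0' hesc'
  generalize app b f' d = f at sf
  have sr := h.sym_rev ho sf
  obtain ⟨g, sg, hg⟩ := h.exists_shift hb ho (by omega) sf
  obtain ⟨k, sk, hk⟩ := h.exists_shift hb ho (by omega) sr
  obtain ⟨a, ha, haQ⟩ := SetLike.not_le_iff_exists.mp sg.2.2.1
  obtain ⟨e, hem, heQ⟩ := SetLike.not_le_iff_exists.mp sg.2.2.2
  have ht := h.shift_comm hb ho (by omega) sf sg hg ha haQ hem heQ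
  obtain ⟨-, -, htb, -, -, -⟩ := h.key hb (by omega) hz ho sg ha haQ hem heQ
  rw [ht] at htb
  have egb : g b = f (b - 2) := by
    have := hg (b - 2) (by omega)
    rwa [show b - 2 + 2 = b by omega] at this
  rw [egb] at htb
  obtain ⟨nk, k0, kesc, -⟩ := sk
  obtain ⟨c, hc, hcQ⟩ := SetLike.not_le_iff_exists.mp kesc
  have hkat : ∀ i, i + 2 ≤ b → k (i + 2) = f (b + 1 - i) := hk
  have ekb : k b = f 3 := by
    have := hkat (b - 2) (by omega)
    rwa [show b - 2 + 2 = b by omega, show b + 1 - (b - 2) = 3 by omega] at this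
  have ekb1 : k (b - 1) = f 4 := by
    have := hkat (b - 3) (by omega)
    rwa [show b - 3 + 2 = b - 1 by omega, show b + 1 - (b - 3) = 4 by omega] at this
  have pk := nk.1.take (Nat.le_succ b)
  have hcS : c ∈ S (f 3) (f 4) := by
    have := h.end_mem_S hb pk k0 hc
    rwa [ekb, ekb1] at this
  obtain ⟨nf, h0, -, -⟩ := sf
  have pf := nf.1.take (Nat.le_succ b)
  have h2l : (f 2).isLeft = true := pf.left h0 (by omega) rfl
  have h3r : (f 3).isLeft = false := pf.right h0 (by omega) rfl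
  have a12 : (Γ).Adj (f 1) (f 2) := pf 1 (by omega)
  have a23 : (Γ).Adj (f 2) (f 3) := pf 2 (by omega)
  have a34 : (Γ).Adj (f 3) (f 4) := pf 3 (by omega)
  have hmove : c • f 2 ≠ f 2 := h.smul_ne a34 a23.symm (nf.2 2 (by omega)) hcS (ekb ▸ hcQ)
  have hct : Commute c (zz (f 1)) := by
    refine commute_Vm (fun d hd y hy => ?_) htb
    have e5 : k 5 = f (b - 2) := by
      have := hkat 3 (by omega)
      rwa [show b + 1 - 3 = b - 2 by omega] at this
    have p6 : Path (5 + 1) (app 5 k d) := (pk.take (by omega)).app (e5 ▸ hd)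
    exact h.comm_ends hb (by omega) p6 (by rw [app_le (Nat.zero_le _)]; exact k0)
      (by rw [app_le (Nat.zero_le _)]; exact hc) (by rw [app_last]; exact hy)
  have hz1 : zz (f 1) ∈ Zv (f 2) := h.Zv_le_adj h2l a12.symm (h.zz_spec _).1
  have h3 : zz (f 1) ∈ Zv (f 3) := by
    refine h.Zv_inter h3r a23.symm (h.smul_adj a23.symm hcS.1) hmove.symm hz1 ?_
    have := conj_mem_Zv (g := c) hz1
    rwa [hct.eq, mul_inv_cancel_right] at this
  exact (h.zz_spec (f 1)).2 (h.disjoint h2l a12.symm a23 (nf.2 1 (by omega)) (h.zz_spec _).1 h3)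

/-- The critical length is not five. -/
theorem no_five (hb : Crit M₁ M₂ 5) (he : Escape M₁ M₂ 5) : False := by
  have ho : 5 % 2 = 1 := rfl
  have hz := h.odd_oneZ hb ho he
  have T5 := h.trans_five hb ho he le_rfl
  have notQ : ∀ w : ℕ → Vx, NB 5 (fun j => w (1 + j)) → (w 1).isLeft = true →
      zz (w 0) ∈ Zv (w 1) → zz (w 0) ∉ Zv (w 2) → zz (w 0) ∉ Q (w 6) := by
    intro w nw' w1
    have hesc := h.escape_of_trans hb he T5 nw' (by simpa using w1)
    have key := h.not_Q_of hb (by omega) hz nw'.1 (c := zz (w 0)) (by simpa using w1) hesc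
    simpa only [Nat.reduceAdd, Nat.add_zero] using key
  have six : ∀ y : ℕ → Vx, NB 6 y → (y 0).isLeft = true → ∀ a e, a ∈ Zv (y 0) → a ∉ Q (y 5) →
      e ∈ Zv (y 6) → e ∉ Q (y 1) → ⁅a, e⁆ = zz (y 3) := by
    intro y ny y0 a e ha haQ hem heQ
    have mkSym : ∀ w : ℕ → Vx, NB 6 w → (w 0).isLeft = true → Sym 5 w := fun w nw w0 => by
      refine ⟨nw, w0, h.escape_of_trans hb he T5 (nw.take (by omega)) w0, ?_⟩
      have := h.escape_of_trans hb he T5 (nw.rev.take (by omega))
        (show (w (6 - 0)).isLeft = true from nw.1.left w0 le_rfl rfl)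
      simpa [flip] using this
    obtain ⟨p, hp, hp5⟩ := h.exists_ne_adj (ny.1 5 (by omega)).symm
    obtain ⟨r, hr, hr6⟩ := h.exists_ne_adj hp.symm
    have n8 : NB 8 (app 7 (app 6 y p) r) :=
      (ny.app hp (fun _ => hp5)).app (by rw [app_last]; exact hr)
        (fun _ => by rw [app_le (show 6 ≤ 6 from le_rfl)]; exact hr6)
    set f : ℕ → Vx := fun i => app 7 (app 6 y p) r (2 + i) with hf
    have sf : Sym 5 f := mkSym f (n8.sub (i := 2) (k := 6) (by omega))
      (by simpa [hf, app] using ny.1.left y0 (i := 2) (by omega) rfl)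
    have := h.shift_comm hb ho le_rfl sf (mkSym y ny y0)
      (fun i hi => by
        show y (i + 2) = app 7 (app 6 y p) r (2 + i)
        rw [app_le (by omega), app_le (by omega), Nat.add_comm])
      ha haQ hem heQ
    rw [show f 1 = y 3 from by
      show app 7 (app 6 y p) r 3 = y 3
      rw [app_le (by omega), app_le (by omega)]] at this
    exact this
  have eight : ∀ y : ℕ → Vx, NB 8 y → (y 0).isLeft = false → ⁅zz (y 0), zz (y 8)⁆ = zz (y 4) := by
    intro y ny y0
    have out : ∀ w : ℕ → Vx, NB 8 w → (w 0).isLeft = false →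
        zz (w 0) ∈ Zv (w 1) ∧ zz (w 0) ∉ Q (w 6) := fun w nw w0 => by
      have w1 : (w 1).isLeft = true := h.left_of_right w0 (nw.1 0 (by omega))
      have hm : zz (w 0) ∈ Zv (w 1) := h.Zv_le_adj w1 (nw.1 0 (by omega)).symm (h.zz_spec _).1
      refine ⟨hm, ?_⟩
      have nw' : NB 5 (fun j => w (1 + j)) := nw.sub (by omega)
      exact notQ w nw' w1 hm
        fun e => (h.zz_spec (w 0)).2 (h.disjoint w1 (nw.1 0 (by omega)).symm (nw.1 1 (by omega))
          (nw.2 0 (by omega)) (h.zz_spec _).1 e)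
    obtain ⟨a1, a2⟩ := out y ny y0
    obtain ⟨c1, c2⟩ := out _ ny.rev (show (y (8 - 0)).isLeft = false by
      rw [ny.1.type le_rfl, if_pos rfl, y0])
    have := six (fun j => y (1 + j)) (ny.sub (by omega))
      (by simpa using h.left_of_right y0 (ny.1 0 (by omega))) (zz (y 0)) (zz (y 8))
      (by simpa using a1) (by simpa using a2) (by simpa [flip] using c1) (by simpa [flip] using c2)
    simpa using this
  obtain ⟨y, ny, y0⟩ := h.exists_walk false 10
  have hr : ∀ i, i ≤ 10 → i % 2 = 0 → (y i).isLeft = false := fun i hi hp => by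
    rw [ny.1.type hi, if_pos hp, y0]
  have hl : ∀ i, i ≤ 10 → i % 2 = 1 → (y i).isLeft = true := fun i hi hp => by
    rw [ny.1.type hi, if_neg (by omega), y0]; rfl
  -- an end centre fixes the middle and moves beyond
  have mid : ∀ w : ℕ → Vx, NB 10 w → (w 0).isLeft = false →
      zz (w 0) • w 6 = w 6 ∧ zz (w 0) • w 7 ≠ w 7 := by
    intro w nw w0
    have w1 : (w 1).isLeft = true := h.left_of_right w0 (nw.1 0 (by omega))
    have hm : zz (w 0) ∈ Zv (w 1) := h.Zv_le_adj w1 (nw.1 0 (by omega)).symm (h.zz_spec _).1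
    have nw' : NB 5 (fun j => w (1 + j)) := nw.sub (by omega)
    have hS := h.end_mem_S hb nw'.1 w1 hm
    have hQ := notQ w nw' w1 hm
      fun e => (h.zz_spec (w 0)).2 (h.disjoint w1 (nw.1 0 (by omega)).symm (nw.1 1 (by omega))
        (nw.2 0 (by omega)) (h.zz_spec _).1 e)
    exact ⟨hS.1, h.smul_ne (nw.1 5 (by omega)).symm (nw.1 6 (by omega)) (nw.2 5 (by omega)).symm hS hQ⟩
  -- folding a walk at a fixed vertex
  have fold : ∀ (z : ℕ → Vx) (g : X), NB 4 z → (z 4).isLeft = false → g • z 0 = z 0 →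
      g • z 1 ≠ z 1 → ⁅g * zz (z 4) * g⁻¹, zz (z 4)⁆ = zz (z 0) := by
    intro z g nz z4 g0 g1
    set v : ℕ → Vx := fun j => if j ≤ 4 then g • z (4 - j) else z (j - 4) with hv
    have nv : NB 8 v := by
      have a := nz.1
      have c := nz.2
      refine ⟨fun i hi => ?_, fun i hi => ?_⟩
      · rcases (show i = 0 ∨ i = 1 ∨ i = 2 ∨ i = 3 ∨ i = 4 ∨ i = 5 ∨ i = 6 ∨ i = 7 by omega) with
          rfl | rfl | rfl | rfl | rfl | rfl | rfl | rfl <;> simp [hv]
        · exact adj_smul g (a 3 (by omega)).symm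
        · exact adj_smul g (a 2 (by omega)).symm
        · exact adj_smul g (a 1 (by omega)).symm
        · exact adj_smul g (a 0 (by omega)).symm
        · rw [g0]; exact a 0 (by omega)
        · exact a 1 (by omega)
        · exact a 2 (by omega)
        · exact a 3 (by omega)
      · rcases (show i = 0 ∨ i = 1 ∨ i = 2 ∨ i = 3 ∨ i = 4 ∨ i = 5 ∨ i = 6 by omega) with
          rfl | rfl | rfl | rfl | rfl | rfl | rfl <;> simp [hv]
        · exact (c 2 (by omega)).symm
        · exact (c 1 (by omega)).symm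
        · exact (c 0 (by omega)).symm
        · exact g1
        · rw [g0]; exact c 0 (by omega)
        · exact c 1 (by omega)
        · exact c 2 (by omega)
    have := eight v nv (by simp [hv, type_smul, z4])
    have e0 : v 0 = g • z 4 := by simp [hv]
    have e4 : v 4 = z 0 := by simp [hv, g0]
    have e8 : v 8 = z 4 := by simp [hv]
    rwa [e0, e4, e8, ← h.zz_smul hz z4 g] at this
  set A := zz (y 0) with hA
  set B := zz (y 10) with hB
  obtain ⟨A6, A7⟩ := mid y ny y0
  obtain ⟨B4, B3⟩ := mid _ ny.rev (hr 10 le_rfl rfl)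
  simp [flip] at B4 B3
  have e4 := fold (fun j => y (4 - j)) B (ny.take (by omega) : NB 4 y).rev (by simpa using y0)
    (by simpa using B4) (by simpa using B3)
  have e6 := fold (fun j => y (6 + j)) A (ny.sub (by omega)) (hr 10 le_rfl rfl) A6 A7
  simp only [Nat.sub_self, Nat.sub_zero, Nat.add_zero] at e4 e6
  rw [← hA] at e4
  rw [show (6 + 4 : ℕ) = 10 from rfl, ← hB] at e6
  have iA : A⁻¹ = A := h.Zv_inv (h.zz_spec _).1
  have iB : B⁻¹ = B := h.Zv_inv (h.zz_spec _).1
  have key : zz (y 4) = zz (y 6) := by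
    rw [← h.Zv_inv (h.zz_spec (y 6)).1, ← e4, ← e6]
    simp [commutatorElement_def, mul_assoc, iA, iB]
  exact (h.zz_spec (y 4)).2 (h.disjoint (hl 5 (by omega) rfl) (ny.1 4 (by omega)).symm
    (ny.1 5 (by omega)) (ny.2 4 (by omega)) (h.zz_spec _).1 (key ▸ (h.zz_spec _).1))

end Setting

end Cfsg.Lib.GoldBound
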