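import Cfsg.Agent.LocalEven.GoldBound.Fixed

/-! Critical length three: the edge stabiliser has order at most `2^7`. -/

set_option autoImplicit false
set_option linter.style.haveILetI false
set_option linter.unusedSectionVars false

open scoped commutatorElement

namespace Cfsg.Lib.GoldBound

open Cfsg MulAction Cfsg.Lib.Amalgam
open Cfsg.Lib.Goldschmidt (G S Q Z cs mem_cs conj_mem_cs omegaZ mem_omegaZ omegaZ_cs G_smul S_smul
  Q_smul Z_smul conj_mem_G conj_mem_Q conj_mem_S conj_mem_Z S_comm Z_comm)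

variable {X : Type*} [Group X] {M₁ M₂ : Subgroup X}

local notation "Γ" => cosetGraph M₁ M₂
local notation "Vx" => CosetVertex M₁ M₂

namespace Setting

variable (h : Setting M₁ M₂)
include h

variable (hb : Crit M₁ M₂ 3) (he : Escape M₁ M₂ 3)
include hb he

theorem one_three : OneZ M₁ M₂ := h.odd_oneZ hb rfl he

theorem sym_three {f : ℕ → Vx} (nf : NB 4 f) (f0 : (f 0).isLeft = true) : Sym 3 f := by
  refine ⟨nf, f0, h.escape_of_trans hb he (h.trans_three 3 le_rfl true) (nf.take (by omega)) f0, ?_⟩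
  have := h.escape_of_trans hb he (h.trans_three 3 le_rfl true) (nf.rev.take (by omega))
    (show (f (4 - 0)).isLeft = true from nf.1.left f0 le_rfl rfl)
  simpa [flip] using this

/-- The commutator along a walk of length four. -/
theorem three_comm {f : ℕ → Vx} (nf : NB 4 f) (f0 : (f 0).isLeft = true) {a e : X}
    (ha : a ∈ Zv (f 0)) (haQ : a ∉ Q (f 3)) (hem : e ∈ Zv (f 4)) (heQ : e ∉ Q (f 1)) :
    ⁅a, e⁆ = zz (f 1) * zz (f 3) := by
  have hz := h.one_three hb he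
  have sf := h.sym_three hb he nf f0
  obtain ⟨k1, tV, -, et, -, -⟩ := h.key hb le_rfl hz rfl sf ha haQ hem heQ
  obtain ⟨k3, -, -, -, -, -⟩ := h.key hb le_rfl hz rfl (h.sym_rev rfl sf) (a := e) (e := a)
    (by simpa [flip] using hem) (by simpa [flip] using heQ) (by simpa [flip] using ha)
    (by simpa [flip] using haQ)
  simp [flip] at k3
  rw [et] at k3
  set t := ⁅a, e⁆ with ht
  have h1r : (f 1).isLeft = false := nf.1.right f0 (by omega) rfl
  have h3r : (f 3).isLeft = false := nf.1.right f0 (by omega) rfl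
  have h2l : (f 2).isLeft = true := nf.1.left f0 (by omega) rfl
  have a12 : (Γ).Adj (f 2) (f 1) := (nf.1 1 (by omega)).symm
  have a23 : (Γ).Adj (f 2) (f 3) := nf.1 2 (by omega)
  have m1 := h.Zv_le_adj h2l a12 (h.zz_spec (f 1)).1
  have m3 := h.Zv_le_adj h2l a23 (h.zz_spec (f 3)).1
  have hy : t * zz (f 3) * zz (f 1) = 1 := by
    refine h.central_one h2l a12 a23 (nf.2 1 (by omega)) ?_ (fun x hx hx3 => ?_) (fun x hx hx3 => ?_)
    · rw [S_comm]
      exact h.Q_le_S a12.symm (mul_mem (h.Vm_le_Q h1r (h.fc_mem hb le_rfl h1r k1))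
        (h.Zv_le_Q _ (h.zz_spec _).1))
    · exact (h.fc_root hb le_rfl hz h1r k1 hx hx3).mul_left (h.cent_Zv h1r hx (h.zz_spec _).1).symm
    · rw [mul_assoc, (h.Zv_comm m3 m1).eq, ← mul_assoc]
      exact (h.fc_root hb le_rfl hz h3r k3 hx hx3).mul_left (h.cent_Zv h3r hx (h.zz_spec _).1).symm
  rw [mul_assoc] at hy
  rw [eq_inv_of_mul_eq_one_left hy, mul_inv_rev, h.Zv_inv m1, h.Zv_inv m3]

/-- The modules of the neighbours are generated by two of them. -/
theorem vm_decomp {f : ℕ → Vx} (nf : NB 4 f) (f0 : (f 0).isLeft = true) {x : X}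
    (hx : x ∈ Vm (f 1)) : ∃ y ∈ Zv (f 0), ∃ y' ∈ Zv (f 2), x = y * y' := by
  have hz := h.one_three hb he
  obtain ⟨-, -, -, hesc2⟩ := h.sym_three hb he nf f0
  have hesc := (h.sym_three hb he nf f0).2.2.1
  obtain ⟨e, hem, heQ⟩ := SetLike.not_le_iff_exists.mp hesc2
  obtain ⟨a, ha, haQ⟩ := SetLike.not_le_iff_exists.mp hesc
  obtain ⟨-, -, -, -, heS, he0⟩ := h.key hb le_rfl hz rfl (h.sym_three hb he nf f0) ha haQ hem heQ
  have h1r : (f 1).isLeft = false := nf.1.right f0 (by omega) rfl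
  have h2l : (f 2).isLeft = true := nf.1.left f0 (by omega) rfl
  have a10 : (Γ).Adj (f 1) (f 0) := (nf.1 0 (by omega)).symm
  have a12 : (Γ).Adj (f 1) (f 2) := nf.1 1 (by omega)
  let P : Subgroup X :=
    { carrier := {x | ∃ y ∈ Zv (f 0), ∃ y' ∈ Zv (f 2), x = y * y'}
      one_mem' := ⟨1, one_mem _, 1, one_mem _, (mul_one 1).symm⟩
      mul_mem' := by
        rintro _ _ ⟨p, hp, p', hp', rfl⟩ ⟨q, hq, q', hq', rfl⟩
        exact ⟨p * q, mul_mem hp hq, p' * q', mul_mem hp' hq',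
          (h.Vm_comm hb le_rfl h1r (Zv_le_Vm a12 hp') (Zv_le_Vm a10 hq)).mul_mul_mul_comm p q'⟩
      inv_mem' := by
        rintro _ ⟨p, hp, p', hp', rfl⟩
        exact ⟨p⁻¹, inv_mem hp, p'⁻¹, inv_mem hp', by
          rw [mul_inv_rev]
          exact (h.Vm_comm hb le_rfl h1r (Zv_le_Vm a12 hp') (Zv_le_Vm a10 hp)).inv_inv.eq⟩ }
  have mP0 : ∀ y ∈ Zv (f 0), y ∈ P := fun y hy => ⟨y, hy, 1, one_mem _, (mul_one y).symm⟩
  have mP2 : ∀ y ∈ Zv (f 2), y ∈ P := fun y hy => ⟨1, one_mem _, y, hy, (one_mul y).symm⟩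
  have hle : Vm (f 1) ≤ P := Vm_le fun u hu y hy => by
    rcases h.three a10 a12 (h.smul_adj a10 heS.1) hu (nf.2 0 (by omega)) he0.symm
      (fun e' => nf.2 0 (by omega) (smul_left_cancel e ((mem_stabilizer_iff.mp heS.2).trans e').symm))
      with rfl | rfl | rfl
    · exact mP0 y hy
    · exact mP2 y hy
    · have hy0 : e⁻¹ * y * e ∈ Zv (f 0) := by
        have := conj_mem_Zv (g := e⁻¹) hy
        rwa [inv_inv, inv_smul_smul] at this
      set y₀ := e⁻¹ * y * e with hy₀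
      have ey : y = ⁅e, y₀⁆ * y₀ := by simp [hy₀, commutatorElement_def, mul_assoc]
      by_cases hy1 : y₀ ∈ Zv (f 1)
      · rw [ey, commutatorElement_eq_one_iff_commute.mpr (h.cent_Zv h1r heS.1 hy1), one_mul]
        exact mP0 _ hy0
      · rw [ey, ← commutatorElement_inv y₀ e, h.three_comm hb he nf f0 hy0
          (h.not_Q_of hb le_rfl hz (nf.1.take (by omega)) f0 hesc hy0 hy1) hem heQ]
        exact mul_mem (inv_mem (mP2 _ (mul_mem (h.Zv_le_adj h2l a12.symm (h.zz_spec _).1)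
          (h.Zv_le_adj h2l (nf.1 2 (by omega)) (h.zz_spec _).1)))) (mP0 _ hy0)
  exact hle hx

theorem vm_inner {f : ℕ → Vx} (nf : NB 4 f) (f0 : (f 0).isLeft = true) {x : X}
    (hx : x ∈ Vm (f 1)) (hx3 : x ∈ Q (f 3)) : x ∈ Zv (f 2) := by
  obtain ⟨y, hy, y', hy', rfl⟩ := h.vm_decomp hb he nf f0 hx
  have h2l : (f 2).isLeft = true := nf.1.left f0 (by omega) rfl
  have hy'3 : y' ∈ Q (f 3) := h.Zv_le_Q_adj h2l (nf.1 2 (by omega)) hy'
  have hy1 : y ∈ Zv (f 1) := by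
    by_contra hc
    exact h.not_Q_of hb le_rfl (h.one_three hb he) (nf.1.take (by omega)) f0
      (h.sym_three hb he nf f0).2.2.1 hy hc ((Subgroup.mul_mem_cancel_right _ hy'3).mp hx3)
  exact mul_mem (h.Zv_le_adj h2l (nf.1 1 (by omega)).symm hy1) hy'

theorem ker_one_of {f : ℕ → Vx} (nf : NB 4 f) (f0 : (f 0).isLeft = true) {x : X}
    (x1 : x ∈ Q (f 1)) (x0 : x ∈ Q (f 0)) (x2 : x ∈ Q (f 2)) : x ∈ ker 1 (f 1) := by
  have h1r : (f 1).isLeft = false := nf.1.right f0 (by omega) rfl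
  refine mem_ker_succ.mpr ⟨x1, fun w hw => ?_⟩
  refine h.mem_Q_of_commute (h.left_of_right h1r hw) (mem_stabilizer_iff.mpr (h.fix_adj hw x1))
    fun z hz => ?_
  obtain ⟨y, hy, y', hy', rfl⟩ := h.vm_decomp hb he nf f0 (Zv_le_Vm hw hz)
  exact ((h.Zv_comm_Q hy x0).mul_left (h.Zv_comm_Q hy' x2)).symm

/-- A rotation at the second vertex acting trivially on `ker 1` modulo the module product. -/
theorem exists_quiet {f : ℕ → Vx} (nf : NB 4 f) (f0 : (f 0).isLeft = true) :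
    ∃ N : Subgroup X, N ≤ G (f 1) ∧ G (f 1) ≤ Subgroup.normalizer (N : Set X) ∧
      (∀ g ∈ N, ∀ k ∈ ker 1 (f 1), ⁅k, g⁆ ∈ Vm (f 1)) ∧
      ∃ x ∈ N, x * x * x = 1 ∧ x • f 2 ≠ f 2 := by
  obtain ⟨-, -, -, hesc2⟩ := h.sym_three hb he nf f0
  obtain ⟨e, hem, heQ⟩ := SetLike.not_le_iff_exists.mp hesc2
  have h1r : (f 1).isLeft = false := nf.1.right f0 (by omega) rfl
  have h2l : (f 2).isLeft = true := nf.1.left f0 (by omega) rfl
  have a12 : (Γ).Adj (f 1) (f 2) := nf.1 1 (by omega)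
  let N : Subgroup X :=
    { carrier := {g | g ∈ G (f 1) ∧ ∀ k ∈ ker 1 (f 1), ⁅k, g⁆ ∈ Vm (f 1)}
      one_mem' := ⟨one_mem _, fun k _ => by simp⟩
      mul_mem' := by
        rintro g g' ⟨hg, hg'⟩ ⟨hk, hk'⟩
        refine ⟨mul_mem hg hk, fun k hkk => ?_⟩
        rw [show ⁅k, g * g'⁆ = ⁅k, g⁆ * (g * ⁅k, g'⁆ * g⁻¹) by
          simp [commutatorElement_def, mul_assoc]]
        exact mul_mem (hg' k hkk) (Vm_conj hg (hk' k hkk))
      inv_mem' := by
        rintro g ⟨hg, hg'⟩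
        refine ⟨inv_mem hg, fun k hk => ?_⟩
        rw [show ⁅k, g⁻¹⁆ = g⁻¹ * ⁅k, g⁆⁻¹ * g⁻¹⁻¹ by simp [commutatorElement_def, mul_assoc]]
        exact Vm_conj (inv_mem hg) (inv_mem (hg' k hk)) }
  have hN : G (f 1) ≤ Subgroup.normalizer (N : Set X) := le_normalizer_of_conj fun c hc g hg => by
    refine ⟨mul_mem (mul_mem hc hg.1) (inv_mem hc), fun k hk => ?_⟩
    have hk' : c⁻¹ * k * c⁻¹⁻¹ ∈ ker 1 (f 1) :=
      (Subgroup.mem_normalizer_iff.mp (ker_normal (inv_mem hc)) k).mp hk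
    rw [show ⁅k, c * g * c⁻¹⁆ = c * ⁅c⁻¹ * k * c⁻¹⁻¹, g⁆ * c⁻¹ by
      simp [commutatorElement_def, mul_assoc]]
    exact Vm_conj hc (hg.2 _ hk')
  have heG : e ∈ G (f 1) := by
    have := h.fix_walk hb (nf.rev.1.take (show 3 ≤ 4 by omega))
      (show (f (4 - 0)).isLeft = true from nf.1.left f0 le_rfl rfl) (a := e) hem 3 le_rfl
    simpa [flip] using this
  have heN : e ∈ N := by
    refine ⟨heG, fun k hk => ?_⟩
    have k2 : k ∈ Q (f 2) := (mem_ker_succ.mp hk).2 _ a12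
    have hk3 : k ∈ G (f 3) := mem_stabilizer_iff.mpr (h.fix_adj (nf.1 2 (by omega)) k2)
    have heV : e ∈ Vm (f 3) := Zv_le_Vm (nf.1 3 (by omega)) hem
    have c1 : ⁅k, e⁆ ∈ Vm (f 3) := mul_mem (Vm_conj hk3 heV) (inv_mem heV)
    have c2 : ⁅k, e⁆ ∈ Q (f 1) := by
      rw [show ⁅k, e⁆ = k * (e * k⁻¹ * e⁻¹) by simp [commutatorElement_def, mul_assoc]]
      exact mul_mem (ker_le 1 _ hk) (h.Q_normal _ heG (inv_mem (ker_le 1 _ hk)))
    refine Zv_le_Vm a12 (h.vm_inner hb he nf.rev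
      (show (f (4 - 0)).isLeft = true from nf.1.left f0 le_rfl rfl) ?_ ?_)
    · simpa [flip] using c1
    · simpa [flip] using c2
  exact ⟨N, fun g hg => hg.1, hN, fun g hg => hg.2,
    h.exists_three a12 (fun g hg => hg.1) hN (fun hle => heQ (hle heN))⟩

/-- Commutators with the third branch lie in the opposite centre. -/
theorem comm_side {f : ℕ → Vx} (nf : NB 4 f) (f0 : (f 0).isLeft = true) {n d : Vx}
    (hn : (Γ).Adj (f 2) n) (hn1 : n ≠ f 1) (hn3 : n ≠ f 3) (hd : (Γ).Adj n d) (hd2 : d ≠ f 2)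
    {r g : X} (hr1 : r ∈ ker 1 (f 1)) (hr3 : r ∈ ker 1 (f 3)) (hg : g ∈ Zv d) :
    ⁅r, g⁆ ∈ Zv (f 3) := by
  have hz := h.one_three hb he
  have h1r : (f 1).isLeft = false := nf.1.right f0 (by omega) rfl
  have h2l : (f 2).isLeft = true := nf.1.left f0 (by omega) rfl
  have a12 : (Γ).Adj (f 1) (f 2) := nf.1 1 (by omega)
  have a23 : (Γ).Adj (f 2) (f 3) := nf.1 2 (by omega)
  have hnr : n.isLeft = false := h.right_of_left h2l hn
  have hdl : d.isLeft = true := h.left_of_right hnr hd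
  obtain ⟨N, hNG, hN, hNc, x, hxN, -, hx2⟩ := h.exists_quiet hb he nf f0
  obtain ⟨l, hlN, hlS, hlQ⟩ := h.exists_swap h2l a12.symm hN hxN (hNG hxN) hx2
  have hl3 : l • f 3 = n := by
    rcases h.two_others a12.symm a23 hn (h.smul_adj a23 hlS.1) (nf.2 1 (by omega)).symm hn1
      (fun e' => nf.2 1 (by omega) (smul_left_cancel l (e'.trans (mem_stabilizer_iff.mp hlS.2).symm)).symm)
      hn3.symm with e' | e'
    · exact absurd e' (h.smul_ne a12.symm a23 (nf.2 1 (by omega)).symm hlS hlQ)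
    · exact e'
  set r' := l * r * l⁻¹ with hr'
  have hr'n : r' ∈ ker 1 n := hl3 ▸ conj_mem_ker hr3
  have hcr' : Commute r' g := (h.Zv_comm_Q hg ((mem_ker_succ.mp hr'n).2 d hd)).symm
  set w : ℕ → Vx := app 3 (app 2 f n) d with hw
  have nw : NB 4 w := ((nf.take (show 2 ≤ 4 by omega)).app hn (fun _ => hn1)).app
    (by rw [app_last]; exact hd) (fun _ => by rw [app_le (show 2 ≤ 2 from le_rfl)]; exact hd2)
  obtain ⟨y, hy, y', hy', e⟩ := h.vm_decomp hb he nf f0 (hNc l hlN r hr1)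
  have cy' : Commute y' g := h.comm_ends hb (n := 2) (by omega)
    (show Path 2 (fun j => w (2 + j)) from nw.1.sub (by omega)) (by simpa [hw, app] using h2l)
    (by simpa [hw, app] using hy') (by simpa [hw, app] using hg)
  have er : ⁅r, g⁆ = ⁅y, g⁆ := by
    have e1 : r = y * y' * r' := by
      rw [← e, hr', commutatorElement_def]; simp [mul_assoc]
    calc ⁅r, g⁆ = y * (y' * (r' * g * r'⁻¹) * y'⁻¹) * y⁻¹ * g⁻¹ := by
          simp [e1, commutatorElement_def, mul_assoc]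
      _ = ⁅y, g⁆ := by
          rw [hcr'.eq, mul_inv_cancel_right, cy'.eq, mul_inv_cancel_right, commutatorElement_def]
  rw [er]
  by_cases hy1 : y ∈ Zv (f 1)
  · rw [commutatorElement_eq_one_iff_commute.mpr (h.comm_ends hb (n := 2) (by omega)
      (show Path 2 (fun j => w (2 + j)) from nw.1.sub (by omega)) (by simpa [hw, app] using h2l)
      (a := y) (by simpa [hw, app] using h.Zv_le_adj h2l a12.symm hy1)
      (by simpa [hw, app] using hg))]
    exact one_mem _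
  by_cases hgn : g ∈ Zv n
  · rw [commutatorElement_eq_one_iff_commute.mpr (h.comm_ends hb (n := 2) (by omega)
      (nf.1.take (show 2 ≤ 4 by omega)) f0 hy (h.Zv_le_adj h2l hn hgn))]
    exact one_mem _
  have sw := h.sym_three hb he nw (by simpa [hw, app] using f0)
  have hyQ : y ∉ Q n := by
    have := h.not_Q_of hb le_rfl hz (nw.1.take (show 3 ≤ 4 by omega)) (by simpa [hw, app] using f0)
      sw.2.2.1 (c := y) (by simpa [hw, app] using hy) (by simpa [hw, app] using hy1)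
    simpa [hw, app] using this
  have hgQ : g ∉ Q (f 1) := by
    obtain ⟨nr, r0, resc, -⟩ := h.sym_rev rfl sw
    have := h.not_Q_of hb le_rfl hz (nr.1.take (show 3 ≤ 4 by omega)) r0
      resc (c := g) (by simpa [hw, app, flip] using hg) (by simpa [hw, app, flip] using hgn)
    simpa [hw, app, flip] using this
  have := h.three_comm hb he nw (by simpa [hw, app] using f0) (a := y) (e := g)
    (by simpa [hw, app] using hy) (by simpa [hw, app] using hyQ) (by simpa [hw, app] using hg)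
    (by simpa [hw, app] using hgQ)
  rw [show w 1 = f 1 by simp [hw, app], show w 3 = n by simp [hw, app],
    h.zz_third hz h2l a12.symm hn a23 hn1.symm (nf.2 1 (by omega)) hn3] at this
  rw [this]
  exact (h.zz_spec _).1

/-- The part of `O₂` reached by the chain of five vertices lies in `ker 2` of the middle one. -/
theorem chain_le_ker {f : ℕ → Vx} (nf : NB 4 f) (f0 : (f 0).isLeft = true) {r : X}
    (r1 : r ∈ Q (f 1)) (r0 : r ∈ Q (f 0)) (r2 : r ∈ Q (f 2)) (r3 : r ∈ Q (f 3)) (r4 : r ∈ Q (f 4)) :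
    r ∈ ker 2 (f 2) := by
  have h2l : (f 2).isLeft = true := nf.1.left f0 (by omega) rfl
  have a12 : (Γ).Adj (f 1) (f 2) := nf.1 1 (by omega)
  have a23 : (Γ).Adj (f 2) (f 3) := nf.1 2 (by omega)
  have hrev0 : (f (4 - 0)).isLeft = true := nf.1.left f0 le_rfl rfl
  have k1 := h.ker_one_of hb he nf f0 r1 r0 r2
  have k3 : r ∈ ker 1 (f 3) := by
    have := h.ker_one_of hb he nf.rev hrev0 (x := r) (by simpa [flip] using r3)
      (by simpa [flip] using r4) (by simpa [flip] using r2)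
    simpa [flip] using this
  obtain ⟨n, hn, hn1, hn3⟩ := h.exists_third a12.symm a23
  have hnr : n.isLeft = false := h.right_of_left h2l hn
  have hrn : r • n = n := h.fix_adj hn r2
  have hcomm : ∀ d, (Γ).Adj n d → ∀ g ∈ Zv d, Commute r g := by
    intro d hd g hg
    by_cases hd2 : d = f 2
    · subst hd2; exact (h.Zv_comm_Q hg r2).symm
    refine commutatorElement_eq_one_iff_commute.mp (h.disjoint h2l a12.symm a23 (nf.2 1 (by omega)) ?_
      (h.comm_side hb he nf f0 hn hn1 hn3 hd hd2 k1 k3 hg))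
    have := h.comm_side hb he nf.rev hrev0 (n := n) (d := d) (r := r) (g := g)
      (by simpa [flip] using hn) (by simpa [flip] using hn3) (by simpa [flip] using hn1) hd
      (by simpa [flip] using hd2) (by simpa [flip] using k3) (by simpa [flip] using k1) hg
    simpa [flip] using this
  have hfix : ∀ d, (Γ).Adj n d → r • d = d := fun d hd => by
    by_contra hmove
    obtain ⟨y, hy, hny⟩ := h.moves_not_comm hnr hd (mem_stabilizer_iff.mpr hrn) hmove
    exact hny (hcomm d hd y hy)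
  have kn : r ∈ ker 1 n := by
    obtain ⟨d, hd, hd2⟩ := h.exists_ne_adj hn.symm
    exact mem_ker_succ.mpr ⟨h.mem_Q_of_fix hn.symm hd hd2.symm hrn (hfix _ hn.symm) (hfix d hd),
      fun d' hd' => h.mem_Q_of_commute (h.left_of_right hnr hd')
        (mem_stabilizer_iff.mpr (hfix d' hd')) (hcomm d' hd')⟩
  refine mem_ker_succ.mpr ⟨r2, fun w hw => ?_⟩
  rcases h.three a12.symm a23 hn hw (nf.2 1 (by omega)) hn1.symm hn3.symm with rfl | rfl | rfl
  exacts [k1, k3, kn]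

theorem Zv_le_ker {u : Vx} (hu : u.isLeft = true) : Zv u ≤ ker 2 u := by
  intro x hx
  refine mem_ker_succ.mpr ⟨h.Zv_le_Q u hx, fun v hv => mem_ker_succ.mpr
    ⟨h.Zv_le_Q_adj hu hv hx, fun w hw => ?_⟩⟩
  set p : ℕ → Vx := fun i => if i = 0 then u else if i = 1 then v else w with hp
  have pp : Path 2 p := fun i hi => by
    rcases (show i = 0 ∨ i = 1 by omega) with rfl | rfl
    · simpa [hp] using hv
    · simpa [hp] using hw
  show x ∈ Q w
  simpa [hp] using h.Zv_le_end hb (by omega) pp (by simpa [hp] using hu) (by simpa [hp] using hx)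

/-- Up to the centre of another neighbour, `ker 2` of a left vertex is in `ker 3` of a neighbour. -/
theorem half {u v w : Vx} (hu : u.isLeft = true) (hv : (Γ).Adj u v) (hw : (Γ).Adj u w)
    (hne : v ≠ w) {r : X} (hr : r ∈ ker 2 u) : r ∈ ker 3 v ∨ r * zz w ∈ ker 3 v := by
  obtain ⟨x₀, hx₀, hx₀u⟩ := h.exists_ne_adj hv.symm
  obtain ⟨x₄, hx₄, hx₄u⟩ := h.exists_ne_adj hw.symm
  set f : ℕ → Vx := app 3 (app 2 (app 1 (fun i => if i = 0 then x₀ else v) u) w) x₄ with hf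
  have nf : NB 4 f := by
    refine (((NB.app (n := 1) ⟨fun i hi => ?_, fun i hi => absurd hi (by omega)⟩ ?_ ?_).app ?_ ?_).app ?_ ?_)
    · obtain rfl : i = 0 := by omega
      simpa using hx₀.symm
    · simpa using hv.symm
    · simpa using hx₀u.symm
    · simpa [app] using hw
    · simpa [app] using hne.symm
    · simpa [app] using hx₄
    · simpa [app] using hx₄u
  have e0 : f 0 = x₀ := by simp [hf, app]
  have e1 : f 1 = v := by simp [hf, app]
  have e2 : f 2 = u := by simp [hf, app]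
  have e3 : f 3 = w := by simp [hf, app]
  have e4 : f 4 = x₄ := by simp [hf, app]
  have hvr : v.isLeft = false := h.right_of_left hu hv
  have hx0l : x₀.isLeft = true := h.left_of_right hvr hx₀
  have f0 : (f 0).isLeft = true := by rw [e0]; exact hx0l
  have sf := h.sym_three hb he nf f0
  obtain ⟨N, hNG, hN, hNc, x, hxN, hx3, hx2⟩ := h.exists_quiet hb he nf f0
  rw [e1] at hNG hN hNc
  rw [e2] at hx2
  obtain ⟨d, hdN, hd⟩ : ∃ d ∈ N, d • u = x₀ := by
    by_cases hd : x • u = x₀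
    · exact ⟨x, hxN, hd⟩
    refine ⟨x * x, mul_mem hxN hxN, ?_⟩
    have hxu := h.smul_adj hv.symm (hNG hxN)
    have hxxu := h.smul_adj hv.symm (mul_mem (hNG hxN) (hNG hxN))
    have d2 : (x * x) • u ≠ u := fun e' => hx2 (by
      calc x • u = x • ((x * x) • u) := by rw [e']
        _ = u := by rw [← mul_smul, ← mul_assoc, hx3, one_smul])
    have d12 : x • u ≠ (x * x) • u := fun e' => by
      rw [mul_smul] at e'
      exact hx2 (smul_left_cancel _ e').symm
    rcases h.three hv.symm hxu hxxu hx₀ hx2.symm d2.symm d12 with e' | e' | e'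
    · exact absurd e' hx₀u
    · exact absurd e'.symm hd
    · exact e'.symm
  have hr1 : r ∈ ker 1 v := (mem_ker_succ.mp hr).2 v hv
  have hc := hNc d hdN r hr1
  rw [← e1] at hc
  obtain ⟨y, hy, y', hy', e⟩ := h.vm_decomp hb he nf f0 hc
  rw [e0] at hy
  rw [e2] at hy'
  obtain ⟨p, hp, q, hq, rfl⟩ := h.Zv_decomp hu hv hw hne hy'
  set r₀ := d * r * d⁻¹ with hr₀
  have hr₀k : r₀ ∈ ker 2 x₀ := hd ▸ conj_mem_ker hr
  have er : r = y * (p * q) * r₀ := by rw [← e, hr₀, commutatorElement_def]; simp [mul_assoc]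
  have hqu : q ∈ Zv u := h.Zv_le_adj hu hw hq
  have hcV : ⁅r, d⁆ ∈ Vm v := e1 ▸ hc
  have hqr₀ : Commute q r₀ := by
    have : r₀ = ⁅r, d⁆⁻¹ * r := by rw [hr₀, commutatorElement_def]; simp [mul_assoc]
    rw [this]
    exact ((h.Vm_comm hb le_rfl hvr (Zv_le_Vm hv.symm hqu) hcV).inv_right).mul_right
      (h.Zv_comm_Q hqu (ker_le 2 _ hr))
  have hs0 : r * q ∈ ker 2 x₀ := by
    have : r * q = y * p * r₀ := by
      rw [er, show y * (p * q) * r₀ * q = y * p * (q * r₀ * q) by simp [mul_assoc], hqr₀.eq,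
        mul_assoc r₀, h.Zv_sq hqu, mul_one]
    rw [this]
    exact mul_mem (mul_mem (h.Zv_le_ker hb he hx0l hy)
      (h.Zv_le_ker hb he hx0l (h.Zv_le_adj hx0l hx₀.symm hp))) hr₀k
  have hs : r * q ∈ ker 2 u := mul_mem hr (h.Zv_le_ker hb he hu hqu)
  obtain ⟨-, -, hesc, hesc2⟩ := sf
  obtain ⟨a, ha, haQ⟩ := SetLike.not_le_iff_exists.mp hesc
  obtain ⟨c, hcm, hcQ⟩ := SetLike.not_le_iff_exists.mp hesc2
  obtain ⟨-, -, -, -, hcS, hc0⟩ :=
    h.key hb le_rfl (h.one_three hb he) rfl (h.sym_three hb he nf f0) ha haQ hcm hcQ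
  rw [e0] at hc0
  rw [show 3 + 1 = 4 from rfl, e4] at hcm
  rw [e1, e2] at hcS
  have hsc : Commute (r * q) c := (h.Zv_comm_Q hcm
    ((mem_ker_succ.mp ((mem_ker_succ.mp hs).2 w hw)).2 x₄ hx₄)).symm
  have hs3 : r * q ∈ ker 3 v := by
    refine mem_ker_succ.mpr ⟨ker_le 1 v ((mem_ker_succ.mp hs).2 v hv), fun z hz => ?_⟩
    rcases h.three hx₀ hv.symm (h.smul_adj hx₀ hcS.1) hz hx₀u hc0.symm
      (fun e' => hx₀u (smul_left_cancel c ((mem_stabilizer_iff.mp hcS.2).trans e').symm)) with rfl | rfl | rfl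
    · exact hs0
    · exact hs
    · have := conj_mem_ker (g := c) hs0
      rwa [← hsc.eq, mul_inv_cancel_right] at this
  rcases h.mem_right (h.one_three hb he) (h.right_of_left hu hw) hq with rfl | rfl
  · exact Or.inl (by simpa using hs3)
  · exact Or.inr hs3

theorem zz_mem_ker {u w : Vx} (hu : u.isLeft = true) (hw : (Γ).Adj u w) : zz w ∈ ker 3 w := by
  have hwr : w.isLeft = false := h.right_of_left hu hw
  exact mem_ker_succ.mpr ⟨h.Zv_le_Q w (h.zz_spec w).1, fun d hd =>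
    h.Zv_le_ker hb he (h.left_of_right hwr hd)
      (h.Zv_le_adj (h.left_of_right hwr hd) hd.symm (h.zz_spec w).1)⟩

theorem zz_not_ker {u v w : Vx} (hu : u.isLeft = true) (hv : (Γ).Adj u v) (hw : (Γ).Adj u w)
    (hne : v ≠ w) : zz v ∉ ker 3 w := by
  intro hc
  obtain ⟨d, hd, hdu⟩ := h.exists_ne_adj hw.symm
  obtain ⟨t, ht, htw⟩ := h.exists_ne_adj hd.symm
  set p : ℕ → Vx := app 2 (app 1 (fun i => if i = 0 then u else w) d) t with hp
  have np : NB 3 p := by
    refine ((NB.app (n := 1) ⟨fun i hi => ?_, fun i hi => absurd hi (by omega)⟩ ?_ ?_).app ?_ ?_)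
    · obtain rfl : i = 0 := by omega
      simpa using hw
    · simpa using hd
    · simpa using hdu
    · simpa [app] using ht
    · simpa [app] using htw
  have p0 : (p 0).isLeft = true := by simpa [hp, app] using hu
  have := h.not_Q_of hb le_rfl (h.one_three hb he) np.1 p0
    (h.escape_of_trans hb he (h.trans_three 3 le_rfl true) np p0) (c := zz v)
    (by simpa [hp, app] using h.Zv_le_adj hu hv (h.zz_spec v).1)
    (fun e => (h.zz_spec v).2 (h.disjoint hu hv hw hne (h.zz_spec v).1 (by simpa [hp, app] using e)))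
  refine this ?_
  have := ker_le 1 _ ((mem_ker_succ.mp ((mem_ker_succ.mp hc).2 d hd)).2 t ht)
  simpa [hp, app] using this

theorem ker_two_le {u : Vx} (hu : u.isLeft = true) : ker 2 u ≤ Zv u := by
  have hz := h.one_three hb he
  obtain ⟨v₁, hv₁⟩ := h.exists_adj u
  obtain ⟨v₂, v₃, hv₂, hv₃, h21, h31, h23⟩ := h.others hv₁
  have ztop : ∀ {v}, (Γ).Adj u v → zz v ∈ Zv u := fun hv => h.Zv_le_adj hu hv (h.zz_spec _).1
  have zker : ∀ {v}, (Γ).Adj u v → zz v ∈ ker 2 u := fun hv => h.Zv_le_ker hb he hu (ztop hv)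
  -- two outside elements multiply inside
  have mul2 : ∀ {v w}, (Γ).Adj u v → (Γ).Adj u w → v ≠ w → ∀ r ∈ ker 2 u, r ∉ ker 3 v →
      ∀ r' ∈ ker 2 u, r' ∉ ker 3 v → r * r' ∈ ker 3 v := by
    intro v w hv hw hne r hr hr1 r' hr' hr1'
    have a := (h.half hb he hu hv hw hne hr).resolve_left hr1
    have c := (h.half hb he hu hv hw hne hr').resolve_left hr1'
    have := mul_mem a c
    rwa [(h.Zv_comm_Q (ztop hw) (ker_le 2 _ hr')).mul_mul_mul_comm, h.Zv_sq (ztop hw), mul_one] at this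
  have hk4 : ker 4 u = ⊥ := by
    by_contra hne
    obtain ⟨z, hzk, hzZ, hz1⟩ := h.exists_mem_Z hv₁ ((ker_le 4 u).trans (h.Q_le_S hv₁)) hne
      (inf_le_left.trans ker_normal)
    rw [h.Z_eq_Zv hu hv₁] at hzZ
    rw [h.eq_zz hz (h.right_of_left hu hv₁) hzZ hz1] at hzk
    exact h.zz_not_ker hb he hu hv₁ hv₂ h21.symm ((mem_ker_succ.mp hzk).2 v₂ hv₂)
  have all3 : ∀ s ∈ ker 2 u, s ∈ ker 3 v₁ → s ∈ ker 3 v₂ → s ∈ ker 3 v₃ → s = 1 := by
    intro s hs a c d
    have : s ∈ ker 4 u := mem_ker_succ.mpr ⟨ker_le 2 _ hs, fun w hw => by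
      rcases h.three hv₁ hv₂ hv₃ hw h21.symm h31.symm h23 with rfl | rfl | rfl <;> assumption⟩
    rwa [hk4, Subgroup.mem_bot] at this
  -- nothing lies outside all three
  have none : ∀ s ∈ ker 2 u, s ∉ ker 3 v₁ → s ∉ ker 3 v₂ → s ∈ ker 3 v₃ := by
    intro s hs a c
    by_contra d
    have out : ∀ v, (Γ).Adj u v → s ∉ ker 3 v := fun v hv => by
      rcases h.three hv₁ hv₂ hv₃ hv h21.symm h31.symm h23 with rfl | rfl | rfl <;> assumption
    have hs2 : s * s = 1 := all3 _ (mul_mem hs hs) (mul2 hv₁ hv₂ h21.symm s hs a s hs a)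
      (mul2 hv₂ hv₃ h23 s hs c s hs c) (mul2 hv₃ hv₁ h31 s hs d s hs d)
    have hcent : ∀ g ∈ G u, Commute g s := by
      intro g hg
      have hs' : g * s * g⁻¹ ∈ ker 2 u := (Subgroup.mem_normalizer_iff.mp (ker_normal hg) s).mp hs
      have out' : ∀ v, (Γ).Adj u v → g * s * g⁻¹ ∉ ker 3 v := fun v hv hm => by
        have := conj_mem_ker (g := g⁻¹) hm
        rw [inv_inv] at this
        exact out _ (h.smul_adj hv (inv_mem hg)) (by simpa [mul_assoc] using this)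
      have e := all3 _ (mul_mem hs hs') (mul2 hv₁ hv₂ h21.symm s hs a _ hs' (out' _ hv₁))
        (mul2 hv₂ hv₃ h23 s hs c _ hs' (out' _ hv₂)) (mul2 hv₃ hv₁ h31 s hs d _ hs' (out' _ hv₃))
      have e2 : g * s * g⁻¹ = s := by
        rw [eq_inv_of_mul_eq_one_right e, inv_eq_of_mul_eq_one_right hs2]
      exact mul_inv_eq_iff_eq_mul.mp e2
    have hsO : s ∈ omegaZ (Q u) := mem_omegaZ.mpr ⟨ker_le 2 _ hs, by rw [sq, hs2],
      fun q hq => (hcent q (h.Q_le_G u hq)).symm.eq⟩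
    have inZ : ∀ v, (Γ).Adj u v → s ∈ Zv v := fun v hv => by
      obtain ⟨g, hg, hgQ⟩ := h.exists_not_mem_Q hv
      rw [← h.Z_eq_Zv hu hv]
      exact h.omega_mem_Z hv hg hgQ hsO (hcent g hg.1)
    rw [h.disjoint hu hv₁ hv₂ h21.symm (inZ _ hv₁) (inZ _ hv₂)] at a
    exact a (one_mem _)
  intro r hr
  have k : ∀ {v}, (Γ).Adj u v → zz v ∈ ker 3 v := fun hv => h.zz_mem_ker hb he hu hv
  have nk : ∀ {v w}, (Γ).Adj u v → (Γ).Adj u w → v ≠ w → zz v ∉ ker 3 w := fun hv hw hne =>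
    h.zz_not_ker hb he hu hv hw hne
  -- adjust into the first two
  obtain ⟨m, hm, hmk, hm1, hm2⟩ : ∃ m ∈ Zv u, m ∈ ker 2 u ∧ r * m ∈ ker 3 v₁ ∧ r * m ∈ ker 3 v₂ := by
    obtain ⟨m, hm, hmk, hm1⟩ : ∃ m ∈ Zv u, m ∈ ker 2 u ∧ r * m ∈ ker 3 v₁ := by
      rcases h.half hb he hu hv₁ hv₂ h21.symm hr with h1 | h1
      · exact ⟨1, one_mem _, one_mem _, by rwa [mul_one]⟩
      · exact ⟨_, ztop hv₂, zker hv₂, h1⟩
    rcases h.half hb he hu hv₂ hv₁ h21 (mul_mem hr hmk) with h2 | h2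
    · exact ⟨m, hm, hmk, hm1, h2⟩
    · exact ⟨m * zz v₁, mul_mem hm (ztop hv₁), mul_mem hmk (zker hv₁),
        by rw [← mul_assoc]; exact mul_mem hm1 (k hv₁), by rwa [← mul_assoc]⟩
  have hrm : r * m ∈ ker 2 u := mul_mem hr hmk
  by_cases hm3 : r * m ∈ ker 3 v₃
  · rw [eq_inv_of_mul_eq_one_left (all3 _ hrm hm1 hm2 hm3)]
    exact inv_mem hm
  · exfalso
    refine hm3 ((Subgroup.mul_mem_cancel_right _ (k hv₃)).mp
      (none _ (mul_mem hrm (zker hv₃)) ?_ ?_))
    · exact fun e => nk hv₃ hv₁ h31 ((Subgroup.mul_mem_cancel_left _ hm1).mp e)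
    · exact fun e => nk hv₃ hv₂ h23.symm ((Subgroup.mul_mem_cancel_left _ hm2).mp e)

/-- With critical length three the edge stabiliser has order at most `2^7`. -/
theorem bound_three : ∀ u v : Vx, (Γ).Adj u v → Nat.card (S u v) ≤ 2 ^ 7 := by
  classical
  have hz := h.one_three hb he
  obtain ⟨f', pf', f0', hesc'⟩ := id he
  obtain ⟨d, nf, f0, -, -⟩ := h.exists_sym hb rfl pf' f0' hesc'
  generalize app 3 f' d = f at nf f0
  have hSQ : ∀ {p q : Vx}, (Γ).Adj p q → Q q ≤ S p q := fun hpq => by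
    rw [S_comm]; exact h.Q_le_S hpq.symm
  have a01 : (Γ).Adj (f 0) (f 1) := nf.1 0 (by omega)
  have a21 : (Γ).Adj (f 2) (f 1) := (nf.1 1 (by omega)).symm
  have a32 : (Γ).Adj (f 3) (f 2) := (nf.1 2 (by omega)).symm
  have a43 : (Γ).Adj (f 4) (f 3) := (nf.1 3 (by omega)).symm
  have s1 := h.card_le_inf a01 (K := Q (f 1)) (hSQ a01)
  have s2 := h.card_le_inf a21 (K := Q (f 1) ⊓ Q (f 0)) (inf_le_left.trans (hSQ a21))
  have s3 := h.card_le_inf a32 (K := Q (f 1) ⊓ Q (f 0) ⊓ Q (f 2)) (inf_le_right.trans (hSQ a32))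
  have s4 := h.card_le_inf a43 (K := Q (f 1) ⊓ Q (f 0) ⊓ Q (f 2) ⊓ Q (f 3))
    (inf_le_right.trans (hSQ a43))
  set R := Q (f 1) ⊓ Q (f 0) ⊓ Q (f 2) ⊓ Q (f 3) ⊓ Q (f 4) with hR
  have h2l : (f 2).isLeft = true := nf.1.left f0 (by omega) rfl
  have h1r : (f 1).isLeft = false := nf.1.right f0 (by omega) rfl
  have h3r : (f 3).isLeft = false := nf.1.right f0 (by omega) rfl
  let φ : Fin 4 → X := ![1, zz (f 1), zz (f 3), zz (f 1) * zz (f 3)]
  have hR4 : ∀ r : R, ∃ i, φ i = r := by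
    rintro ⟨r, ⟨⟨⟨r1, r0⟩, r2⟩, r3⟩, r4⟩
    obtain ⟨y, hy, y', hy', rfl⟩ := h.Zv_decomp h2l a21 a32.symm (nf.2 1 (by omega))
      (h.ker_two_le hb he h2l (h.chain_le_ker hb he nf f0 r1 r0 r2 r3 r4))
    rcases h.mem_right hz h1r hy with rfl | rfl <;> rcases h.mem_right hz h3r hy' with rfl | rfl
    · exact ⟨0, by simp [φ]⟩
    · exact ⟨2, by simp [φ]⟩
    · exact ⟨1, by simp [φ]⟩
    · exact ⟨3, by simp [φ]⟩
  choose ψ hψ using hR4
  have hcard : Nat.card R ≤ 4 := by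
    have := Nat.card_le_card_of_injective ψ fun p q e => Subtype.ext (by rw [← hψ p, ← hψ q, e])
    simpa using this
  intro u v huv
  have h1 := h.card_S a01.symm
  rw [S_comm] at h1
  have := h.card_S_eq huv a01
  omega

end Setting

end Cfsg.Lib.GoldBound
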