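import Cfsg.Agent.LocalEven.GoldBound.Long
import Cfsg.Agent.LocalEven.GoldBound.Three

/-! The bound `2^7` on the edge stabiliser of a pair of index three. -/

set_option autoImplicit false
set_option linter.style.haveILetI false
set_option linter.unusedSectionVars false

namespace Cfsg.Lib.GoldBound

open Cfsg MulAction Cfsg.Lib.Amalgam
open Cfsg.Lib.Goldschmidt (G S Q Z)

variable {X : Type*} [Group X]

theorem Setting.bound {M₁ M₂ : Subgroup X} (h : Setting M₁ M₂) :
    Nat.card ↥(M₁ ⊓ M₂) ≤ 2 ^ 7 := by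
  have base : Nat.card ↥(M₁ ⊓ M₂) =
      Nat.card (S (Sum.inl ((1 : X) : X ⧸ M₁) : CosetVertex M₁ M₂) (Sum.inr ((1 : X) : X ⧸ M₂))) := by
    rw [S, edge_mk]
    exact Nat.card_congr ((M₁ ⊓ M₂).equivMapOfInjective _ (MulAut.conj (1 : X)).injective).toEquiv
  obtain ⟨b, hb, he⟩ := h.exists_crit
  have hb2 := hb.1
  by_cases he2 : b % 2 = 0
  · obtain rfl := h.even_eq_two hb he he2
    exact base.trans_le (h.bound_two hb he _ _ (adj_inl_inr 1))
  · have ho : b % 2 = 1 := by omega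
    rcases (show b = 3 ∨ b = 5 ∨ 7 ≤ b by omega) with rfl | rfl | h7
    · exact base.trans_le (h.bound_three hb he _ _ (adj_inl_inr 1))
    · exact (h.no_five hb he).elim
    · exact (h.no_seven hb ho he h7).elim

theorem Pair.bound {M₁ M₂ : Subgroup X} (h : Pair M₁ M₂) : Nat.card ↥(M₁ ⊓ M₂) ≤ 2 ^ 7 := by
  rcases h.reduce with h' | h' | h'
  · exact h'.trans (by norm_num)
  · exact h'.bound
  · have := h'.bound
    rwa [inf_comm] at this

theorem edgeP_of_sylow {T M : Subgroup X} [Finite M] (hle : T ≤ M) (P : Sylow 2 M)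
    (hP : (P : Subgroup M) = T.subgroupOf M) (hcard : Nat.card (M ⧸ pCore 2 M) = 6) :
    EdgeP T M := by
  haveI : Fact (Nat.Prime 2) := ⟨Nat.prime_two⟩
  obtain ⟨a, ha⟩ := IsPGroup.iff_card.mp (Cfsg.Lib.Components.isPGroup_pCore (G := M) 2)
  have hM : Nat.card M = 2 ^ (a + 1) * 3 := by
    rw [Subgroup.card_eq_card_quotient_mul_card_subgroup (pCore 2 M), hcard, ha, pow_succ]
    ring
  have hT : Nat.card T = 2 ^ (a + 1) := by
    rw [← Nat.card_congr (Subgroup.subgroupOfEquivOfLe hle).toEquiv, ← hP, P.card_eq_multiplicity, hM,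
      Nat.factorization_mul (by positivity) (by norm_num)]
    simp [Nat.prime_three.factorization, Nat.Prime.factorization_pow Nat.prime_two]
  have hQT : pCoreOf 2 M ≤ T := by
    have h1 : pCore 2 M ≤ (P : Subgroup M) := Cfsg.Lib.Coprime.pCore_le_sylow 2 P
    rw [hP] at h1
    rw [pCoreOf, Subgroup.map_le_iff_le_comap]
    exact h1
  have hQcard : Nat.card (pCoreOf 2 M) = 2 ^ a := by
    rw [← ha]
    exact (Nat.card_congr
      ((pCore 2 M).equivMapOfInjective _ (Subgroup.subtype_injective M)).toEquiv).symm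
  refine ⟨hle, inferInstance, IsPGroup.of_card hT, ?_, hQT, ?_⟩
  · have h1 := Subgroup.card_mul_index (T.subgroupOf M)
    rw [Nat.card_congr (Subgroup.subgroupOfEquivOfLe hle).toEquiv, hT, hM] at h1
    exact Nat.eq_of_mul_eq_mul_left (by positivity) h1
  · have h1 := Subgroup.card_mul_index ((pCoreOf 2 M).subgroupOf T)
    rw [Nat.card_congr (Subgroup.subgroupOfEquivOfLe hQT).toEquiv, hT, hQcard, pow_succ] at h1
    exact Nat.eq_of_mul_eq_mul_left (by positivity) h1

theorem EdgeP.restrict {T M K : Subgroup X} (h : EdgeP T M) (hK : M ≤ K) :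
    EdgeP (T.subgroupOf K) (M.subgroupOf K) := by
  haveI := h.fin
  have eM : (M.subgroupOf K).map K.subtype = M := Subgroup.map_subgroupOf_eq_of_le hK
  have eT : (T.subgroupOf K).map K.subtype = T := Subgroup.map_subgroupOf_eq_of_le (h.le.trans hK)
  have eQ : (pCoreOf 2 (M.subgroupOf K)).map K.subtype = pCoreOf 2 M := by
    have := pCore_equiv 2 (Subgroup.subgroupOfEquivOfLe hK)
    rw [pCoreOf, pCoreOf, ← this, Subgroup.map_map, Subgroup.map_map]
    rfl
  have inj := Subgroup.subtype_injective K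
  refine ⟨fun x hx => h.le hx, Finite.of_equiv _ (Subgroup.subgroupOfEquivOfLe hK).symm.toEquiv,
    h.pgroup.of_equiv (Subgroup.subgroupOfEquivOfLe (h.le.trans hK)).symm, ?_, ?_, ?_⟩
  · rw [← Subgroup.relIndex_map_map_of_injective _ _ inj, eT, eM]; exact h.idx
  · rw [← Subgroup.map_le_map_iff_of_injective inj, eQ, eT]; exact h.core_le
  · rw [← Subgroup.relIndex_map_map_of_injective _ _ inj, eQ, eT]; exact h.two

/-- The bound for two finite subgroups with a common Sylow two-subgroup. -/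
theorem bound_of_sylow (M₁ M₂ : Subgroup X) [Finite M₁] [Finite M₂]
    (ha₁ : ∃ P : Sylow 2 M₁, (P : Subgroup M₁) = (M₁ ⊓ M₂).subgroupOf M₁)
    (ha₂ : ∃ P : Sylow 2 M₂, (P : Subgroup M₂) = (M₁ ⊓ M₂).subgroupOf M₂)
    (hb₁ : Nat.card (M₁ ⧸ pCore 2 M₁) = 6) (hb₂ : Nat.card (M₂ ⧸ pCore 2 M₂) = 6)
    (hc : ∀ N : Subgroup X, N ≤ M₁ ⊓ M₂ → (N.subgroupOf M₁).Normal → (N.subgroupOf M₂).Normal →
      N = ⊥) : Nat.card ↥(M₁ ⊓ M₂) ≤ 2 ^ 7 := by
  obtain ⟨P₁, hP₁⟩ := ha₁
  obtain ⟨P₂, hP₂⟩ := ha₂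
  set K := M₁ ⊔ M₂ with hK
  have e := Subgroup.subgroupOf_map_subtype (M₁ ⊓ M₂) K
  have einf : M₁.subgroupOf K ⊓ M₂.subgroupOf K = (M₁ ⊓ M₂).subgroupOf K := rfl
  have hp : Pair (M₁.subgroupOf K) (M₂.subgroupOf K) := by
    refine ⟨?_, einf ▸ (edgeP_of_sylow inf_le_left P₁ hP₁ hb₁).restrict le_sup_left,
      einf ▸ (edgeP_of_sylow inf_le_right P₂ hP₂ hb₂).restrict le_sup_right, fun N hN hn => ?_⟩
    · apply Subgroup.map_injective (Subgroup.subtype_injective K)
      rw [Subgroup.map_sup, Subgroup.map_subgroupOf_eq_of_le le_sup_left,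
        Subgroup.map_subgroupOf_eq_of_le le_sup_right, ← MonoidHom.range_eq_map, Subgroup.range_subtype]
    · have hle : N.map K.subtype ≤ M₁ ⊓ M₂ := by
        rw [Subgroup.map_le_iff_le_comap]; exact fun x hx => hN hx
      have hnorm : ∀ M : Subgroup X, M ≤ K → N.map K.subtype ≤ M →
          ((N.map K.subtype).subgroupOf M).Normal := fun M hM hNM =>
        Subgroup.normal_subgroupOf_of_le_normalizer (le_normalizer_of_conj fun g hg y hy => by
          obtain ⟨z, hz, rfl⟩ := hy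
          exact ⟨⟨g, hM hg⟩ * z * ⟨g, hM hg⟩⁻¹, hn.conj_mem z hz _, rfl⟩)
      have := hc _ hle (hnorm M₁ le_sup_left (hle.trans inf_le_left))
        (hnorm M₂ le_sup_right (hle.trans inf_le_right))
      rwa [Subgroup.map_eq_bot_iff_of_injective _ (Subgroup.subtype_injective K)] at this
  have := hp.bound
  rwa [einf, Nat.card_congr (Subgroup.subgroupOfEquivOfLe
    ((inf_le_left : M₁ ⊓ M₂ ≤ M₁).trans le_sup_left)).toEquiv] at this

end Cfsg.Lib.GoldBound
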