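import Cfsg.Agent.LocalEven.GoldBound.Even

/-! Odd critical length: symmetric critical walks and the element fixed by the rotations. -/

set_option autoImplicit false
set_option linter.style.haveILetI false
set_option linter.unusedSectionVars false

open scoped commutatorElement

namespace Cfsg.Lib.GoldBound

open Cfsg MulAction Cfsg.Lib.Amalgam
open Cfsg.Lib.Goldschmidt (G S Q Z cs mem_cs conj_mem_cs omegaZ mem_omegaZ omegaZ_cs G_smul S_smul
  Q_smul Z_smul conj_mem_G conj_mem_Q conj_mem_S conj_mem_Z S_comm Z_comm)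

variable {X : Type*} [Group X] {M₁ M₂ : Subgroup X}

local notation "Γ" => cosetGraph M₁ M₂
local notation "Vx" => CosetVertex M₁ M₂

/-- A walk one longer than the critical length, escaping from both ends. -/
def Sym (b : ℕ) (f : ℕ → CosetVertex M₁ M₂) : Prop :=
  NB (b + 1) f ∧ (f 0).isLeft = true ∧ ¬ Zv (f 0) ≤ Q (f b) ∧ ¬ Zv (f (b + 1)) ≤ Q (f 1)

/-- A product of one outside element from each of the three modules at a right hand vertex. -/
def Fc (v : CosetVertex M₁ M₂) (y : X) : Prop :=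
  ∀ d₁ d₂ d₃, (cosetGraph M₁ M₂).Adj v d₁ → (cosetGraph M₁ M₂).Adj v d₂ →
    (cosetGraph M₁ M₂).Adj v d₃ → d₁ ≠ d₂ → d₁ ≠ d₃ → d₂ ≠ d₃ →
    ∃ x₁ x₂ x₃ : X, y = x₁ * x₂ * x₃ ∧ (x₁ ∈ Zv d₁ ∧ x₁ ∉ Zv v) ∧
      (x₂ ∈ Zv d₂ ∧ x₂ ∉ Zv v) ∧ (x₃ ∈ Zv d₃ ∧ x₃ ∉ Zv v)

namespace Setting

variable (h : Setting M₁ M₂)
include h

theorem Vm_le_Q {v : Vx} (hv : v.isLeft = false) : Vm v ≤ Q v :=
  Vm_le fun _ hu => h.Zv_le_Q_adj (h.left_of_right hv hu) hu.symm

/-- Moving a neighbour of a right hand vertex means not centralising its module. -/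
theorem moves_not_comm {v u : Vx} (hv : v.isLeft = false) (hu : (Γ).Adj v u) {g : X}
    (hg : g ∈ G v) (hmove : g • u ≠ u) : ∃ y ∈ Zv u, ¬ Commute g y := by
  by_contra! hall
  have hul := h.left_of_right hv hu
  have hsub : ∀ y ∈ Zv u, y ∈ Zv v := fun y hy => by
    refine h.Zv_inter hv hu (h.smul_adj hu hg) hmove.symm hy ?_
    have := conj_mem_Zv (g := g) hy
    rwa [(hall y hy).eq, mul_inv_cancel_right] at this
  obtain ⟨p, hp, hne⟩ := h.exists_ne_adj hu.symm
  exact (h.zz_spec p).2 (h.disjoint hul hp hu.symm hne (h.zz_spec p).1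
    (hsub _ (h.Zv_le_adj hul hp (h.zz_spec p).1)))

variable {b : ℕ} (hb : Crit M₁ M₂ b)
include hb

theorem Vm_fix {v : Vx} (hv : v.isLeft = false) {n : ℕ} {g : ℕ → Vx} (pg : Path n g) (g0 : g 0 = v)
    (hn : n + 1 ≤ b) {x : X} (hx : x ∈ Vm v) : x • g n = g n := by
  have hle : Vm v ≤ G (g n) := Vm_le fun u hu y hy => by
    have p' : Path (n + 1) (pre u g) := pg.pre (g0 ▸ hu.symm)
    exact h.fix_end hb hn p' (h.left_of_right hv hu) hy
  exact hle hx

theorem Vm_le_end {v : Vx} (hv : v.isLeft = false) {n : ℕ} {g : ℕ → Vx} (pg : Path n g)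
    (g0 : g 0 = v) (hn : n + 1 < b) : Vm v ≤ Q (g n) := Vm_le fun u hu => by
  have p' : Path (n + 1) (pre u g) := pg.pre (g0 ▸ hu.symm)
  have := h.Zv_le_end hb hn p' (by rw [pre_zero]; exact h.left_of_right hv hu)
  rwa [pre_zero, pre_succ] at this

theorem Vm_comm (hb3 : 3 ≤ b) {v : Vx} (hv : v.isLeft = false) {x y : X} (hx : x ∈ Vm v)
    (hy : y ∈ Vm v) : Commute x y := by
  refine commute_Vm (fun u hu y' hy' => (commute_Vm (fun u' hu' x' hx' => ?_) hx).symm) hy
  set g : ℕ → Vx := fun i => if i = 0 then u else if i = 1 then v else u' with hg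
  have pg : Path 2 g := fun i hi => by
    rcases (show i = 0 ∨ i = 1 by omega) with rfl | rfl
    · simpa [hg] using hu.symm
    · simpa [hg] using hu'
  exact h.comm_ends hb (by omega) pg (by simpa [hg] using h.left_of_right hv hu)
    (by simpa [hg] using hy') (by simpa [hg] using hx')

theorem Vm_sq (hb3 : 3 ≤ b) {v : Vx} (hv : v.isLeft = false) {x : X} (hx : x ∈ Vm v) :
    x * x = 1 := by
  let P : Subgroup X :=
    { carrier := {x | x ∈ Vm v ∧ x * x = 1}
      one_mem' := ⟨one_mem _, one_mul 1⟩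
      mul_mem' := fun {p q} hp hq => ⟨mul_mem hp.1 hq.1, by
        rw [(h.Vm_comm hb hb3 hv hq.1 hp.1).mul_mul_mul_comm, hp.2, hq.2, one_mul]⟩
      inv_mem' := fun {p} hp => ⟨inv_mem hp.1, by rw [← mul_inv_rev, hp.2, inv_one]⟩ }
  have hle : Vm v ≤ P := Vm_le fun u hu y hy => ⟨Zv_le_Vm hu hy, h.Zv_sq hy⟩
  exact (hle hx).2

theorem centre_le_end {f : ℕ → Vx} (pf : Path b f) (h0 : (f 0).isLeft = true) :
    Zv (f 1) ≤ Q (f b) := by
  have hb2 := hb.1
  refine (h.Zv_le_adj (pf.left h0 (i := 2) (by omega) rfl) (pf 1 (by omega)).symm).trans ?_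
  have := h.Zv_le_end hb (n := b - 2) (f := fun j => f (2 + j)) (by omega) (pf.sub (by omega))
    (pf.left h0 (by omega) rfl)
  simpa [show 2 + (b - 2) = b by omega] using this

/-- A source moving past the end of a critical walk gives sources at right hand ends. -/
theorem src_right (ho : b % 2 = 1) (he : Escape M₁ M₂ b) : ∀ k, k ≤ b → Src M₁ M₂ false k := by
  intro k hk
  obtain ⟨f, pf, h0, hesc⟩ := he
  obtain ⟨a, ha, haQ⟩ := SetLike.not_le_iff_exists.mp hesc
  obtain ⟨x, hx, hax⟩ := h.exists_moved (u := f b) (h.fix_walk hb pf h0 ha b le_rfl) haQ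
  have := h.src_of (h.escape_nb hb pf h0 hesc) (h.fix_walk hb pf h0 ha) hx hax hk
  rwa [pf.right h0 le_rfl ho] at this

theorem trans_four (ho : b % 2 = 1) (he : Escape M₁ M₂ b) (hb3 : 3 ≤ b) :
    ∀ k, k ≤ 4 → ∀ τ, Trans M₁ M₂ τ k :=
  h.trans_upto (K := 3) fun j hj hj3 τ => by
    rcases (show j = 1 ∨ j = 2 ∨ j = 3 by omega) with rfl | rfl | rfl
    · exact h.src_one τ
    · exact h.src_two τ
    · cases τ
      · exact h.src_right hb ho he 3 hb3
      · exact h.src_three

theorem trans_five (ho : b % 2 = 1) (he : Escape M₁ M₂ b) (hb5 : 5 ≤ b) :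
    Trans M₁ M₂ true 5 :=
  h.trans_flip (τ := false) rfl (h.trans_step (k := 4) (σ := false) (by omega)
    (h.trans_four hb ho he (by omega) 4 le_rfl false) rfl (h.src_right hb ho he 4 (by omega)))

theorem trans_full (ho : b % 2 = 1) (he : Escape M₁ M₂ b) (hS : ∀ k, k ≤ b → Src M₁ M₂ true k) :
    ∀ k, k ≤ b + 1 → ∀ τ, Trans M₁ M₂ τ k :=
  h.trans_upto (K := b) fun j _ hj τ => by
    cases τ
    · exact h.src_right hb ho he j hj
    · exact hS j hj

/-- The module product at the end meeting `O₂` near the start centralises the first module. -/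
theorem commute_inner (ho : b % 2 = 1) (hb5 : 5 ≤ b) {f : ℕ → Vx} (pf : Path b f)
    (h0 : (f 0).isLeft = true) (hesc : ¬ Zv (f 0) ≤ Q (f b)) {u : X} (hu : u ∈ Vm (f b))
    (hu1 : u ∈ Q (f 1)) : ∀ c ∈ Zv (f 0), Commute u c := by
  by_contra! hne
  obtain ⟨c₀, hc₀, hne⟩ := hne
  have nf := h.escape_nb hb pf h0 hesc
  have hbr : (f b).isLeft = false := pf.right h0 le_rfl ho
  have h1r : (f 1).isLeft = false := pf.right h0 (by omega) rfl
  have a01 : (Γ).Adj (f 0) (f 1) := pf 0 (by omega)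
  have hadjb : (Γ).Adj (f b) (f (b - 1)) := by
    have := (pf (b - 1) (by omega)).symm
    rwa [show b - 1 + 1 = b by omega] at this
  have ufix : ∀ i, i ≤ b → u • flip b f i = flip b f i := by
    intro i hi
    by_cases hib : i = b
    · subst hib
      show u • f (i - i) = f (i - i)
      rw [Nat.sub_self]
      exact h.fix_adj a01.symm hu1
    · exact h.Vm_fix hb hbr (pf.rev.take hi) (by show f (b - 0) = f b; rw [Nat.sub_zero])
        (by omega) hu
  have huS : u ∈ S (f 0) (f 1) := by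
    have e1 := ufix b le_rfl
    have e2 := ufix (b - 1) (by omega)
    simp only [flip, Nat.sub_self] at e1
    simp only [flip, show b - (b - 1) = 1 by omega] at e2
    exact ⟨e1, e2⟩
  have huQ : u ∉ Q (f 0) := fun hQ => hne (h.Zv_comm_Q hc₀ hQ).symm
  have T := h.trans_full hb ho ⟨f, pf, h0, hesc⟩ fun k hk => by
    obtain ⟨x, hx, hux⟩ := h.exists_moved huS.1 huQ
    have e0 : flip b f b = f 0 := by show f (b - b) = f 0; rw [Nat.sub_self]
    have := h.src_of nf.rev ufix (e0 ▸ hx) hux hk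
    rwa [e0, h0] at this
  -- move the first centre, fixing the end
  have h2l : (f 2).isLeft = true := pf.left h0 (by omega) rfl
  obtain ⟨n, hn, hn1, hn3⟩ := h.exists_third (pf 1 (by omega)).symm (pf 2 (by omega))
  set F : ℕ → Vx := flip (b - 1) (fun j => f (1 + j)) with hF
  have nF : NB (b - 1) F := (nf.sub (i := 1) (k := b - 1) (by omega)).rev
  have Fat : ∀ j, j ≤ b - 1 → F j = f (b - j) := fun j hj => by
    show f (1 + (b - 1 - j)) = f (b - j)
    rw [show 1 + (b - 1 - j) = b - j by omega]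
  have nF' : NB (b - 2 + 1) (app (b - 2) F n) := (nF.take (by omega)).app
    (by rw [Fat _ (by omega), show b - (b - 2) = 2 by omega]; exact hn)
    (fun _ => by rw [Fat _ (by omega), show b - (b - 2 - 1) = 3 by omega]; exact hn3)
  rw [show b - 2 + 1 = b - 1 by omega] at nF'
  have hF0 : (F 0).isLeft = false := by rw [Fat 0 (by omega), Nat.sub_zero]; exact hbr
  obtain ⟨q, hq⟩ := T (b - 1) (by omega) false F _ nF nF' hF0
    (by rw [app_le (Nat.zero_le _)]; exact hF0)
  have qb : q ∈ G (f b) := by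
    have := hq 0 (by omega)
    rwa [app_le (Nat.zero_le _), Fat 0 (by omega), Nat.sub_zero] at this
  have q1 : q • f 1 = n := by
    have e1 := hq (b - 1) le_rfl
    rw [Fat _ le_rfl, show b - (b - 1) = 1 by omega, show b - 1 = b - 2 + 1 by omega,
      app_last] at e1
    exact e1
  have hmeet : ∀ y ∈ Zv (f 1), y ∈ Zv (f b) → y = 1 := fun y hy hy' => by
    refine h.disjoint h2l (pf 1 (by omega)).symm hn hn1.symm hy ?_
    have := conj_mem_Zv (g := q) hy
    rwa [q1, (h.cent_Zv hbr qb hy').eq, mul_inv_cancel_right] at this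
  -- the inner part of the first module is its centre
  have inner : ∀ z ∈ Zv (f 0), z ∈ Q (f b) → z ∈ Zv (f 1) := by
    intro z hz hzb
    let P : Subgroup X :=
      { carrier := {v | v ∈ Vm (f b) ∧ ⁅z, v⁆ ∈ Zv (f b)}
        one_mem' := ⟨one_mem _, by simp⟩
        mul_mem' := by
          rintro v w ⟨hv, hv'⟩ ⟨hw, hw'⟩
          refine ⟨mul_mem hv hw, ?_⟩
          rw [show ⁅z, v * w⁆ = ⁅z, v⁆ * (v * ⁅z, w⁆ * v⁻¹) by
            simp [commutatorElement_def, mul_assoc],
            (h.cent_Zv hbr (h.Q_le_G _ (h.Vm_le_Q hbr hv)) hw').eq, mul_inv_cancel_right]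
          exact mul_mem hv' hw'
        inv_mem' := by
          rintro v ⟨hv, hv'⟩
          refine ⟨inv_mem hv, ?_⟩
          rw [show ⁅z, v⁻¹⁆ = v⁻¹ * ⁅z, v⁆⁻¹ * v by simp [commutatorElement_def, mul_assoc],
            (h.cent_Zv hbr (inv_mem (h.Q_le_G _ (h.Vm_le_Q hbr hv))) (inv_mem hv')).eq,
            inv_mul_cancel_right]
          exact inv_mem hv' }
    have hle : Vm (f b) ≤ P := Vm_le fun d hd v hv => ⟨Zv_le_Vm hd hv, by
      rw [← h.Z_eq_Zv (h.left_of_right hbr hd) hd.symm]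
      exact h.comm_mem_Z hd.symm (by rw [S_comm]; exact h.Q_le_S hd hzb) hv⟩
    have e1 : ⁅z, u⁆ ∈ Zv (f 1) := by
      rw [← commutatorElement_inv u z, ← h.Z_eq_Zv h0 a01]
      exact inv_mem (h.comm_mem_Z a01 huS hz)
    have e2 := hmeet _ e1 (hle hu).2
    rw [← h.Z_eq_Zv h0 a01]
    exact h.omega_mem_Z a01 huS huQ (h.Zv_le_omega _ hz) (commutatorElement_eq_one_iff_commute.mp e2).symm
  have hz : OneZ M₁ M₂ := h.oneZ_of h0 a01 fun a ha ha1 a' ha' ha1' =>
    inner _ (mul_mem ha ha') (h.mul_mem_Q_of_not hadjb (h.end_mem_S hb pf h0 ha)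
      (h.end_mem_S hb pf h0 ha') (fun e => ha1 (inner a ha e)) (fun e => ha1' (inner a' ha' e)))
  obtain ⟨a, ha, haQ⟩ := SetLike.not_le_iff_exists.mp hesc
  have ha1 : a ∉ Zv (f 1) := fun e => haQ (h.centre_le_end hb pf h0 e)
  have e1 := h.comm_eq_zz hz h0 a01 huS huQ ha ha1
  have hzV : zz (f 1) ∈ Vm (f b) := by
    rw [← e1, show ⁅u, a⁆ = u * (a * u⁻¹ * a⁻¹) by simp [commutatorElement_def, mul_assoc]]
    exact mul_mem hu (Vm_conj (h.end_mem_S hb pf h0 ha).1 (inv_mem hu))
  have hnV : zz n ∈ Vm (f b) := by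
    rw [← q1, ← h.zz_smul hz h1r q]
    exact Vm_conj qb hzV
  have h2V : Zv (f 2) ≤ Vm (f b) := fun x hx => by
    obtain ⟨y, hy, y', hy', rfl⟩ := h.Zv_decomp h2l (pf 1 (by omega)).symm hn hn1.symm hx
    refine mul_mem ?_ ?_
    · rcases h.mem_right hz h1r hy with rfl | rfl <;> first | exact one_mem _ | exact hzV
    · rcases h.mem_right hz (h.right_of_left h2l hn) hy' with rfl | rfl <;>
        first | exact one_mem _ | exact hnV
  -- a conjugate critical walk from the third vertex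
  obtain ⟨p, hp, hpne⟩ := h.exists_ne_adj hadjb
  obtain ⟨r, hr, hrne⟩ := h.exists_ne_adj hp.symm
  set H : ℕ → Vx := fun j => app (b + 1) (app b f p) r (2 + j) with hH
  have nA : NB (b + 1 + 1) (app (b + 1) (app b f p) r) :=
    (nf.app hp (fun _ => hpne)).app (by rw [app_last]; exact hr)
      (fun _ => by rw [show b + 1 - 1 = b by omega, app_le le_rfl]; exact hrne)
  have nH : NB b H := nA.sub (i := 2) (k := b) (by omega)
  have H0 : H 0 = f 2 := by
    show app (b + 1) (app b f p) r 2 = f 2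
    rw [app_le (by omega), app_le (by omega)]
  have hesc' := h.escape_of_trans hb ⟨f, pf, h0, hesc⟩ (T b (by omega) true) nH (by rw [H0]; exact h2l)
  refine hesc' ?_
  rw [H0]
  refine h2V.trans (h.Vm_le_end hb hbr (n := 2) (g := fun i => if i = 0 then f b else if i = 1 then p else H b)
    (fun i hi => ?_) rfl (by omega))
  have Hb : H b = r := by
    show app (b + 1) (app b f p) r (2 + b) = r
    rw [show 2 + b = b + 1 + 1 by omega, app_last]
  rcases (show i = 0 ∨ i = 1 by omega) with rfl | rfl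
  · simpa using hp
  · simpa [Hb] using hr

/-- An escaping walk of odd length extends to a symmetric one. -/
theorem exists_sym (ho : b % 2 = 1) {f : ℕ → Vx} (pf : Path b f) (h0 : (f 0).isLeft = true)
    (hesc : ¬ Zv (f 0) ≤ Q (f b)) : ∃ d, Sym b (app b f d) := by
  have hb2 := hb.1
  have nf := h.escape_nb hb pf h0 hesc
  have hbr : (f b).isLeft = false := pf.right h0 le_rfl ho
  have hadjb : (Γ).Adj (f b) (f (b - 1)) := by
    have := (pf (b - 1) (by omega)).symm
    rwa [show b - 1 + 1 = b by omega] at this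
  suffices hd : ∃ d, (Γ).Adj (f b) d ∧ d ≠ f (b - 1) ∧ ¬ Zv d ≤ Q (f 1) by
    obtain ⟨d, hd, hne, hdQ⟩ := hd
    refine ⟨d, nf.app hd (fun _ => hne), by rw [app_le (Nat.zero_le _)]; exact h0, ?_, ?_⟩
    · rwa [app_le (Nat.zero_le _), app_le le_rfl]
    · rwa [app_last, app_le (show 1 ≤ b by omega)]
  by_cases hb3 : b = 3
  · obtain ⟨d, hd, hne⟩ := h.exists_ne_adj hadjb
    have n4 := (nf.app hd (fun _ => hne)).rev
    have d0 : (flip (b + 1) (app b f d) 0).isLeft = true := by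
      show (app b f d (b + 1 - 0)).isLeft = true
      rw [Nat.sub_zero, app_last]; exact h.left_of_right hbr hd
    have := h.escape_of_trans hb ⟨f, pf, h0, hesc⟩ (h.trans_three b (by omega) true)
      (n4.take (Nat.le_succ b)) d0
    refine ⟨d, hd, hne, ?_⟩
    simpa [flip, app_last, app_le (show 1 ≤ b by omega), show b + 1 - b = 1 by omega] using this
  have hb5 : 5 ≤ b := by omega
  by_contra! hall
  obtain ⟨a, ha, haQ⟩ := SetLike.not_le_iff_exists.mp hesc
  have haS := h.end_mem_S hb pf h0 ha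
  obtain ⟨d, hd, hne⟩ := h.exists_ne_adj hadjb
  obtain ⟨y, hy, hay⟩ := h.moves_not_comm hbr hd haS.1 (h.smul_ne hadjb hd hne haS haQ)
  exact hay (h.commute_inner hb ho hb5 pf h0 hesc (Zv_le_Vm hd hy) (hall d hd hne hy) a ha).symm

omit hb

theorem sym_rev (ho : b % 2 = 1) {f : ℕ → Vx} (sf : Sym b f) : Sym b (flip (b + 1) f) := by
  obtain ⟨nf, h0, e1, e2⟩ := sf
  refine ⟨nf.rev, ?_, ?_, ?_⟩
  · show (f (b + 1 - 0)).isLeft = true
    rw [Nat.sub_zero]; exact nf.1.left h0 le_rfl (by omega)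
  · simpa [flip, show b + 1 - b = 1 by omega] using e2
  · simpa [flip, show b + 1 - 1 = b by omega] using e1

include hb

/-- In odd length the centres have order two. -/
theorem odd_oneZ (ho : b % 2 = 1) (he : Escape M₁ M₂ b) : OneZ M₁ M₂ := by
  have hb2 := hb.1
  obtain ⟨f', pf', h0', hesc'⟩ := he
  obtain ⟨d, sf⟩ := h.exists_sym hb ho pf' h0' hesc'
  have sr := h.sym_rev ho sf
  generalize app b f' d = f at sf sr
  obtain ⟨nf, h0, hesc, hesc2⟩ := sf
  obtain ⟨nr, hr0, hresc, -⟩ := sr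
  have pf := nf.1.take (Nat.le_succ b)
  have hbr : (f b).isLeft = false := pf.right h0 le_rfl ho
  have h1r : (f 1).isLeft = false := pf.right h0 (by omega) rfl
  have a01 : (Γ).Adj (f 0) (f 1) := pf 0 (by omega)
  have a12 : (Γ).Adj (f 1) (f 2) := pf 1 (by omega)
  have hadjb : (Γ).Adj (f b) (f (b - 1)) := by
    have := (pf (b - 1) (by omega)).symm
    rwa [show b - 1 + 1 = b by omega] at this
  obtain ⟨e, he, heQ⟩ := SetLike.not_le_iff_exists.mp hresc
  have he' : e ∈ Zv (f (b + 1)) := by simpa [flip] using he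
  have heS : e ∈ S (f 1) (f 2) := by
    have := h.end_mem_S hb (nr.1.take (Nat.le_succ b)) hr0 he
    simpa [flip, show b + 1 - b = 1 by omega, show b + 1 - (b - 1) = 2 by omega] using this
  have heQ' : e ∉ Q (f 1) := by simpa [flip, show b + 1 - b = 1 by omega] using heQ
  have he0 : e • f 0 ≠ f 0 := h.smul_ne a12 a01.symm (nf.2 0 (by omega)) heS heQ'
  -- a commuting element of the inner part lies in the centre
  have fromE : ∀ z ∈ Zv (f 0), Commute z e → z ∈ Zv (f 1) := fun z hz hc => by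
    refine h.Zv_inter h1r a01.symm (h.smul_adj a01.symm heS.1) he0.symm hz ?_
    have := conj_mem_Zv (g := e) hz
    rwa [← hc.eq, mul_inv_cancel_right] at this
  have fin : (∀ z ∈ Zv (f 0), z ∈ Q (f b) → z ∈ Zv (f 1)) → OneZ M₁ M₂ := fun inner =>
    h.oneZ_of h0 a01 fun a ha ha1 a' ha' ha1' =>
      inner _ (mul_mem ha ha') (h.mul_mem_Q_of_not hadjb (h.end_mem_S hb pf h0 ha)
        (h.end_mem_S hb pf h0 ha') (fun e => ha1 (inner a ha e)) (fun e => ha1' (inner a' ha' e)))
  by_cases hb3 : b = 3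
  · subst hb3
    have key : ∀ g : ℕ → Vx, Sym 3 g → (∃ u ∈ Vm (g 3), u ∈ Q (g 1) ∧ ∃ c ∈ Zv (g 0), ¬ Commute u c) →
        OneZ M₁ M₂ := by
      rintro g ⟨ng, g0, gesc, -⟩ ⟨u, hu, hu1, c, hc, huc⟩
      have pg := ng.1.take (Nat.le_succ 3)
      have g1r : (g 1).isLeft = false := pg.right g0 (by omega) rfl
      have g2l : (g 2).isLeft = true := pg.left g0 (by omega) rfl
      have g3r : (g 3).isLeft = false := pg.right g0 le_rfl rfl
      have b01 : (Γ).Adj (g 0) (g 1) := pg 0 (by omega)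
      have b23 : (Γ).Adj (g 3) (g 2) := (pg 2 (by omega)).symm
      have huS : u ∈ S (g 0) (g 1) := by rw [S_comm]; exact h.Q_le_S b01.symm hu1
      have huQ : u ∉ Q (g 0) := fun hQ => huc (h.Zv_comm_Q hc hQ).symm
      have inner : ∀ z ∈ Zv (g 0), z ∈ Q (g 3) → z ∈ Zv (g 1) := by
        intro z hz hzb
        have hle : ∀ d, (Γ).Adj (g 3) d → ∀ v ∈ Zv d, ⁅z, v⁆ ∈ Zv (g 3) := fun d hd v hv => by
          rw [← h.Z_eq_Zv (h.left_of_right g3r hd) hd.symm]
          exact h.comm_mem_Z hd.symm (by rw [S_comm]; exact h.Q_le_S hd hzb) hv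
        let P : Subgroup X :=
          { carrier := {v | v ∈ Q (g 3) ∧ ⁅z, v⁆ ∈ Zv (g 3)}
            one_mem' := ⟨one_mem _, by simp⟩
            mul_mem' := by
              rintro v w ⟨hv, hv'⟩ ⟨hw, hw'⟩
              refine ⟨mul_mem hv hw, ?_⟩
              rw [show ⁅z, v * w⁆ = ⁅z, v⁆ * (v * ⁅z, w⁆ * v⁻¹) by
                simp [commutatorElement_def, mul_assoc],
                (h.cent_Zv g3r (h.Q_le_G _ hv) hw').eq, mul_inv_cancel_right]
              exact mul_mem hv' hw'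
            inv_mem' := by
              rintro v ⟨hv, hv'⟩
              refine ⟨inv_mem hv, ?_⟩
              rw [show ⁅z, v⁻¹⁆ = v⁻¹ * ⁅z, v⁆⁻¹ * v by simp [commutatorElement_def, mul_assoc],
                (h.cent_Zv g3r (inv_mem (h.Q_le_G _ hv)) (inv_mem hv')).eq, inv_mul_cancel_right]
              exact inv_mem hv' }
        have hP : Vm (g 3) ≤ P := Vm_le fun d hd v hv =>
          ⟨h.Zv_le_Q_adj (h.left_of_right g3r hd) hd.symm hv, hle d hd v hv⟩
        have e1 : ⁅z, u⁆ ∈ Zv (g 1) := by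
          rw [← commutatorElement_inv u z, ← h.Z_eq_Zv g0 b01]
          exact inv_mem (h.comm_mem_Z b01 huS hz)
        have e2 := h.disjoint g2l (pg 1 (by omega)).symm b23.symm (ng.2 1 (by omega)) e1 (hP hu).2
        rw [← h.Z_eq_Zv g0 b01]
        exact h.omega_mem_Z b01 huS huQ (h.Zv_le_omega _ hz)
          (commutatorElement_eq_one_iff_commute.mp e2).symm
      exact h.oneZ_of g0 b01 fun a ha ha1 a' ha' ha1' =>
        inner _ (mul_mem ha ha') (h.mul_mem_Q_of_not b23 (h.end_mem_S hb pg g0 ha)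
          (h.end_mem_S hb pg g0 ha') (fun e => ha1 (inner a ha e)) (fun e => ha1' (inner a' ha' e)))
    by_cases hA : ∃ u ∈ Vm (f 3), u ∈ Q (f 1) ∧ ∃ c ∈ Zv (f 0), ¬ Commute u c
    · exact key f ⟨nf, h0, hesc, hesc2⟩ hA
    by_cases hB : ∃ u ∈ Vm (f 1), u ∈ Q (f 3) ∧ ∃ c ∈ Zv (f 4), ¬ Commute u c
    · exact key _ (h.sym_rev ho ⟨nf, h0, hesc, hesc2⟩) (by simpa [flip] using hB)
    push Not at hB
    exact fin fun z hz hzb => fromE z hz (hB z (Zv_le_Vm a01.symm hz) hzb e he')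
  · refine fin fun z hz hzb => fromE z hz ?_
    refine h.commute_inner hb ho (by omega) (nr.1.take (Nat.le_succ b)) hr0 hresc ?_ ?_ e he
    · simpa [flip, show b + 1 - b = 1 by omega] using Zv_le_Vm a01.symm hz
    · simpa [flip, show b + 1 - 1 = b by omega] using hzb

end Setting

end Cfsg.Lib.GoldBound
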