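import Cfsg.Agent.LocalEven.GoldBound.Walks

/-! Centres of order two at the right hand vertices, and the modules of right hand vertices. -/

set_option autoImplicit false
set_option linter.style.haveILetI false
set_option linter.unusedSectionVars false

open scoped commutatorElement

namespace Cfsg.Lib.GoldBound

open Cfsg MulAction Cfsg.Lib.Amalgam
open Cfsg.Lib.Goldschmidt (G S Q Z cs mem_cs conj_mem_cs omegaZ mem_omegaZ omegaZ_cs G_smul S_smul
  Q_smul Z_smul conj_mem_G conj_mem_Q conj_mem_S conj_mem_Z S_comm Z_comm)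

variable {X : Type*} [Group X] {M₁ M₂ : Subgroup X}

local notation "Γ" => cosetGraph M₁ M₂
local notation "Vx" => CosetVertex M₁ M₂

/-- The product of the modules of the neighbours. -/
def Vm (v : CosetVertex M₁ M₂) : Subgroup X :=
  ⨆ (u : CosetVertex M₁ M₂) (_ : (cosetGraph M₁ M₂).Adj v u), Zv u

/-- The centre at each right hand vertex has at most one involution. -/
def OneZ (M₁ M₂ : Subgroup X) : Prop :=
  ∀ v : CosetVertex M₁ M₂, v.isLeft = false → ∀ y ∈ Zv v, ∀ y' ∈ Zv v, y ≠ 1 → y' ≠ 1 → y = y'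

open Classical in
/-- A nontrivial element of the module of a vertex. -/
noncomputable def zz (v : CosetVertex M₁ M₂) : X :=
  if h : ∃ z, z ∈ Zv v ∧ z ≠ 1 then Classical.choose h else 1

theorem Zv_le_Vm {v u : Vx} (hvu : (Γ).Adj v u) : Zv u ≤ Vm v := le_iSup₂_of_le u hvu le_rfl

theorem Vm_le {v : Vx} {K : Subgroup X} (hK : ∀ u, (Γ).Adj v u → Zv u ≤ K) : Vm v ≤ K :=
  iSup₂_le hK

theorem conj_mem_Vm {g x : X} {v : Vx} (hx : x ∈ Vm v) : g * x * g⁻¹ ∈ Vm (g • v) := by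
  have hle : Vm v ≤ (Vm (g • v)).comap (MulAut.conj g).toMonoidHom :=
    Vm_le fun u hu y hy => by
      simpa using Zv_le_Vm (adj_smul g hu) (conj_mem_Zv (g := g) hy)
  simpa using hle hx

theorem Vm_normal (v : Vx) : G v ≤ Subgroup.normalizer (Vm v : Set X) :=
  le_normalizer_of_conj fun g hg x hx => by
    have := conj_mem_Vm (g := g) hx
    rwa [mem_stabilizer_iff.mp hg] at this

theorem Vm_conj {v : Vx} {g x : X} (hg : g ∈ G v) (hx : x ∈ Vm v) : g * x * g⁻¹ ∈ Vm v :=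
  (Subgroup.mem_normalizer_iff.mp (Vm_normal v hg) x).mp hx

/-- An element commuting with the modules of all neighbours commutes with their product. -/
theorem commute_Vm {v : Vx} {c x : X} (hc : ∀ u, (Γ).Adj v u → ∀ y ∈ Zv u, Commute c y)
    (hx : x ∈ Vm v) : Commute c x := by
  have hle : Vm v ≤ Subgroup.centralizer ({c} : Set X) := Vm_le fun u hu y hy =>
    Subgroup.mem_centralizer_singleton_iff.mpr (hc u hu y hy).symm.eq
  exact (Subgroup.mem_centralizer_singleton_iff.mp (hle hx)).symm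

namespace Setting

variable (h : Setting M₁ M₂)
include h

theorem zz_spec (v : Vx) : zz v ∈ Zv v ∧ zz v ≠ 1 := by
  have hex : ∃ z, z ∈ Zv v ∧ z ≠ 1 := by
    obtain ⟨u, hu⟩ := h.exists_adj v
    obtain ⟨z, hz, hz1⟩ := h.Z_ne_bot hu
    exact ⟨z, Z_le_Zv hu hz, hz1⟩
  rw [zz, dif_pos hex]
  exact Classical.choose_spec hex

theorem Zv_decomp {u v w : Vx} (hu : u.isLeft = true) (huv : (Γ).Adj u v) (huw : (Γ).Adj u w)
    (hne : v ≠ w) {x : X} (hx : x ∈ Zv u) : ∃ y ∈ Zv v, ∃ y' ∈ Zv w, x = y * y' := by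
  let P : Subgroup X :=
    { carrier := {x | ∃ y ∈ Zv v, ∃ y' ∈ Zv w, x = y * y'}
      one_mem' := ⟨1, one_mem _, 1, one_mem _, (mul_one 1).symm⟩
      mul_mem' := by
        rintro _ _ ⟨y, hy, y', hy', rfl⟩ ⟨z, hz, z', hz', rfl⟩
        exact ⟨y * z, mul_mem hy hz, y' * z', mul_mem hy' hz',
          (h.Zv_comm (h.Zv_le_adj hu huw hy') (h.Zv_le_adj hu huv hz)).mul_mul_mul_comm y z'⟩
      inv_mem' := by
        rintro _ ⟨y, hy, y', hy', rfl⟩
        exact ⟨y⁻¹, inv_mem hy, y'⁻¹, inv_mem hy', by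
          rw [mul_inv_rev]
          exact (h.Zv_comm (h.Zv_le_adj hu huw hy') (h.Zv_le_adj hu huv hy)).inv_inv.eq⟩ }
  have hle : Zv v ⊔ Zv w ≤ P := sup_le
    (fun y hy => ⟨y, hy, 1, one_mem _, (mul_one y).symm⟩)
    (fun y hy => ⟨1, one_mem _, y, hy, (one_mul y).symm⟩)
  exact hle (h.Zv_le_sup hu huv huw hne hx)

/-- If every two outside elements multiply into the centre, the centres have order two. -/
theorem oneZ_of {u v : Vx} (hu : u.isLeft = true) (huv : (Γ).Adj u v)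
    (hP : ∀ a ∈ Zv u, a ∉ Zv v → ∀ a' ∈ Zv u, a' ∉ Zv v → a * a' ∈ Zv v) : OneZ M₁ M₂ := by
  obtain ⟨w, hw, hne⟩ := h.exists_ne_adj huv
  have key : ∀ y ∈ Zv w, ∀ y' ∈ Zv w, y ≠ 1 → y' ≠ 1 → y = y' := by
    intro y hy y' hy' h1 h1'
    have e := h.disjoint hu huv hw hne.symm (hP y (h.Zv_le_adj hu hw hy)
      (fun hc => h1 (h.disjoint hu huv hw hne.symm hc hy)) y' (h.Zv_le_adj hu hw hy')
      (fun hc => h1' (h.disjoint hu huv hw hne.symm hc hy'))) (mul_mem hy hy')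
    rw [eq_inv_of_mul_eq_one_left e, h.Zv_inv hy']
  intro x hx y hy y' hy' h1 h1'
  obtain ⟨g, hg⟩ := h.trans_zero false (fun _ => x) (fun _ => w)
    ⟨fun i hi => absurd hi (by omega), fun i hi => absurd hi (by omega)⟩
    ⟨fun i hi => absurd hi (by omega), fun i hi => absurd hi (by omega)⟩ hx (h.right_of_left hu hw)
  have hgx : g • x = w := hg 0 le_rfl
  have hne : ∀ z : X, z ≠ 1 → g * z * g⁻¹ ≠ 1 := fun z hz e => hz (by simpa using e)
  have e := key _ (hgx ▸ conj_mem_Zv (g := g) hy) _ (hgx ▸ conj_mem_Zv (g := g) hy')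
    (hne y h1) (hne y' h1')
  simpa using e

variable (hz : OneZ M₁ M₂)
include hz

theorem eq_zz {v : Vx} (hv : v.isLeft = false) {x : X} (hx : x ∈ Zv v) (h1 : x ≠ 1) : x = zz v :=
  hz v hv x hx _ (h.zz_spec v).1 h1 (h.zz_spec v).2

theorem mem_right {v : Vx} (hv : v.isLeft = false) {x : X} (hx : x ∈ Zv v) :
    x = 1 ∨ x = zz v := by
  by_cases h1 : x = 1
  · exact Or.inl h1
  · exact Or.inr (h.eq_zz hz hv hx h1)

theorem zz_smul {v : Vx} (hv : v.isLeft = false) (g : X) : g * zz v * g⁻¹ = zz (g • v) :=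
  h.eq_zz hz (by rw [type_smul, hv]) (conj_mem_Zv (h.zz_spec v).1)
    (fun e => (h.zz_spec v).2 (by simpa using e))

theorem zz_third {u p q r : Vx} (hu : u.isLeft = true) (hp : (Γ).Adj u p) (hq : (Γ).Adj u q)
    (hr : (Γ).Adj u r) (hpq : p ≠ q) (hpr : p ≠ r) (hqr : q ≠ r) : zz p * zz q = zz r := by
  obtain ⟨y, hy, y', hy', e⟩ := h.Zv_decomp hu hp hq hpq (h.Zv_le_adj hu hr (h.zz_spec r).1)
  rcases h.mem_right hz (h.right_of_left hu hp) hy with e1 | e1
  · rw [e1, one_mul] at e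
    exact absurd (h.disjoint hu hr hq hqr.symm (h.zz_spec r).1 (e ▸ hy')) (h.zz_spec r).2
  rcases h.mem_right hz (h.right_of_left hu hq) hy' with e2 | e2
  · rw [e2, mul_one] at e
    exact absurd (h.disjoint hu hr hp hpr.symm (h.zz_spec r).1 (e ▸ hy)) (h.zz_spec r).2
  rw [e, e1, e2]

/-- Two elements outside the centre multiply into it. -/
theorem mul_mem_centre {u v : Vx} (hu : u.isLeft = true) (huv : (Γ).Adj u v) {a a' : X}
    (ha : a ∈ Zv u) (ha1 : a ∉ Zv v) (ha' : a' ∈ Zv u) (ha1' : a' ∉ Zv v) : a * a' ∈ Zv v := by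
  obtain ⟨w, hw, hne⟩ := h.exists_ne_adj huv
  obtain ⟨y, hy, y', hy', rfl⟩ := h.Zv_decomp hu huv hw hne.symm ha
  obtain ⟨z, hz', z', hz'', rfl⟩ := h.Zv_decomp hu huv hw hne.symm ha'
  have e : y' = z' := hz w (h.right_of_left hu hw) y' hy' z' hz''
    (fun e => ha1 (by rwa [e, mul_one])) (fun e => ha1' (by rwa [e, mul_one]))
  subst e
  rw [(h.Zv_comm (h.Zv_le_adj hu hw hy') (h.Zv_le_adj hu huv hz')).mul_mul_mul_comm, h.Zv_sq
    (h.Zv_le_adj hu hw hy'), mul_one]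
  exact mul_mem hy hz'

/-- A swap at a left hand vertex yields the centre as the commutator. -/
theorem comm_eq_zz {u v : Vx} (hu : u.isLeft = true) (huv : (Γ).Adj u v) {g x : X} (hg : g ∈ S u v)
    (hgQ : g ∉ Q u) (hx : x ∈ Zv u) (hxv : x ∉ Zv v) : ⁅g, x⁆ = zz v := by
  refine h.eq_zz hz (h.right_of_left hu huv) (h.Z_eq_Zv hu huv ▸ h.comm_mem_Z huv hg hx) fun e => hxv ?_
  rw [← h.Z_eq_Zv hu huv]
  exact h.omega_mem_Z huv hg hgQ (h.Zv_le_omega u hx) (commutatorElement_eq_one_iff_commute.mp e)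

end Setting

end Cfsg.Lib.GoldBound
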