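import Cfsg.Agent.LocalEven.GoldBound.Fixed

/-! Shifting a symmetric walk by two steps, and the commutator along the shifted walk. -/

set_option autoImplicit false
set_option linter.style.haveILetI false
set_option linter.unusedSectionVars false

open scoped commutatorElement

namespace Cfsg.Lib.GoldBound

open Cfsg MulAction Cfsg.Lib.Amalgam
open Cfsg.Lib.Goldschmidt (G S Q Z cs mem_cs conj_mem_cs omegaZ mem_omegaZ omegaZ_cs G_smul S_smul
  Q_smul Z_smul conj_mem_G conj_mem_Q conj_mem_S conj_mem_Z S_comm Z_comm)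

variable {X : Type*} [Group X] {M₁ M₂ : Subgroup X}

local notation "Γ" => cosetGraph M₁ M₂
local notation "Vx" => CosetVertex M₁ M₂

namespace Setting

variable (h : Setting M₁ M₂)
include h

variable {b : ℕ} (hb : Crit M₁ M₂ b) (ho : b % 2 = 1)
include hb ho

/-- A symmetric walk can be shifted back by two steps. -/
theorem exists_shift (hb5 : 5 ≤ b) {f : ℕ → Vx} (sf : Sym b f) :
    ∃ g : ℕ → Vx, Sym b g ∧ ∀ i, i + 2 ≤ b → g (i + 2) = f i := by
  obtain ⟨nf, h0, hesc, hesc2⟩ := sf
  have pf := nf.1.take (Nat.le_succ b)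
  have nfb := nf.take (Nat.le_succ b)
  have a01 : (Γ).Adj (f 0) (f 1) := pf 0 (by omega)
  -- an escaping walk two steps further back is enough
  have fin : ∀ p d, (Γ).Adj (f 0) p → p ≠ f 1 → (Γ).Adj p d → d ≠ f 0 →
      ¬ Zv d ≤ Q (f (b - 2)) → ∃ g : ℕ → Vx, Sym b g ∧ ∀ i, i + 2 ≤ b → g (i + 2) = f i := by
    intro p d hp hp1 hd hd0 hc
    have pg : Path b (pre d (pre p f)) :=
      (((pf.take (show b - 2 ≤ b by omega)).pre hp.symm).pre hd.symm).take (by omega)
    have hgb : pre d (pre p f) b = f (b - 2) := by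
      rw [show b = b - 2 + 1 + 1 by omega, pre_succ, pre_succ, show b - 2 + 1 + 1 - 2 = b - 2 by omega]
    have hd0' : (pre d (pre p f) 0).isLeft = true :=
      h.left_of_right (h.right_of_left h0 hp) hd
    obtain ⟨c, sc⟩ := h.exists_sym hb ho pg hd0' (by rw [hgb]; exact hc)
    exact ⟨_, sc, fun i hi => by rw [app_le hi, pre_succ, pre_succ]⟩
  -- with full transitivity every backward extension escapes
  have transEscape : Trans M₁ M₂ true b →
      ∃ g : ℕ → Vx, Sym b g ∧ ∀ i, i + 2 ≤ b → g (i + 2) = f i := by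
    intro hT
    obtain ⟨p, hp, hp1⟩ := h.exists_ne_adj a01
    obtain ⟨d, hd, hd0⟩ := h.exists_ne_adj hp.symm
    have ng : NB b (pre d (pre p f)) :=
      (((nfb.take (show b - 2 ≤ b by omega)).pre hp.symm (fun _ => hp1)).pre hd.symm
        (fun _ => hd0)).take (by omega)
    have := h.escape_of_trans hb ⟨f, pf, h0, hesc⟩ hT ng (h.left_of_right (h.right_of_left h0 hp) hd)
    refine fin p d hp hp1 hd hd0 ?_
    rwa [show pre d (pre p f) b = f (b - 2) by
      rw [show b = b - 2 + 1 + 1 by omega, pre_succ, pre_succ, show b - 2 + 1 + 1 - 2 = b - 2 by omega],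
      show pre d (pre p f) 0 = d from rfl] at this
  by_cases hb5' : b = 5
  · exact transEscape (hb5' ▸ h.trans_five hb ho ⟨f, pf, h0, hesc⟩ hb5)
  by_contra hno
  have hb7 : 7 ≤ b := by omega
  have hz := h.odd_oneZ hb ho ⟨f, pf, h0, hesc⟩
  have noSrc : ∀ n (g : ℕ → Vx), b ≤ n → NB n g → (g n).isLeft = true → ∀ w : X,
      (∀ i, i ≤ n → w • g i = g i) → w ∈ Q (g n) := by
    intro n g hn ng hgl w hfix
    by_contra hwQ
    obtain ⟨x, hx, hwx⟩ := h.exists_moved (hfix n le_rfl) hwQ
    refine hno (transEscape (h.trans_full hb ho ⟨f, pf, h0, hesc⟩ (fun k hk => ?_) b (by omega) true))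
    have := h.src_of ng hfix hx hwx (hk.trans hn)
    rwa [hgl] at this
  have hbm : (Γ).Adj (f (b - 2)) (f (b - 1)) := by
    have := pf (b - 2) (by omega)
    rwa [show b - 2 + 1 = b - 1 by omega] at this
  -- the modules two steps back stay in `O₂` up to one step before the end
  have inQ : ∀ p, (Γ).Adj (f 0) p → p ≠ f 1 → Vm p ≤ Q (f (b - 1)) := by
    intro p hp hp1
    refine Vm_le fun d hd => ?_
    by_cases hd0 : d = f 0
    · subst hd0
      exact fun a ha => h.mem_Q_inner hb pf h0 (by omega) ha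
    intro w hw
    have in2 : w ∈ Q (f (b - 2)) := by
      by_contra hc
      exact hno (fin p d hp hp1 hd hd0 fun hle => hc (hle hw))
    have ng : NB b (pre p f) :=
      ((nfb.take (show b - 1 ≤ b by omega)).pre hp.symm (fun _ => hp1)).take (by omega)
    have hgb : pre p f b = f (b - 1) := by
      rw [show b = b - 1 + 1 by omega, pre_succ, show b - 1 + 1 - 1 = b - 1 by omega]
    have := noSrc b _ le_rfl ng (by rw [hgb]; exact pf.left h0 (by omega) (by omega)) w (fun i hi => by
      by_cases hib : i = b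
      · subst hib
        rw [hgb]
        exact h.fix_adj hbm in2
      · have p' : Path (i + 1) (pre d (pre p f)) :=
          (((pf.take (show b - 1 ≤ b by omega)).pre hp.symm).take (by omega)).pre hd.symm
        exact h.fix_end hb (by omega) p' (h.left_of_right (h.right_of_left h0 hp) hd) hw)
    rwa [hgb] at this
  have hbadj : (Γ).Adj (f (b - 1)) (f b) := by
    have := pf (b - 1) (by omega)
    rwa [show b - 1 + 1 = b by omega] at this
  have hb1 : (Γ).Adj (f b) (f (b + 1)) := nf.1 b (by omega)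
  obtain ⟨a, ha, haQ⟩ := SetLike.not_le_iff_exists.mp hesc
  obtain ⟨e, he, heQ⟩ := SetLike.not_le_iff_exists.mp hesc2
  obtain ⟨-, -, -, -, heS, he0⟩ := h.key hb (by omega) hz ho ⟨nf, h0, hesc, hesc2⟩ ha haQ he heQ
  have fix1 : ∀ p, (Γ).Adj (f 0) p → p ≠ f 1 → ∀ v ∈ Vm p, v • f (b + 1) = f (b + 1) →
      Commute e v := by
    intro p hp hp1 v hv hvb
    refine h.Zv_comm_Q he ?_
    have ng : NB (b + 1 + 1) (pre p f) := nf.pre hp.symm (fun _ => hp1)
    have := noSrc (b + 1 + 1) _ (by omega) ng (by rw [pre_succ]; exact nf.1.left h0 le_rfl (by omega)) v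
      (fun i hi => by
        cases i with
        | zero => exact mem_stabilizer_iff.mp (h.Q_le_G p (h.Vm_le_Q (h.right_of_left h0 hp) hv))
        | succ i =>
          rw [pre_succ]
          rcases (show i ≤ b - 2 ∨ i = b - 1 ∨ i = b ∨ i = b + 1 by omega) with hi' | rfl | rfl | rfl
          · have pg : Path (i + 1) (pre p f) := (pf.take (by omega)).pre hp.symm
            have := h.Vm_fix hb (h.right_of_left h0 hp) pg rfl (by omega) hv
            rwa [pre_succ] at this
          · exact mem_stabilizer_iff.mp (h.Q_le_G _ (inQ p hp hp1 hv))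
          · exact h.fix_adj hbadj (inQ p hp hp1 hv)
          · exact hvb)
    rwa [pre_succ] at this
  have h1r : (f 1).isLeft = false := pf.right h0 (by omega) rfl
  set W : Subgroup X := ⨆ (q : Vx) (_ : (Γ).Adj (f 0) q), Vm q with hW
  have leW : ∀ q, (Γ).Adj (f 0) q → Vm q ≤ W := fun q hq => le_iSup₂_of_le q hq le_rfl
  have heW : ∀ x ∈ W, e * x * e⁻¹ ∈ W := by
    have hle : W ≤ W.comap (MulAut.conj e).toMonoidHom := iSup₂_le fun q hq x hx => by
      simp only [Subgroup.mem_comap, MulEquiv.toMonoidHom_eq_coe, MonoidHom.coe_coe, MulAut.conj_apply]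
      by_cases hq1 : q = f 1
      · subst hq1
        exact leW _ hq (Vm_conj heS.1 hx)
      have hxS : x ∈ S (f b) (f (b - 1)) :=
        ⟨mem_stabilizer_iff.mpr (h.fix_adj hbadj (inQ q hq hq1 hx)), h.Q_le_G _ (inQ q hq hq1 hx)⟩
      by_cases hxb : x ∈ Q (f b)
      · rw [(fix1 q hq hq1 x hx (h.fix_adj hb1 hxb)).eq, mul_inv_cancel_right]
        exact leW q hq hx
      · have haV : a ∈ Vm q := Zv_le_Vm hq.symm ha
        have hxa : x * a ∈ Q (f b) :=
          h.mul_mem_Q_of_not hbadj.symm hxS (h.end_mem_S hb pf h0 ha) hxb haQ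
        have hc := fix1 q hq hq1 _ (mul_mem hx haV) (h.fix_adj hb1 hxa)
        rw [show e * x * e⁻¹ = e * (x * a) * e⁻¹ * (e * a⁻¹ * e⁻¹) by simp [mul_assoc], hc.eq,
          mul_inv_cancel_right]
        exact mul_mem (leW q hq (mul_mem hx haV))
          (leW _ a01 (Vm_conj heS.1 (inv_mem (Zv_le_Vm a01.symm ha))))
    intro x hx
    simpa using hle hx
  have hW0 : G (f 0) ≤ Subgroup.normalizer (W : Set X) := le_normalizer_of_conj fun g hg x hx => by
    have hle : W ≤ W.comap (MulAut.conj g).toMonoidHom := iSup₂_le fun q hq y hy => by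
      simpa using leW _ (h.smul_adj hq hg) (conj_mem_Vm (g := g) hy)
    simpa using hle hx
  have hWS : W ≤ S (f 0) (f 1) := iSup₂_le fun q hq x hx => by
    have hqr := h.right_of_left h0 hq
    refine ⟨(h.Q_le_S hq.symm (h.Vm_le_Q hqr hx)).2, ?_⟩
    have pg : Path 2 (pre q f) := (pf.take (show 1 ≤ b by omega)).pre hq.symm
    exact h.Vm_fix hb hqr pg rfl (by omega) hx
  have hbot : W = ⊥ := by
    refine h.eq_bot_of_edge a01 hWS hW0 ?_
    have hle : S (f 1) (f 0) ≤ G (f 1) ⊓ Subgroup.normalizer (W : Set X) :=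
      le_inf inf_le_left (inf_le_right.trans hW0)
    rcases h.eq_of_le_G a01.symm hle inf_le_left with e1 | e1
    · exfalso
      have : e ∈ G (f 1) ⊓ Subgroup.normalizer (W : Set X) := ⟨heS.1, by
        refine Subgroup.mem_normalizer_iff.mpr fun x => ⟨heW x, fun hx => ?_⟩
        have := heW _ hx
        have hee : e * e = 1 := h.Zv_sq he
        have e2 : e * (e * x * e⁻¹) * e⁻¹ = x := by
          calc e * (e * x * e⁻¹) * e⁻¹ = e * e * x * (e * e)⁻¹ := by simp [mul_assoc]
            _ = x := by rw [hee]; simp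
        rwa [e2] at this⟩
      rw [e1] at this
      exact he0 (mem_stabilizer_iff.mp this.2)
    · exact e1.ge.trans inf_le_right
  have := leW _ a01 (Zv_le_Vm a01.symm (h.Zv_le_adj h0 a01 (h.zz_spec (f 1)).1))
  rw [hbot, Subgroup.mem_bot] at this
  exact (h.zz_spec (f 1)).2 this

/-- The commutator along a shifted walk is the first centre of the original one. -/
theorem shift_comm (hb5 : 5 ≤ b) {f g : ℕ → Vx} (sf : Sym b f) (sg : Sym b g)
    (hfg : ∀ i, i + 2 ≤ b → g (i + 2) = f i) {a e : X} (ha : a ∈ Zv (g 0)) (haQ : a ∉ Q (g b))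
    (he : e ∈ Zv (g (b + 1))) (heQ : e ∉ Q (g 1)) : ⁅a, e⁆ = zz (f 1) := by
  obtain ⟨nf, h0, hesc, hesc2⟩ := sf
  have pf := nf.1.take (Nat.le_succ b)
  have hE : Escape M₁ M₂ b := ⟨f, pf, h0, hesc⟩
  have hz := h.odd_oneZ hb ho hE
  obtain ⟨A, hA, hAQ⟩ := SetLike.not_le_iff_exists.mp hesc
  obtain ⟨E, hEm, hEQ⟩ := SetLike.not_le_iff_exists.mp hesc2
  obtain ⟨-, -, -, -, hES, hE0⟩ :=
    h.key hb (by omega) hz ho ⟨nf, h0, hesc, hesc2⟩ hA hAQ hEm hEQ
  obtain ⟨hy0, -, htb, -, -, -⟩ := h.key hb (by omega) hz ho sg ha haQ he heQ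
  obtain ⟨ng, g0, -, -⟩ := sg
  have eg2 : g 2 = f 0 := hfg 0 (by omega)
  have eg3 : g 3 = f 1 := hfg 1 (by omega)
  have egb : g b = f (b - 2) := by
    have := hfg (b - 2) (by omega)
    rwa [show b - 2 + 2 = b by omega] at this
  rw [eg3] at hy0
  set t := ⁅a, e⁆ with ht
  set y := t * zz (f 1) with hy
  have h1r : (f 1).isLeft = false := pf.right h0 (by omega) rfl
  have h2l : (f 2).isLeft = true := pf.left h0 (by omega) rfl
  have a01 : (Γ).Adj (f 0) (f 1) := pf 0 (by omega)
  have a12 : (Γ).Adj (f 1) (f 2) := pf 1 (by omega)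
  have a23 : (Γ).Adj (f 2) (f 3) := pf 2 (by omega)
  have a0p : (Γ).Adj (f 0) (g 1) := eg2 ▸ (ng.1 1 (by omega)).symm
  have hpr : (g 1).isLeft = false := h.right_of_left h0 a0p
  have hp1 : g 1 ≠ f 1 := eg3 ▸ ng.2 1 (by omega)
  -- the end swap fixes this element
  have pflip : Path (b + 1) (flip (b + 1) f) := nf.1.rev
  have hE0l : (flip (b + 1) f 0).isLeft = true := by
    show (f (b + 1 - 0)).isLeft = true
    rw [Nat.sub_zero]; exact nf.1.left h0 le_rfl (by omega)
  have hEm' : E ∈ Zv (flip (b + 1) f 0) := by simpa [flip] using hEm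
  have hEt : Commute E t := by
    refine commute_Vm (fun d hd y hy => ?_) htb
    rw [egb] at hd
    have e3 : flip (b + 1) f 3 = f (b - 2) := by simp [flip, show b + 1 - 3 = b - 2 by omega]
    have p4 : Path (3 + 1) (app 3 (flip (b + 1) f) d) := (pflip.take (by omega)).app (e3 ▸ hd)
    exact h.comm_ends hb (by omega) p4 (by rw [app_le (Nat.zero_le _)]; exact hE0l)
      (by rw [app_le (Nat.zero_le _)]; exact hEm') (by rw [app_last]; exact hy)
  have hE1 : Commute E (zz (f 1)) := h.cent_Zv h1r hES.1 (h.zz_spec _).1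
  have hEy : E * y * E⁻¹ = y := by rw [(hEt.mul_right hE1).eq, mul_inv_cancel_right]
  have hy' : Fc (E • g 1) y := hEy ▸ hy0.smul E
  set x0' := E • f 0 with hx0'
  have a10' : (Γ).Adj (f 1) x0' := h.smul_adj a01.symm hES.1
  have a0p' : (Γ).Adj x0' (E • g 1) := adj_smul E a0p
  have hp''r : (E • g 1).isLeft = false := by rw [type_smul, hpr]
  have hp''1 : E • g 1 ≠ f 1 := fun e' =>
    hp1 (smul_left_cancel E (e'.trans (mem_stabilizer_iff.mp hES.1).symm))
  by_cases hyZ : y ∈ Zv (g 1)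
  · rcases h.mem_right hz hpr hyZ with e1 | e1
    · exact (eq_inv_of_mul_eq_one_left e1).trans (h.Zv_inv (h.zz_spec _).1)
    · exfalso
      have hy2 : zz (g 1) ∈ Zv x0' := by
        rw [← e1, ← hEy]
        exact conj_mem_Zv (h.Zv_le_adj h0 a0p hyZ)
      exact (h.zz_spec (g 1)).2 (h.disjoint h0 a0p a01 hp1 (h.zz_spec _).1
        (h.Zv_inter h1r a01.symm a10' hE0.symm (h.Zv_le_adj h0 a0p (h.zz_spec _).1) hy2))
  exfalso
  have T4 := h.trans_four hb ho hE (by omega)
  -- no fixed element lies in the centre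
  have dim4 : ∀ v : Vx, v.isLeft = false → ∀ z, Fc v z → z ∉ Zv v := by
    intro v hv z hzf hzZ
    obtain ⟨q, hq⟩ := T4 0 (by omega) false (fun _ => v) (fun _ => g 1)
      ⟨fun i hi => absurd hi (by omega), fun i hi => absurd hi (by omega)⟩
      ⟨fun i hi => absurd hi (by omega), fun i hi => absurd hi (by omega)⟩ hv hpr
    have hqv : q • v = g 1 := hq 0 le_rfl
    have := h.fc_unique hb (by omega) hz hpr hy0 (hqv ▸ hzf.smul q)
    exact hyZ ((Subgroup.mul_mem_cancel_right _ (hqv ▸ conj_mem_Zv (g := q) hzZ)).mp this)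
  -- the base walk of length four
  set w : ℕ → Vx := app 3 (app 2 (app 1 (fun i => if i = 0 then g 1 else f 0) (f 1)) x0') (E • g 1) with hw
  have nw : NB 4 w := by
    refine (((NB.app (n := 1) ⟨fun i hi => ?_, fun i hi => absurd hi (by omega)⟩ ?_ ?_).app ?_ ?_).app ?_ ?_)
    · obtain rfl : i = 0 := by omega
      simpa using a0p.symm
    · simpa using a01
    · simpa using hp1.symm
    · simpa [app] using a10'
    · simpa [app] using hE0
    · simpa [app] using a0p'
    · simpa [app] using hp''1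
  have share : ∀ v : ℕ → Vx, NB 4 v → (v 0).isLeft = false → ∃ z, Fc (v 0) z ∧ Fc (v 4) z := by
    intro v nv v0
    obtain ⟨q, hq⟩ := T4 4 le_rfl false w v nw nv (by simpa [hw, app] using hpr) v0
    refine ⟨q * y * q⁻¹, ?_, ?_⟩
    · rw [← hq 0 (by omega)]
      exact (show Fc (w 0) y by simpa [hw, app] using hy0).smul q
    · rw [← hq 4 le_rfl]
      exact (show Fc (w 4) y by simpa [hw, app] using hy').smul q
  obtain ⟨p', hp', hp'1, hp'p⟩ := h.exists_third a01 a0p
  have hp'r := h.right_of_left h0 hp'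
  -- each far centre is a product of two fixed elements
  have far : ∀ d c, (Γ).Adj (f 1) d → d ≠ f 0 → (Γ).Adj d c → c ≠ f 1 →
      ∃ z₁ z₂, Fc (g 1) z₁ ∧ Fc p' z₂ ∧ zz c = z₁ * z₂ := by
    intro d c hd hd0 hc hc1
    have mk : ∀ q, (Γ).Adj (f 0) q → q ≠ f 1 → ∃ z, Fc q z ∧ Fc c z := by
      intro q hq hq1
      set v : ℕ → Vx := app 3 (app 2 (app 1 (fun i => if i = 0 then q else f 0) (f 1)) d) c with hv
      have nv : NB 4 v := by
        refine (((NB.app (n := 1) ⟨fun i hi => ?_, fun i hi => absurd hi (by omega)⟩ ?_ ?_).app ?_ ?_).app ?_ ?_)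
        · obtain rfl : i = 0 := by omega
          simpa using hq.symm
        · simpa using a01
        · simpa using hq1.symm
        · simpa [app] using hd
        · simpa [app] using hd0
        · simpa [app] using hc
        · simpa [app] using hc1
      obtain ⟨z, z0, z4⟩ := share v nv (by simpa [hv, app] using h.right_of_left h0 hq)
      exact ⟨z, by simpa [hv, app] using z0, by simpa [hv, app] using z4⟩
    obtain ⟨z₁, z1p, z1c⟩ := mk _ a0p hp1
    obtain ⟨z₂, z2p, z2c⟩ := mk _ hp' hp'1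
    have hcr : c.isLeft = false := h.right_of_left (h.left_of_right h1r hd) hc
    refine ⟨z₁, z₂, z1p, z2p, (h.eq_zz hz hcr (h.fc_unique hb (by omega) hz hcr z1c z2c) fun e' => ?_).symm⟩
    have hz12 : z₂ = z₁ := by
      rw [eq_inv_of_mul_eq_one_right e',
        inv_eq_of_mul_eq_one_right (h.Vm_sq hb (by omega) hpr (h.fc_mem hb (by omega) hpr z1p))]
    subst hz12
    refine dim4 _ hpr _ z1p ?_
    rw [h.central_one h0 a0p hp' hp'p.symm
      (by rw [S_comm]; exact h.Q_le_S a0p.symm (h.Vm_le_Q hpr (h.fc_mem hb (by omega) hpr z1p)))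
      (fun x hx hx3 => h.fc_root hb (by omega) hz hpr z1p hx hx3)
      (fun x hx hx3 => h.fc_root hb (by omega) hz hp'r z2p hx hx3)]
    exact one_mem _
  have d02 : x0' ≠ f 2 := fun e' =>
    (nf.2 0 (by omega)) (smul_left_cancel E (e'.trans (mem_stabilizer_iff.mp hES.2).symm))
  have hx0'l : x0'.isLeft = true := by rw [hx0', type_smul, h0]
  obtain ⟨u1, u2, hu1, hu2, e1⟩ := far x0' (E • g 1) a10' hE0 a0p' hp''1
  obtain ⟨v1, v2, hv1, hv2, e2⟩ := far (f 2) (f 3) a12 (nf.2 0 (by omega)).symm a23 (nf.2 1 (by omega)).symm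
  have hcomm : Commute u2 v1 := by
    refine commute_Vm (fun d hd y hy => (commute_Vm (fun d' hd' y' hy' => ?_)
      (h.fc_mem hb (by omega) hp'r hu2)).symm) (h.fc_mem hb (by omega) hpr hv1)
    set v : ℕ → Vx := app 3 (app 2 (app 1 (fun i => if i = 0 then d else g 1) (f 0)) p') d' with hv
    have pv : Path 4 v := by
      refine (((Path.app (n := 1) (fun i hi => ?_) ?_).app ?_).app ?_)
      · obtain rfl : i = 0 := by omega
        simpa using hd.symm
      · simpa using a0p.symm
      · simpa [app] using hp'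
      · simpa [app] using hd'
    exact h.comm_ends hb (by omega) pv (by simpa [hv, app] using h.left_of_right hpr hd)
      (by simpa [hv, app] using hy) (by simpa [hv, app] using hy')
  have hprod : zz (E • g 1) * zz (f 3) ∈ Zv (f 0) := by
    rw [e1, e2, hcomm.mul_mul_mul_comm]
    exact mul_mem (h.Zv_le_adj h0 a0p (h.fc_unique hb (by omega) hz hpr hu1 hv1))
      (h.Zv_le_adj h0 hp' (h.fc_unique hb (by omega) hz hp'r hu2 hv2))
  have hA1 : A ∉ Zv (f 1) := fun e' => hAQ (h.centre_le_end hb pf h0 e')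
  have out : ∀ {d c : Vx}, (Γ).Adj (f 1) d → (Γ).Adj d c → c ≠ f 1 →
      zz c ∈ Zv d ∧ zz c ∉ Zv (f 1) := fun hd hc hc1 =>
    ⟨h.Zv_le_adj (h.left_of_right h1r hd) hc (h.zz_spec _).1, fun e' => (h.zz_spec _).2
      (h.disjoint (h.left_of_right h1r hd) hc hd.symm hc1 (h.zz_spec _).1 e')⟩
  have hff := h.fc_of hb (by omega) h1r a01.symm a10' a12 hE0.symm (nf.2 0 (by omega)) d02
    ⟨hA, hA1⟩ (out a10' a0p' hp''1) (out a12 a23 (nf.2 1 (by omega)).symm)
  have hfmem : A * zz (E • g 1) * zz (f 3) ∈ Zv (f 0) := by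
    rw [mul_assoc]; exact mul_mem hA hprod
  obtain ⟨x, hx, hx3, hx1, -⟩ := h.exists_rot a01.symm
  refine dim4 _ h1r _ hff (h.Zv_inter h1r a01.symm (h.smul_adj a01.symm hx) hx1.symm hfmem ?_)
  have := conj_mem_Zv (g := x) hfmem
  rwa [← (h.fc_root hb (by omega) hz h1r hff hx hx3).eq, mul_inv_cancel_right] at this

end Setting

end Cfsg.Lib.GoldBound
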