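import Cfsg.Agent.LocalEven.GoldBound.Centre

/-! Walks in the coset graph: the critical length and transitivity on short walks. -/

set_option autoImplicit false
set_option linter.style.haveILetI false
set_option linter.unusedSectionVars false

open scoped commutatorElement

namespace Cfsg.Lib.GoldBound

open Cfsg MulAction Cfsg.Lib.Amalgam
open Cfsg.Lib.Goldschmidt (G S Q Z cs mem_cs conj_mem_cs omegaZ mem_omegaZ omegaZ_cs G_smul S_smul
  Q_smul Z_smul conj_mem_G conj_mem_Q conj_mem_S conj_mem_Z S_comm Z_comm)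

variable {X : Type*} [Group X] {M₁ M₂ : Subgroup X}

local notation "Γ" => cosetGraph M₁ M₂
local notation "Vx" => CosetVertex M₁ M₂

/-- A sequence of adjacent vertices. -/
def Path (n : ℕ) (f : ℕ → CosetVertex M₁ M₂) : Prop :=
  ∀ i, i < n → (cosetGraph M₁ M₂).Adj (f i) (f (i + 1))

/-- A walk never turning back. -/
def NB (n : ℕ) (f : ℕ → CosetVertex M₁ M₂) : Prop :=
  Path n f ∧ ∀ i, i + 2 ≤ n → f i ≠ f (i + 2)

/-- The sequence read backwards from `n`. -/
def flip (n : ℕ) (f : ℕ → CosetVertex M₁ M₂) : ℕ → CosetVertex M₁ M₂ := fun i => f (n - i)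

/-- Append a vertex after position `n`. -/
def app (n : ℕ) (f : ℕ → CosetVertex M₁ M₂) (w : CosetVertex M₁ M₂) : ℕ → CosetVertex M₁ M₂ :=
  fun i => if i ≤ n then f i else w

/-- Prepend a vertex. -/
def pre (w : CosetVertex M₁ M₂) (f : ℕ → CosetVertex M₁ M₂) : ℕ → CosetVertex M₁ M₂
  | 0 => w
  | i + 1 => f i

theorem app_le {n i : ℕ} {f : ℕ → Vx} {w : Vx} (hi : i ≤ n) : app n f w i = f i := if_pos hi

theorem app_last {n : ℕ} {f : ℕ → Vx} {w : Vx} : app n f w (n + 1) = w := if_neg (by omega)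

theorem pre_zero {f : ℕ → Vx} {w : Vx} : pre w f 0 = w := rfl

theorem pre_succ {f : ℕ → Vx} {w : Vx} (i : ℕ) : pre w f (i + 1) = f i := rfl

theorem Path.rev {n : ℕ} {f : ℕ → Vx} (p : Path n f) : Path n (flip n f) := fun i hi => by
  have := (p (n - (i + 1)) (by omega)).symm
  rwa [show n - (i + 1) + 1 = n - i by omega] at this

theorem Path.sub {n : ℕ} {f : ℕ → Vx} (p : Path n f) {i k : ℕ} (h : i + k ≤ n) :
    Path k (fun j => f (i + j)) := fun j hj => p (i + j) (by omega)

theorem Path.take {n k : ℕ} {f : ℕ → Vx} (p : Path n f) (h : k ≤ n) : Path k f := fun j hj =>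
  p j (by omega)

theorem NB.rev {n : ℕ} {f : ℕ → Vx} (p : NB n f) : NB n (flip n f) := by
  refine ⟨p.1.rev, fun i hi => ?_⟩
  have := (p.2 (n - (i + 2)) (by omega)).symm
  rwa [show n - (i + 2) + 2 = n - i by omega] at this

theorem NB.sub {n : ℕ} {f : ℕ → Vx} (p : NB n f) {i k : ℕ} (h : i + k ≤ n) :
    NB k (fun j => f (i + j)) := ⟨p.1.sub h, fun j hj => p.2 (i + j) (by omega)⟩

theorem NB.take {n k : ℕ} {f : ℕ → Vx} (p : NB n f) (h : k ≤ n) : NB k f :=
  ⟨p.1.take h, fun j hj => p.2 j (by omega)⟩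

theorem Path.app {n : ℕ} {f : ℕ → Vx} (p : Path n f) {w : Vx} (hw : (Γ).Adj (f n) w) :
    Path (n + 1) (GoldBound.app n f w) := fun i hi => by
  rw [app_le (show i ≤ n by omega)]
  by_cases h : i + 1 ≤ n
  · rw [app_le h]; exact p i (by omega)
  · obtain rfl : i = n := by omega
    rwa [app_last]

theorem NB.app {n : ℕ} {f : ℕ → Vx} (p : NB n f) {w : Vx} (hw : (Γ).Adj (f n) w)
    (hne : 1 ≤ n → w ≠ f (n - 1)) : NB (n + 1) (GoldBound.app n f w) := by
  refine ⟨p.1.app hw, fun i hi => ?_⟩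
  rw [app_le (show i ≤ n by omega)]
  by_cases h : i + 2 ≤ n
  · rw [app_le h]; exact p.2 i h
  · obtain rfl : n = i + 1 := by omega
    rw [app_last]
    exact (hne (by omega)).symm

theorem Path.pre {n : ℕ} {f : ℕ → Vx} (p : Path n f) {w : Vx} (hw : (Γ).Adj w (f 0)) :
    Path (n + 1) (GoldBound.pre w f) := fun i hi => by
  cases i with
  | zero => exact hw
  | succ i => exact p i (by omega)

theorem NB.pre {n : ℕ} {f : ℕ → Vx} (p : NB n f) {w : Vx} (hw : (Γ).Adj w (f 0))
    (hne : 1 ≤ n → w ≠ f 1) : NB (n + 1) (GoldBound.pre w f) := by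
  refine ⟨p.1.pre hw, fun i hi => ?_⟩
  cases i with
  | zero => exact hne (by omega)
  | succ i => exact p.2 i (by omega)

theorem Path.smul {n : ℕ} {f : ℕ → Vx} (p : Path n f) (g : X) : Path n (fun i => g • f i) :=
  fun i hi => adj_smul g (p i hi)

theorem NB.smul {n : ℕ} {f : ℕ → Vx} (p : NB n f) (g : X) : NB n (fun i => g • f i) :=
  ⟨p.1.smul g, fun i hi e => p.2 i hi (smul_left_cancel g e)⟩

theorem Path.type {n : ℕ} {f : ℕ → Vx} (p : Path n f) {i : ℕ} (hi : i ≤ n) :
    (f i).isLeft = if i % 2 = 0 then (f 0).isLeft else !(f 0).isLeft := by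
  induction i with
  | zero => simp
  | succ i ih =>
    rw [type_adj (p i (by omega)), ih (by omega)]
    by_cases h : i % 2 = 0
    · simp [h, show (i + 1) % 2 = 1 by omega]
    · simp [h, show (i + 1) % 2 = 0 by omega]

theorem Path.left {n : ℕ} {f : ℕ → Vx} (p : Path n f) (h0 : (f 0).isLeft = true) {i : ℕ}
    (hi : i ≤ n) (hp : i % 2 = 0) : (f i).isLeft = true := by
  rw [p.type hi, if_pos hp, h0]

theorem Path.right {n : ℕ} {f : ℕ → Vx} (p : Path n f) (h0 : (f 0).isLeft = true) {i : ℕ}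
    (hi : i ≤ n) (hp : i % 2 = 1) : (f i).isLeft = false := by
  rw [p.type hi, if_neg (by omega), h0]; rfl

/-- Some element fixes the walk and moves a neighbour of its end. -/
def Move (k : ℕ) (f : ℕ → CosetVertex M₁ M₂) : Prop :=
  ∃ g : X, (∀ i, i ≤ k → g • f i = f i) ∧
    ∃ w, (cosetGraph M₁ M₂).Adj (f k) w ∧ g • w ≠ w

/-- A walk of length `k` with an end of the given kind and a movable continuation. -/
def Src (M₁ M₂ : Subgroup X) (τ : Bool) (k : ℕ) : Prop :=
  ∃ f : ℕ → CosetVertex M₁ M₂, NB k f ∧ (f k).isLeft = τ ∧ Move k f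

/-- All walks of length `k` from vertices of the given kind are conjugate. -/
def Trans (M₁ M₂ : Subgroup X) (τ : Bool) (k : ℕ) : Prop :=
  ∀ f g : ℕ → CosetVertex M₁ M₂, NB k f → NB k g → (f 0).isLeft = τ → (g 0).isLeft = τ →
    ∃ h : X, ∀ i, i ≤ k → h • f i = g i

/-- The subgroup generated by the cube roots of unity in a vertex group. -/
def root (v : CosetVertex M₁ M₂) : Subgroup X :=
  Subgroup.closure {x | x ∈ G v ∧ x * x * x = 1}

namespace Pair

variable (h : Pair M₁ M₂)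
include h

theorem exists_moved {u : Vx} {g : X} (hg : g ∈ G u) (hgQ : g ∉ Q u) :
    ∃ w, (Γ).Adj u w ∧ g • w ≠ w := by
  by_contra! hall
  obtain ⟨v, hv⟩ := h.exists_adj u
  obtain ⟨w, hw, hne⟩ := h.exists_ne_adj hv
  exact hgQ (h.mem_Q_of_fix hv hw hne.symm (mem_stabilizer_iff.mp hg) (hall v hv) (hall w hw))

theorem src_of {n k : ℕ} {f : ℕ → Vx} (p : NB n f) {g : X} (hfix : ∀ i, i ≤ n → g • f i = f i)
    {w : Vx} (hw : (Γ).Adj (f n) w) (hmove : g • w ≠ w) (hk : k ≤ n) :
    Src M₁ M₂ (f n).isLeft k := by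
  refine ⟨fun j => f (n - k + j), p.sub (by omega), ?_, g, fun i hi => hfix _ (by omega), w, ?_, hmove⟩
  · simp only [show n - k + k = n by omega]
  · simp only [show n - k + k = n by omega]; exact hw

theorem trans_zero (τ : Bool) : Trans M₁ M₂ τ 0 := by
  intro f g _ _ hf hg
  have key : ∀ p q : Vx, p.isLeft = q.isLeft → ∃ k : X, k • p = q := by
    rintro (a | a) (c | c) e <;> first | (simp at e; done) | skip
    · induction a using QuotientGroup.induction_on with
      | H x =>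
        induction c using QuotientGroup.induction_on with
        | H y => exact ⟨y * x⁻¹, by rw [smul_inl, inv_mul_cancel_right]⟩
    · induction a using QuotientGroup.induction_on with
      | H x =>
        induction c using QuotientGroup.induction_on with
        | H y => exact ⟨y * x⁻¹, by rw [smul_inr, inv_mul_cancel_right]⟩
  obtain ⟨k, hk⟩ := key _ _ (hf.trans hg.symm)
  exact ⟨k, fun i hi => by obtain rfl : i = 0 := by omega
                           exact hk⟩

theorem trans_one (τ : Bool) : Trans M₁ M₂ τ 1 := by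
  intro f g pf pg hf hg
  obtain ⟨k, hk⟩ := h.trans_zero τ f g (pf.take (by omega)) (pg.take (by omega)) hf hg
  have h1 := adj_smul k (pf.1 0 (by omega))
  rw [hk 0 le_rfl] at h1
  obtain ⟨m, hm, e⟩ := transitive h1 (pg.1 0 (by omega))
  refine ⟨m * k, fun i hi => ?_⟩
  rcases Nat.le_one_iff_eq_zero_or_eq_one.mp hi with rfl | rfl
  · rw [mul_smul, hk 0 le_rfl]; exact mem_stabilizer_iff.mp hm
  · rw [mul_smul]; exact e

theorem trans_succ {k : ℕ} (hk : 1 ≤ k) {τ : Bool} (hT : Trans M₁ M₂ τ k)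
    (hM : ∃ f : ℕ → Vx, NB k f ∧ (f 0).isLeft = τ ∧ Move k f) : Trans M₁ M₂ τ (k + 1) := by
  intro f g pf pg hf hg
  obtain ⟨q, hq⟩ := hT f g (pf.take (by omega)) (pg.take (by omega)) hf hg
  have hadj : (Γ).Adj (g k) (q • f (k + 1)) := hq k le_rfl ▸ adj_smul q (pf.1 k (by omega))
  have hgadj := pg.1 k (by omega)
  have hprev : (Γ).Adj (g k) (g (k - 1)) := by
    have := pg.1 (k - 1) (by omega)
    rw [show k - 1 + 1 = k by omega] at this
    exact this.symm
  have hne1 : q • f (k + 1) ≠ g (k - 1) := by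
    rw [← hq (k - 1) (by omega)]
    intro e
    have := pf.2 (k - 1) (by omega)
    rw [show k - 1 + 2 = k + 1 by omega] at this
    exact this (smul_left_cancel q e).symm
  have hne2 : g (k + 1) ≠ g (k - 1) := by
    have := pg.2 (k - 1) (by omega)
    rw [show k - 1 + 2 = k + 1 by omega] at this
    exact this.symm
  by_cases e : q • f (k + 1) = g (k + 1)
  · refine ⟨q, fun i hi => ?_⟩
    rcases (show i ≤ k ∨ i = k + 1 by omega) with hi | rfl
    · exact hq i hi
    · exact e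
  obtain ⟨F, pF, hF, m, hm, w, hw, hmw⟩ := hM
  obtain ⟨r, hr⟩ := hT F g pF (pg.take (by omega)) hF hg
  set m' := r * m * r⁻¹ with hm'
  have hfix : ∀ i, i ≤ k → m' • g i = g i := fun i hi => by
    rw [hm', mul_smul, mul_smul, inv_smul_eq_iff.mpr (hr i hi).symm, hm i hi, hr i hi]
  have hmoves : m' • (r • w) ≠ r • w := by
    rw [hm', mul_smul, inv_smul_smul, mul_smul]
    exact fun e => hmw (smul_left_cancel r e)
  have hw' : (Γ).Adj (g k) (r • w) := hr k le_rfl ▸ adj_smul r hw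
  have hw'ne : r • w ≠ g (k - 1) := fun e => hmoves (by rw [e]; exact hfix _ (by omega))
  have hmS : ∀ x, (Γ).Adj (g k) x → x ≠ g (k - 1) → m' • x ≠ x := fun x hx hxne =>
    h.smul_ne hprev hx hxne ⟨hfix k le_rfl, hfix _ (by omega)⟩ (fun hQ => hmoves (h.fix_adj hw' hQ))
  have hswap : m' • (q • f (k + 1)) = g (k + 1) := by
    rcases h.two_others hprev hadj hgadj
      (h.smul_adj hadj (show m' ∈ G (g k) from hfix k le_rfl)) hne1 hne2
      (fun e' => hne1 (smul_left_cancel m' (e'.trans (hfix (k - 1) (by omega)).symm))) e with e' | e'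
    · exact absurd e' (hmS _ hadj hne1)
    · exact e'
  refine ⟨m' * q, fun i hi => ?_⟩
  rcases (show i ≤ k ∨ i = k + 1 by omega) with hi | rfl
  · rw [mul_smul, hq i hi, hfix i hi]
  · rw [mul_smul, hswap]

theorem trans_flip {k : ℕ} (hk : k % 2 = 1) {τ : Bool} (hT : Trans M₁ M₂ τ k) :
    Trans M₁ M₂ (!τ) k := by
  intro f g pf pg hf hg
  have key : ∀ {f : ℕ → Vx}, NB k f → (f 0).isLeft = (!τ) → (flip k f 0).isLeft = τ := by
    intro f pf hf
    show (f (k - 0)).isLeft = τ
    rw [Nat.sub_zero, pf.1.type le_rfl, if_neg (by omega), hf, Bool.not_not]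
  obtain ⟨q, hq⟩ := hT _ _ pf.rev pg.rev (key pf hf) (key pg hg)
  refine ⟨q, fun i hi => ?_⟩
  have := hq (k - i) (by omega)
  simpa [flip, show k - (k - i) = i by omega] using this

theorem trans_step {k : ℕ} (hk : 1 ≤ k) {τ σ : Bool} (hT : Trans M₁ M₂ τ k)
    (hσ : σ = if k % 2 = 0 then τ else !τ) (hS : Src M₁ M₂ σ k) : Trans M₁ M₂ τ (k + 1) := by
  obtain ⟨f, pf, hf, hm⟩ := hS
  refine h.trans_succ hk hT ⟨f, pf, ?_, hm⟩
  rw [pf.1.type le_rfl, hσ] at hf
  by_cases e : k % 2 = 0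
  · rwa [if_pos e, if_pos e] at hf
  · rw [if_neg e, if_neg e] at hf
    exact Bool.not_inj hf

theorem trans_upto {K : ℕ} (hS : ∀ k, 1 ≤ k → k ≤ K → ∀ τ, Src M₁ M₂ τ k) :
    ∀ k, k ≤ K + 1 → ∀ τ, Trans M₁ M₂ τ k := by
  intro k
  induction k with
  | zero => exact fun _ τ => h.trans_zero τ
  | succ k ih =>
    intro hk τ
    by_cases hk0 : k = 0
    · subst hk0; exact h.trans_one τ
    · exact h.trans_step (by omega) (ih (by omega) τ) rfl (hS k (by omega) (by omega) _)

theorem exists_of_type (τ : Bool) : ∃ u : Vx, u.isLeft = τ := by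
  cases τ
  · exact ⟨Sum.inr ((1 : X) : X ⧸ M₂), rfl⟩
  · exact ⟨Sum.inl ((1 : X) : X ⧸ M₁), rfl⟩

theorem src_one (τ : Bool) : Src M₁ M₂ τ 1 := by
  obtain ⟨u, hu⟩ := h.exists_of_type τ
  obtain ⟨v, hv⟩ := h.exists_adj u
  obtain ⟨g, hg, hgQ⟩ := h.exists_not_mem_Q hv
  obtain ⟨w, hw, hgw⟩ := h.exists_moved hg.1 hgQ
  refine ⟨fun i => if i = 0 then v else u, ⟨fun i hi => ?_, fun i hi => absurd hi (by omega)⟩,
    by simpa using hu, g, fun i hi => ?_, w, by simpa using hw, hgw⟩
  · obtain rfl : i = 0 := by omega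
    simpa using hv.symm
  · rcases Nat.le_one_iff_eq_zero_or_eq_one.mp hi with rfl | rfl
    · simpa using mem_stabilizer_iff.mp hg.2
    · simpa using mem_stabilizer_iff.mp hg.1

end Pair

/-- The module of the first vertex leaves `O₂` of the last along a path of length `n`. -/
def Escape (M₁ M₂ : Subgroup X) (n : ℕ) : Prop :=
  ∃ f : ℕ → CosetVertex M₁ M₂, Path n f ∧ (f 0).isLeft = true ∧ ¬ Zv (f 0) ≤ Q (f n)

/-- `b` is the critical length. -/
def Crit (M₁ M₂ : Subgroup X) (b : ℕ) : Prop :=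
  2 ≤ b ∧ ∀ n, n < b → ¬ Escape M₁ M₂ n

namespace Setting

variable (h : Setting M₁ M₂)
include h

theorem exists_crit : ∃ b, Crit M₁ M₂ b ∧ Escape M₁ M₂ b := by
  classical
  have hex : ∃ n, Escape M₁ M₂ n := by
    by_contra! hno
    set u : Vx := Sum.inl ((1 : X) : X ⧸ M₁)
    have hall : ∀ v : Vx, Zv u ≤ stabilizer X v := by
      intro v
      obtain ⟨w⟩ := (connected h.gen).preconnected u v
      intro a ha
      have h1 : Zv (w.getVert 0) ≤ Q (w.getVert w.length) := by
        by_contra hc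
        exact hno w.length ⟨w.getVert, fun i hi => w.adj_getVert_succ hi, by
          rw [SimpleGraph.Walk.getVert_zero]; rfl, hc⟩
      rw [SimpleGraph.Walk.getVert_zero, SimpleGraph.Walk.getVert_length] at h1
      exact h.Q_le_G v (h1 ha)
    have hbot := faithful (fun N hN hn => h.core N hN hn) hall
    obtain ⟨v, hv⟩ := h.exists_adj u
    obtain ⟨z, hz, hz1⟩ := h.Z_ne_bot hv
    have := Z_le_Zv hv hz
    rw [hbot, Subgroup.mem_bot] at this
    exact hz1 this
  refine ⟨Nat.find hex, ⟨?_, fun n hn => Nat.find_min hex hn⟩, Nat.find_spec hex⟩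
  by_contra hlt
  obtain ⟨f, pf, hf, hesc⟩ := Nat.find_spec hex
  rcases (show Nat.find hex = 0 ∨ Nat.find hex = 1 by omega) with e | e <;> rw [e] at pf hesc
  · exact hesc (h.Zv_le_Q _)
  · exact hesc (h.Zv_le_Q_adj hf (pf 0 (by omega)))

variable {b : ℕ} (hb : Crit M₁ M₂ b)
include hb

theorem Zv_le_end {n : ℕ} {f : ℕ → Vx} (hn : n < b) (pf : Path n f) (h0 : (f 0).isLeft = true) :
    Zv (f 0) ≤ Q (f n) := by
  by_contra hc
  exact hb.2 n hn ⟨f, pf, h0, hc⟩

theorem fix_end {n : ℕ} {f : ℕ → Vx} (hn : n ≤ b) (pf : Path n f) (h0 : (f 0).isLeft = true)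
    {a : X} (ha : a ∈ Zv (f 0)) : a • f n = f n := by
  cases n with
  | zero => exact mem_stabilizer_iff.mp (h.Q_le_G _ (h.Zv_le_Q _ ha))
  | succ n => exact h.fix_adj (pf n (by omega)) (h.Zv_le_end hb (by omega) (pf.take (by omega)) h0 ha)

theorem comm_ends {n : ℕ} {f : ℕ → Vx} (hn : n < b) (pf : Path n f) (h0 : (f 0).isLeft = true)
    {a c : X} (ha : a ∈ Zv (f 0)) (hc : c ∈ Zv (f n)) : Commute a c :=
  (h.Zv_comm_Q hc (h.Zv_le_end hb hn pf h0 ha)).symm

theorem comm_right {n : ℕ} {f : ℕ → Vx} (hn : n ≤ b) (pf : Path n f) (h0 : (f 0).isLeft = true)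
    (hend : (f n).isLeft = false) {a c : X} (ha : a ∈ Zv (f 0)) (hc : c ∈ Zv (f n)) :
    Commute a c := by
  cases n with
  | zero => rw [h0] at hend; simp at hend
  | succ n =>
    have hl : (f n).isLeft = true := h.left_of_right hend (pf n (by omega)).symm
    exact h.comm_ends hb (by omega) (pf.take (by omega)) h0 ha
      (h.Zv_le_adj hl (pf n (by omega)) hc)

/-- A shortest escaping path does not turn back. -/
theorem escape_nb {f : ℕ → Vx} (pf : Path b f) (h0 : (f 0).isLeft = true)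
    (he : ¬ Zv (f 0) ≤ Q (f b)) : NB b f := by
  refine ⟨pf, fun i hi e => ?_⟩
  set g : ℕ → Vx := fun j => if j ≤ i then f j else f (j + 2) with hg
  refine hb.2 (b - 2) (by omega) ⟨g, fun j hj => ?_, by simp [hg, h0], ?_⟩
  · simp only [hg]
    by_cases h1 : j + 1 ≤ i
    · simp only [h1, show j ≤ i by omega, if_true]
      exact pf j (by omega)
    · by_cases h2 : j ≤ i
      · obtain rfl : j = i := by omega
        simp only [h2, h1, if_true, if_false]
        rw [e]
        exact pf (j + 2) (by omega)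
      · simp only [h1, h2, if_false]
        exact pf (j + 2) (by omega)
  · have e0 : g 0 = f 0 := by simp [hg]
    have eb : g (b - 2) = f b := by
      simp only [hg]
      by_cases h1 : b - 2 ≤ i
      · obtain rfl : i = b - 2 := by omega
        rw [if_pos h1, e, show b - 2 + 2 = b by omega]
      · rw [if_neg h1, show b - 2 + 2 = b by omega]
    rwa [e0, eb]

/-- With transitivity, every walk of the critical length from the left escapes. -/
theorem escape_of_trans (he : Escape M₁ M₂ b) (hT : Trans M₁ M₂ true b) {g : ℕ → Vx}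
    (pg : NB b g) (g0 : (g 0).isLeft = true) : ¬ Zv (g 0) ≤ Q (g b) := by
  obtain ⟨f, pf, f0, hesc⟩ := he
  obtain ⟨q, hq⟩ := hT g f pg (h.escape_nb hb pf f0 hesc) g0 f0
  intro hle
  refine hesc fun x hx => ?_
  have hx' : q⁻¹ * x * q ∈ Zv (g 0) := by
    have := conj_mem_Zv (g := q⁻¹) hx
    rwa [inv_inv, ← hq 0 (by omega), inv_smul_smul] at this
  have := conj_mem_Q (g := q) (hle hx')
  rw [hq b le_rfl] at this
  simpa [mul_assoc] using this

omit hb

/-- The intersection of `O₂` at a right hand vertex and one neighbour is not in that of another. -/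
theorem exists_Q_not_two {v u u' : Vx} (hv : v.isLeft = false) (hu : (Γ).Adj v u)
    (hu' : (Γ).Adj v u') (hne : u ≠ u') : ∃ s ∈ Q u', s ∈ Q v ∧ s ∉ Q u := by
  by_contra! hall
  have hle : Q u' ⊓ Q v ≤ Q u ⊓ Q v := fun s hs => ⟨hall s hs.1 hs.2, hs.2⟩
  obtain ⟨g, hg, hgu⟩ := transitive hu' hu
  have hcs : cs g (Q u' ⊓ Q v) = Q u ⊓ Q v := by
    rw [cs, Subgroup.map_inf _ _ _ (MulAut.conj g).injective]
    show cs g (Q u') ⊓ cs g (Q v) = _
    rw [← Q_smul, ← Q_smul, hgu, mem_stabilizer_iff.mp hg]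
  haveI := h.finite_S v u
  haveI : Finite ↥(Q u ⊓ Q v) := Finite.of_injective
    (Subgroup.inclusion (inf_le_right.trans (h.Q_le_S hu) : Q u ⊓ Q v ≤ S v u))
    (Subgroup.inclusion_injective _)
  have hcard : Nat.card ↥(Q u ⊓ Q v) = Nat.card ↥(Q u' ⊓ Q v) := by
    rw [← hcs]
    exact (Nat.card_congr ((Q u' ⊓ Q v).equivMapOfInjective _ (MulAut.conj g).injective).toEquiv).symm
  have e := Subgroup.eq_of_le_of_card_ge hle hcard.le
  refine h.not_normal (h.left_of_right hv hu) hu.symm ?_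
  rw [← h.sup_S hu hu' hne]
  refine sup_le (le_normalizer_of_conj fun a ha y hy =>
    ⟨h.Q_normal u ha.2 hy.1, h.Q_normal v ha.1 hy.2⟩) ?_
  rw [← e]
  exact le_normalizer_of_conj fun a ha y hy =>
    ⟨h.Q_normal u' ha.2 hy.1, h.Q_normal v ha.1 hy.2⟩

/-- The modules of two neighbours of a right hand vertex meet in its centre. -/
theorem Zv_inter {v u u' : Vx} (hv : v.isLeft = false) (hu : (Γ).Adj v u) (hu' : (Γ).Adj v u')
    (hne : u ≠ u') {x : X} (hx : x ∈ Zv u) (hx' : x ∈ Zv u') : x ∈ Zv v := by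
  obtain ⟨s, hs', hsv, hsu⟩ := h.exists_Q_not_two hv hu hu' hne
  rw [← h.Z_eq_Zv (h.left_of_right hv hu) hu.symm]
  exact h.omega_mem_Z hu.symm (by rw [S_comm]; exact h.Q_le_S hu hsv) hsu (h.Zv_le_omega u hx)
    (h.Zv_comm_Q hx' hs').symm

theorem src_two (τ : Bool) : Src M₁ M₂ τ 2 := by
  obtain ⟨w, hw⟩ := h.exists_of_type τ
  obtain ⟨v, hv⟩ := h.exists_adj w
  obtain ⟨u, hu, hne⟩ := h.exists_ne_adj hv.symm
  obtain ⟨g, hg, hgQ⟩ := h.exists_Q_not hv.symm
  have hgw : g ∈ G w := (h.Q_le_S hv.symm hg).2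
  obtain ⟨x, hx, hgx⟩ := h.exists_moved hgw hgQ
  refine ⟨fun i => if i = 0 then u else if i = 1 then v else w, ⟨fun i hi => ?_, fun i hi => ?_⟩,
    by simpa using hw, g, fun i hi => ?_, x, by simpa using hx, hgx⟩
  · rcases (show i = 0 ∨ i = 1 by omega) with rfl | rfl
    · simpa using hu.symm
    · simpa using hv.symm
  · obtain rfl : i = 0 := by omega
    simpa using hne
  · rcases (show i = 0 ∨ i = 1 ∨ i = 2 by omega) with rfl | rfl | rfl
    · simpa using h.fix_adj hu hg
    · simpa using mem_stabilizer_iff.mp (h.Q_le_G v hg)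
    · simpa using mem_stabilizer_iff.mp hgw

theorem src_three : Src M₁ M₂ true 3 := by
  obtain ⟨y3, hy3⟩ := h.exists_of_type true
  obtain ⟨y2, h32⟩ := h.exists_adj y3
  obtain ⟨y1, h21, hne⟩ := h.exists_ne_adj h32.symm
  obtain ⟨y0, h10, hne0⟩ := h.exists_ne_adj h21.symm
  obtain ⟨g, hg1, hg2, hg3⟩ :=
    h.exists_Q_not_two (h.right_of_left hy3 h32) h32.symm h21 hne.symm
  have hgy3 : g ∈ G y3 := (h.Q_le_S h32.symm hg2).2
  obtain ⟨x, hx, hgx⟩ := h.exists_moved hgy3 hg3
  refine ⟨fun i => if i = 0 then y0 else if i = 1 then y1 else if i = 2 then y2 else y3,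
    ⟨fun i hi => ?_, fun i hi => ?_⟩, by simpa using hy3, g, fun i hi => ?_, x, by simpa using hx, hgx⟩
  · rcases (show i = 0 ∨ i = 1 ∨ i = 2 by omega) with rfl | rfl | rfl
    · simpa using h10.symm
    · simpa using h21.symm
    · simpa using h32.symm
  · rcases (show i = 0 ∨ i = 1 by omega) with rfl | rfl
    · simpa using hne0
    · simpa using hne
  · rcases (show i = 0 ∨ i = 1 ∨ i = 2 ∨ i = 3 by omega) with rfl | rfl | rfl | rfl
    · simpa using h.fix_adj h10 hg1
    · simpa using mem_stabilizer_iff.mp (h.Q_le_G y1 hg1)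
    · simpa using mem_stabilizer_iff.mp (h.Q_le_G y2 hg2)
    · simpa using mem_stabilizer_iff.mp hgy3

theorem trans_three (k : ℕ) (hk : k ≤ 3) (τ : Bool) : Trans M₁ M₂ τ k :=
  h.trans_upto (K := 2) (fun j hj1 hj2 τ => by
    rcases (show j = 1 ∨ j = 2 by omega) with rfl | rfl
    · exact h.src_one τ
    · exact h.src_two τ) k (by omega) τ

theorem root_normal (v : Vx) : G v ≤ Subgroup.normalizer (root v : Set X) := by
  refine le_normalizer_of_conj fun g hg y hy => ?_
  have hle : root v ≤ (root v).comap (MulAut.conj g).toMonoidHom := by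
    refine (Subgroup.closure_le _).mpr fun x hx => Subgroup.subset_closure ?_
    refine ⟨mul_mem (mul_mem hg hx.1) (inv_mem hg), ?_⟩
    show g * x * g⁻¹ * (g * x * g⁻¹) * (g * x * g⁻¹) = 1
    rw [show g * x * g⁻¹ * (g * x * g⁻¹) * (g * x * g⁻¹) = g * (x * x * x) * g⁻¹ by
      simp [mul_assoc], hx.2]
    simp
  simpa using hle hy

/-- A normal subgroup of `G v` with a rotation contains a swap fixing a neighbour. -/
theorem exists_swap {u v : Vx} (hu : u.isLeft = true) (huv : (Γ).Adj u v) {N : Subgroup X}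
    (hn : G v ≤ Subgroup.normalizer (N : Set X)) {x : X} (hxN : x ∈ N) (hx : x ∈ G v)
    (hxu : x • u ≠ u) : ∃ l ∈ N, l ∈ S u v ∧ l ∉ Q u := by
  by_contra! hall
  refine h.not_normal hu huv ?_
  set D := Q u ⊓ Q v with hD
  have hS : S u v ≤ Subgroup.normalizer (D : Set X) := le_normalizer_of_conj fun a ha y hy =>
    ⟨h.Q_normal u ha.1 hy.1, h.Q_normal v ha.2 hy.2⟩
  have hxD : ∀ q ∈ D, x * q * x⁻¹ ∈ D := by
    intro q hq
    have hq' : x * q * x⁻¹ ∈ Q v := h.Q_normal v hx hq.2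
    refine ⟨?_, hq'⟩
    have hl : x * (q * x⁻¹ * q⁻¹) ∈ N :=
      mul_mem hxN ((Subgroup.mem_normalizer_iff.mp (hn (h.Q_le_G v hq.2)) _).mp (inv_mem hxN))
    have hlS : x * (q * x⁻¹ * q⁻¹) ∈ S u v := by
      rw [show x * (q * x⁻¹ * q⁻¹) = x * q * x⁻¹ * q⁻¹ by simp [mul_assoc]]
      refine mul_mem ?_ (inv_mem (h.Q_le_S huv hq.1))
      rw [S_comm]; exact h.Q_le_S huv.symm hq'
    have := mul_mem (hall _ hl hlS) hq.1
    simpa [mul_assoc] using this
  haveI := h.finite_S u v
  haveI : Finite ↥D := Finite.of_injective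
    (Subgroup.inclusion (inf_le_left.trans (h.Q_le_S huv) : D ≤ S u v))
    (Subgroup.inclusion_injective _)
  have hxn : x ∈ Subgroup.normalizer (D : Set X) := by
    have hcs : cs x D = D := by
      refine Subgroup.eq_of_le_of_card_ge (fun y hy => ?_) (le_of_eq
        (Nat.card_congr (D.equivMapOfInjective _ (MulAut.conj x).injective).toEquiv))
      obtain ⟨q, hq, rfl⟩ := hy
      exact hxD q hq
    refine Subgroup.mem_normalizer_iff''.mpr fun y => ?_
    conv_lhs => rw [← hcs]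
    exact mem_cs
  have hle : S v u ≤ G v ⊓ Subgroup.normalizer (D : Set X) :=
    le_inf inf_le_left (by rw [S_comm]; exact hS)
  rcases h.eq_of_le_G huv.symm hle inf_le_left with e | e
  · exfalso
    have : x ∈ G v ⊓ Subgroup.normalizer (D : Set X) := ⟨hx, hxn⟩
    rw [e] at this
    exact hxu (mem_stabilizer_iff.mp this.2)
  · exact e.ge.trans inf_le_right

/-- Centralising the rotations at two neighbours of a left hand vertex forces triviality. -/
theorem central_one {u v v' : Vx} (hu : u.isLeft = true) (huv : (Γ).Adj u v)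
    (huv' : (Γ).Adj u v') (hne : v ≠ v') {y : X} (hy : y ∈ S u v)
    (hc : ∀ x ∈ G v, x * x * x = 1 → Commute y x)
    (hc' : ∀ x ∈ G v', x * x * x = 1 → Commute y x) : y = 1 := by
  have hroot : ∀ w : Vx, (∀ x ∈ G w, x * x * x = 1 → Commute y x) →
      ∀ l ∈ root w, Commute y l := by
    intro w hw l hl
    have : root w ≤ Subgroup.centralizer ({y} : Set X) :=
      (Subgroup.closure_le _).mpr fun x hx =>
        Subgroup.mem_centralizer_singleton_iff.mpr (hw x hx.1 hx.2).symm.eq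
    exact (Subgroup.mem_centralizer_singleton_iff.mp (this hl)).symm
  set T := Subgroup.zpowers y with hT
  have hcn : ∀ g, Commute y g → g ∈ Subgroup.normalizer (T : Set X) := fun g hg =>
    Subgroup.centralizer_le_normalizer _ (mem_centralizer_of fun z hz => by
      obtain ⟨n, rfl⟩ := Subgroup.mem_zpowers_iff.mp hz
      exact hg.symm.zpow_right n)
  have hTS : T ≤ S u v := by rw [hT, Subgroup.zpowers_le]; exact hy
  have swap : ∀ w : Vx, (Γ).Adj u w → (∀ x ∈ G w, x * x * x = 1 → Commute y x) →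
      ∃ l ∈ S u w, l ∉ Q u ∧ Commute y l := by
    intro w hw hcw
    obtain ⟨x, hx, hx3, hx1, -⟩ := h.exists_rot hw.symm
    obtain ⟨l, hl, hlS, hlQ⟩ := h.exists_swap hu hw (h.root_normal w)
      (Subgroup.subset_closure ⟨hx, hx3⟩) hx hx1
    exact ⟨l, hlS, hlQ, hroot w hcw l hl⟩
  obtain ⟨l, hl, hlQ, hly⟩ := swap v huv hc
  obtain ⟨l', hl', hlQ', hly'⟩ := swap v' huv' hc'
  obtain ⟨n, hn, hnv, hnv'⟩ := h.exists_third huv huv'
  obtain ⟨x, hx, hx3, hx1, hx2, hx12, hall⟩ := h.exists_rot huv.symm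
  have orbit : ∀ (H : Subgroup X) (w₀ : Vx) (P : Vx → Prop), (∀ w, P w → ∃ g ∈ H, g • w₀ = w) →
      ∀ a c, P a → P c → ∃ g ∈ H, g • a = c := by
    intro H w₀ P hP a c ha hc
    obtain ⟨g, hg, rfl⟩ := hP a ha
    obtain ⟨g', hg', rfl⟩ := hP c hc
    exact ⟨g' * g⁻¹, mul_mem hg' (inv_mem hg), by rw [mul_smul, inv_smul_smul]⟩
  have hbot : T = ⊥ := eq_bot_of_transitive h.amalgam huv hTS
    (orbit _ v (fun w => (Γ).Adj u w) (fun w hw => by
      have hl'n : l' • v = n := by
        rcases h.two_others huv' huv hn (h.smul_adj huv hl'.1) hne hnv'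
          (fun e => hne (smul_left_cancel l' (e.trans (mem_stabilizer_iff.mp hl'.2).symm))) hnv.symm
          with e | e
        · exact absurd e (h.smul_ne huv' huv hne hl' hlQ')
        · exact e
      have hln : l • n = v' := by
        rcases h.two_others huv huv' hn (h.smul_adj hn hl.1) hne.symm hnv
          (fun e => hnv (smul_left_cancel l (e.trans (mem_stabilizer_iff.mp hl.2).symm))) hnv'.symm
          with e | e
        · exact e
        · exact absurd e (h.smul_ne huv hn hnv hl hlQ)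
      rcases h.three huv huv' hn hw hne hnv.symm hnv'.symm with e | e | e <;> subst e
      · exact ⟨1, one_mem _, one_smul _ _⟩
      · exact ⟨l * l', ⟨mul_mem (hcn l hly) (hcn l' hly'), mul_mem hl.1 hl'.1⟩,
          by rw [mul_smul, hl'n, hln]⟩
      · exact ⟨l', ⟨hcn l' hly', hl'.1⟩, hl'n⟩))
    (orbit _ u (fun w => (Γ).Adj v w) (fun w hw => by
      rcases hall w hw with e | e | e <;> subst e
      · exact ⟨1, one_mem _, one_smul _ _⟩
      · exact ⟨x, ⟨hcn x (hc x hx hx3), hx⟩, rfl⟩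
      · exact ⟨x * x, ⟨hcn _ ((hc x hx hx3).mul_right (hc x hx hx3)), mul_mem hx hx⟩, rfl⟩))
  rw [hT, Subgroup.zpowers_eq_bot] at hbot
  exact hbot

end Setting

end Cfsg.Lib.GoldBound
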